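import Mathlib

set_option autoImplicit false

namespace Cfsg.Agent.Lib.Helper17

open MulAction SubMulAction

/-- If `G` is `m`-transitive and the fixing subgroup of an `m`-set is `k`-transitive on the
complement, then `G` is `(m + k)`-transitive. -/
theorem isMultiplyPretransitive_add_of_fixingSubgroup {G α : Type*} [Group G] [MulAction G α]
    [Finite α] (m k : ℕ) (s : Set α) (hs : s.ncard = m)
    (hm : IsMultiplyPretransitive G α m)
    (hk : IsMultiplyPretransitive (fixingSubgroup G s) (ofFixingSubgroup G s) k) :
    IsMultiplyPretransitive G α (m + k) := by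
  induction m generalizing G α s with
  | zero =>
    have hs0 : s = ∅ := by
      rwa [Set.ncard_eq_zero] at hs
    subst hs0
    rw [zero_add]
    exact (IsPretransitive.of_embedding_congr
      (of_fixingSubgroupEmpty_mapScalars_surjective (M := G) (α := α))
      (ofFixingSubgroupEmpty_equivariantMap_bijective (M := G) (α := α))).mp hk
  | succ m ih =>
    have hne : s.Nonempty := by
      rw [← Set.ncard_pos, hs]; exact Nat.succ_pos m
    obtain ⟨a, ha⟩ := hne
    have hcard : m + 1 ≤ Nat.card α := by
      rw [← hs, ← Set.ncard_univ]
      exact Set.ncard_le_ncard (Set.subset_univ s) Set.finite_univ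
    have hGX : IsPretransitive G α := by
      rw [← is_one_pretransitive_iff]
      exact isMultiplyPretransitive_of_le (n := m + 1) (Nat.succ_le_succ (Nat.zero_le m)) hcard
    let t : Set (SubMulAction.ofStabilizer G a) := Subtype.val ⁻¹' s
    have hst : s = insert a (Subtype.val '' t) := by
      ext x
      by_cases hx : x = a <;> simp [hx, mem_ofStabilizer_iff, ha, t]
    have ha' : a ∉ Subtype.val '' t := by
      intro h; rw [Set.mem_image] at h; obtain ⟨x, hx⟩ := h
      apply x.prop; rw [hx.right]; exact Set.mem_singleton a
    have htcard : t.ncard = m := by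
      rw [← Set.ncard_image_of_injective t Subtype.val_injective]
      apply Nat.add_right_cancel
      rw [← Set.ncard_insert_of_notMem ha', ← hst, hs]
    have h1 : IsMultiplyPretransitive (fixingSubgroup G (insert a (Subtype.val '' t)))
        (ofFixingSubgroup G (insert a (Subtype.val '' t))) k :=
      (IsPretransitive.of_embedding_congr (MulEquiv.surjective _)
        (ofFixingSubgroup_of_eq_bijective (M := G) (hst := hst))).mp hk
    have h2 : IsMultiplyPretransitive (fixingSubgroup (stabilizer G a) t)
        (ofFixingSubgroup (stabilizer G a) t) k :=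
      (IsPretransitive.of_embedding_congr (MulEquiv.surjective _)
        (ofFixingSubgroup_insert_map_bijective (M := G) (a := a) (s := t))).mp h1
    have h3 : IsMultiplyPretransitive (stabilizer G a) (ofStabilizer G a) m :=
      (ofStabilizer.isMultiplyPretransitive (G := G) (a := a)).mp hm
    have := ih t htcard h3 h2
    rw [show m + 1 + k = (m + k).succ by omega]
    exact (ofStabilizer.isMultiplyPretransitive (G := G) (a := a)).mpr this

end Cfsg.Agent.Lib.Helper17

namespace Cfsg.Agent.Lib.Helper17

open MulAction SubMulAction

/-- In a `k`-transitive action, any permutation of `α` can be realised on a given `k`-subset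
by a group element. -/
theorem exists_smul_eq_of_card_eq {G α : Type*} [Group G] [MulAction G α] {k : ℕ}
    (hk : IsMultiplyPretransitive G α k) (s : Finset α) (hs : s.card = k) (σ : Equiv.Perm α) :
    ∃ y : G, ∀ a ∈ s, y • a = σ a := by
  let e : s ≃ Fin k := s.equivFinOfCardEq hs
  let x : Fin k ↪ α := e.symm.toEmbedding.trans (Function.Embedding.subtype _)
  let x' : Fin k ↪ α := x.trans σ.toEmbedding
  obtain ⟨y, hy⟩ := hk.exists_smul_eq x x'
  refine ⟨y, fun a ha => ?_⟩
  have h1 : x (e ⟨a, ha⟩) = a := by
    simp [x]
  have h2 := congrArg (fun z : Fin k ↪ α => z (e ⟨a, ha⟩)) hy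
  simp only [Function.Embedding.smul_apply] at h2
  rw [h1] at h2
  rw [h2]
  simp [x', h1]

/-- In a `k`-transitive action on a finite type, any permutation of `α` can be realised on a
given subset of size at most `k` by a group element. -/
theorem exists_smul_eq_of_card_le {G α : Type*} [Group G] [MulAction G α] [Finite α] {k : ℕ}
    (hk : IsMultiplyPretransitive G α k) (hkα : k ≤ Nat.card α) (s : Finset α) (hs : s.card ≤ k)
    (σ : Equiv.Perm α) : ∃ y : G, ∀ a ∈ s, y • a = σ a := by
  have : IsMultiplyPretransitive G α s.card := isMultiplyPretransitive_of_le hs hkα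
  exact exists_smul_eq_of_card_eq this s rfl σ

end Cfsg.Agent.Lib.Helper17
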