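import Mathlib
import Cfsg.Agent.Lib.Helper34.FrobTI
import Cfsg.Agent.Lib.Helper34.GenChar2
import Cfsg.Agent.Lib.Helper04.IndFun
import Cfsg.Agent.Lib.Helper04.RelSylSurj
import Cfsg.Agent.Lib.Helper83.Abelian
import Cfsg.Agent.Lib.Helper83.Linear
import Cfsg.Agent.Lib.Helper23.Exceptional

/-!
# Feit's bound for Zassenhaus groups with abelian kernel: the character-theoretic core

`N` is a subgroup of `G`, `KN` a normal abelian subgroup of `N` containing the centralizers
(in `N`) of its nonidentity elements, `N / KN` abelian.  Given the exceptional characters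
(`ε`, `f`) attached to the relevant characters of `N`, we show that many relevant characters
are impossible.
-/

set_option autoImplicit false
set_option linter.unusedSectionVars false
set_option linter.style.haveILetI false

namespace Cfsg.Agent.Lib.Helper17.FeitCore

open Cfsg Cfsg.Agent.Lib.Helper34
open scoped ComplexConjugate

section General

variable {G : Type*} [Group G] [Fintype G]

/-- the degree of a character is the sum of the degrees of its constituents -/
theorem charDegree_eq_sum [Fintype (IrrCharacter G)] {χ : G → ℂ} (hχ : IsCharacter G χ) :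
    charDegree χ = ∑ ψ : IrrCharacter G,
      Cfsg.Agent.Lib.Helper83.irrMult χ ψ * charDegree (ψ : G → ℂ) := by
  have h1 := congrFun (Cfsg.Agent.Lib.Helper83.char_eq_sum_irrMult hχ) 1
  rw [Finset.sum_apply] at h1
  have h2 : (charDegree χ : ℂ) = ((∑ ψ : IrrCharacter G,
      Cfsg.Agent.Lib.Helper83.irrMult χ ψ * charDegree (ψ : G → ℂ) : ℕ) : ℂ) := by
    rw [Cfsg.Agent.Lib.Helper83.charDegree_cast hχ, h1]
    push_cast
    apply Finset.sum_congr rfl
    intro ψ _
    rw [Pi.smul_apply, smul_eq_mul,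
      Cfsg.Agent.Lib.Helper83.charDegree_cast (Cfsg.Agent.Lib.Helper83.IrrCharacter_isCharacter ψ)]
  exact_mod_cast h2

/-- the norm of a character is the sum of the squares of the multiplicities -/
theorem norm_eq_sum_sq [Fintype (IrrCharacter G)] {χ : G → ℂ} (hχ : IsCharacter G χ) :
    classInner χ χ = ((∑ ψ : IrrCharacter G,
      Cfsg.Agent.Lib.Helper83.irrMult χ ψ ^ 2 : ℕ) : ℂ) := by
  have h1 := Cfsg.Agent.Lib.Helper83.char_eq_sum_irrMult hχ
  have h2 := Cfsg.Agent.Lib.Helper83.classInner_sum_irr_self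
    (fun ψ : IrrCharacter G => (Cfsg.Agent.Lib.Helper83.irrMult χ ψ : ℂ))
  rw [← h1] at h2
  rw [h2]
  push_cast
  apply Finset.sum_congr rfl
  intro ψ _
  rw [Complex.conj_natCast, sq]

end General

section Core

open Cfsg.Agent.Lib.Helper23.Exceptional

variable {G : Type*} [Group G] [Fintype G] (N : Subgroup G) [Fintype N] (KN : Subgroup N)
  [hKN : KN.Normal]
  (hC : ∀ k ∈ KN, k ≠ 1 → Subgroup.centralizer ({k} : Set N) ≤ KN)
  (hab : ∀ a ∈ KN, ∀ b ∈ KN, a * b = b * a)
  (hquot : ∀ a b : N, a * b * a⁻¹ * b⁻¹ ∈ KN)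

/-- the relevant characters -/
abbrev RelC : Type _ := Cfsg.Agent.Lib.Helper23.Exceptional.Rel N KN

/-- the irreducible characters of `N` with `K` in their kernel -/
def NonRel (θ : IrrCharacter N) : Prop := ∀ k ∈ KN, (θ : N → ℂ) k = (θ : N → ℂ) 1

theorem frobRel_of_not_nonRel {θ : IrrCharacter N} (h : ¬ NonRel N KN θ) :
    FrobRel KN (θ : N → ℂ) := by
  refine ⟨θ.2, ?_⟩
  unfold NonRel at h
  push Not at h
  exact h

include hquot in
/-- an irreducible character with `K` in its kernel is linear -/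
theorem nonRel_linear {θ : IrrCharacter N} (h : NonRel N KN θ) : (θ : N → ℂ) 1 = 1 := by
  have hπ : Function.Surjective (QuotientGroup.mk' KN) := QuotientGroup.mk'_surjective KN
  obtain ⟨β, hβ⟩ := Cfsg.Agent.Lib.Helper04.exists_irr_of_surjective (QuotientGroup.mk' KN) hπ θ
    (by
      intro a ha
      rw [QuotientGroup.mk'_apply, QuotientGroup.eq_one_iff] at ha
      exact h a ha)
  have hcomm : ∀ x y : N ⧸ KN, x * y = y * x := by
    intro x y
    induction x using QuotientGroup.induction_on with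
    | H a =>
      induction y using QuotientGroup.induction_on with
      | H b =>
        rw [← QuotientGroup.mk_mul, ← QuotientGroup.mk_mul, QuotientGroup.eq]
        have := hquot b⁻¹ a⁻¹
        simpa [mul_assoc] using this
  have h1 := Cfsg.Agent.Lib.Helper83.irr_degree_one_of_comm hcomm β
  have h2 := hβ 1
  rw [map_one] at h2
  rw [← h2, h1]

include hC hab in
theorem rel_charDegree (χ : RelC N KN) : charDegree (χ.1 : N → ℂ) = KN.index := by
  have h1 := rel_degree N KN hC hab (Cfsg.Agent.Lib.Helper23.Exceptional.Rel.frobRel N KN χ)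
  have h2 := Cfsg.Agent.Lib.Helper83.charDegree_cast
    (Cfsg.Agent.Lib.Helper83.IrrCharacter_isCharacter χ.1)
  rw [h1] at h2
  exact_mod_cast h2

include hquot in
theorem nonRel_charDegree {θ : IrrCharacter N} (h : NonRel N KN θ) :
    charDegree (θ : N → ℂ) = 1 := by
  have h1 := nonRel_linear N KN hquot h
  have h2 := Cfsg.Agent.Lib.Helper83.charDegree_cast
    (Cfsg.Agent.Lib.Helper83.IrrCharacter_isCharacter θ)
  rw [h1] at h2
  exact_mod_cast h2

include hC hab in
theorem card_rel_nat : Nat.card (RelC N KN) * KN.index + 1 = Nat.card KN := by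
  have := card_rel N KN hC hab
  exact_mod_cast this

include hC hab hquot in
/-- there are exactly `[N : K]` irreducible characters with `K` in the kernel -/
theorem card_nonRel [Fintype (IrrCharacter N)] [DecidablePred (NonRel N KN)] :
    (Finset.univ.filter (fun θ : IrrCharacter N => NonRel N KN θ)).card = KN.index := by
  classical
  have h1 := Cfsg.Agent.Lib.Helper83.sum_charDegree_sq (G := N)
  have h2 : ∑ θ : IrrCharacter N, (charDegree (θ : N → ℂ)) ^ 2 =
      ∑ θ : IrrCharacter N, if NonRel N KN θ then 1 else KN.index ^ 2 := by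
    apply Finset.sum_congr rfl
    intro θ _
    by_cases h : NonRel N KN θ
    · rw [if_pos h, nonRel_charDegree N KN hquot h, one_pow]
    · rw [if_neg h]
      have := rel_charDegree N KN hC hab ⟨θ, (frobRel_of_not_nonRel N KN h).2⟩
      rw [this]
  rw [h2, Finset.sum_ite, Finset.sum_const, Finset.sum_const, smul_eq_mul, smul_eq_mul,
    mul_one] at h1
  have h3 : (Finset.univ.filter (fun θ : IrrCharacter N => ¬ NonRel N KN θ)).card =
      Nat.card (RelC N KN) := by
    rw [Nat.card_eq_fintype_card, Fintype.card_subtype]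
    congr 1
    ext θ
    simp only [Finset.mem_filter, Finset.mem_univ, true_and, NonRel]
    push Not
    simp
  rw [h3] at h1
  have h4 := card_rel_nat N KN hC hab
  have h5 := Subgroup.card_mul_index KN
  have he : 0 < KN.index := Nat.pos_of_ne_zero Subgroup.index_ne_zero_of_finite
  -- #P + t e^2 = |KN| e = (t e + 1) e
  have h6 : (Finset.univ.filter (fun θ : IrrCharacter N => NonRel N KN θ)).card +
      Nat.card (RelC N KN) * KN.index ^ 2 = (Nat.card (RelC N KN) * KN.index + 1) * KN.index := by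
    rw [h1, h4, h5]
  nlinarith [h6]

variable (hindK : ∀ ψ : N → ℂ, IsClassFunction N ψ → (∀ x : N, x ∉ KN → ψ x = 0) →
    ∀ t : N, t ∈ KN → t ≠ 1 → indFun N ψ (t : G) = ψ t)
  (hidx : N.index = Nat.card KN + 1)

include hC hab hindK hidx in
/-- the norm of the character induced from a relevant character -/
theorem norm_ind_rel (χ : RelC N KN) :
    classInner (indFun N (χ.1 : N → ℂ)) (indFun N (χ.1 : N → ℂ)) = (KN.index : ℂ) + 1 := by
  classical
  have hrel := Cfsg.Agent.Lib.Helper23.Exceptional.Rel.frobRel N KN χ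
  have hcf : IsClassFunction N (χ.1 : N → ℂ) := rel_isClassFunction N KN χ
  rw [classInner_indFun_left N _ _ (indFun_isClassFunction N _), classInner_def]
  have hdeg := rel_degree N KN hC hab hrel
  have key : ∀ n : N, (χ.1 : N → ℂ) n * conj (indFun N (χ.1 : N → ℂ) (n : G)) =
      (χ.1 : N → ℂ) n * conj ((χ.1 : N → ℂ) n) +
        if n = 1 then (KN.index : ℂ) * ((Nat.card KN : ℂ) * (KN.index : ℂ)) else 0 := by
    intro n
    by_cases hn1 : n = 1
    · rw [if_pos hn1, hn1, Subgroup.coe_one, Cfsg.Agent.Lib.Helper83.indFun_one_eq, hdeg, hidx]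
      push_cast
      simp only [map_mul, map_add, Complex.conj_natCast, map_one]
      ring
    · rw [if_neg hn1, add_zero]
      by_cases hn : n ∈ KN
      · rw [hindK _ hcf (fun x hx => hrel.vanish KN hC hx) n hn hn1]
      · rw [hrel.vanish KN hC hn, zero_mul, zero_mul]
  rw [Finset.sum_congr rfl (fun n _ => key n), Finset.sum_add_distrib]
  simp only [Finset.sum_ite_eq', Finset.mem_univ, if_true]
  have hnorm := Cfsg.Agent.Lib.Helper83.irr_orthonormal χ.1 χ.1
  rw [if_pos rfl, classInner_def] at hnorm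
  have hN0 : (Nat.card N : ℂ) ≠ 0 := by exact_mod_cast (Nat.card_pos (α := N)).ne'
  have hsum : ∑ n : N, (χ.1 : N → ℂ) n * conj ((χ.1 : N → ℂ) n) = (Nat.card N : ℂ) := by
    field_simp at hnorm
    exact hnorm
  rw [hsum]
  have hcard : (Nat.card N : ℂ) = (Nat.card KN : ℂ) * (KN.index : ℂ) := by
    exact_mod_cast (Subgroup.card_mul_index KN).symm
  have hK0 : (Nat.card KN : ℂ) ≠ 0 := by exact_mod_cast (Nat.card_pos (α := KN)).ne'
  have he0 : (KN.index : ℂ) ≠ 0 := by
    exact_mod_cast (Subgroup.index_ne_zero_of_finite (H := KN))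
  rw [hcard]
  field_simp
  ring

variable (ε : ℂ) (f : RelC N KN → IrrCharacter G) (hε : ε = 1 ∨ ε = -1)
  (hf : Function.Injective f)
  (hfε : ∀ χ ξ : RelC N KN, indFun N ((χ.1 : N → ℂ) - (ξ.1 : N → ℂ)) =
    ε • ((f χ : G → ℂ) - (f ξ : G → ℂ)))

include hfε in
theorem inner_ind_diff (χ ξ : RelC N KN) (ψ : IrrCharacter G) [Decidable (f χ = ψ)]
    [Decidable (f ξ = ψ)] :
    classInner (indFun N (χ.1 : N → ℂ)) (ψ : G → ℂ) -
      classInner (indFun N (ξ.1 : N → ℂ)) (ψ : G → ℂ) =
      ε * ((if f χ = ψ then 1 else 0) - (if f ξ = ψ then 1 else 0)) := by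
  rw [← classInner_sub_left, ← indFun_sub, hfε, classInner_smul_left, classInner_sub_left,
    Cfsg.Agent.Lib.Helper83.irr_orthonormal, Cfsg.Agent.Lib.Helper83.irr_orthonormal]
  congr

/-- an irreducible character of `G` orthogonal to all characters induced from relevant
characters has `K` in its kernel -/
theorem ker_of_orth (ψ : IrrCharacter G)
    (h : ∀ χ : RelC N KN, classInner (indFun N (χ.1 : N → ℂ)) (ψ : G → ℂ) = 0) :
    ∀ k : N, k ∈ KN → (ψ : G → ℂ) (k : G) = (ψ : G → ℂ) 1 := by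
  classical
  haveI : Finite (IrrCharacter N) := Cfsg.Agent.Lib.Helper05.finite_irrCharacter
  letI : Fintype (IrrCharacter N) := Fintype.ofFinite _
  intro k hk
  have hψc := Cfsg.Agent.Lib.Helper83.IrrCharacter_isCharacter ψ
  have hres : IsCharacter N (fun n : N => (ψ : G → ℂ) (n : G)) :=
    Cfsg.Agent.Lib.Helper83.isCharacter_restrict N hψc
  have hdec := Cfsg.Agent.Lib.Helper83.classFunction_eq_sum_irr
    (Cfsg.Agent.Lib.Helper83.char_isClassFunction hres)
  have h1 := congrFun hdec k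
  have h2 := congrFun hdec 1
  rw [Finset.sum_apply] at h1 h2
  simp only [Subgroup.coe_one] at h2
  rw [h1, h2]
  apply Finset.sum_congr rfl
  intro θ _
  rw [Pi.smul_apply, Pi.smul_apply]
  by_cases hθ : NonRel N KN θ
  · rw [hθ k hk]
  · have h3 := h ⟨θ, (frobRel_of_not_nonRel N KN hθ).2⟩
    rw [classInner_indFun_left N _ _ (Cfsg.Agent.Lib.Helper83.char_isClassFunction hψc)] at h3
    have h4 : classInner (fun n : N => (ψ : G → ℂ) (n : G)) (θ : N → ℂ) = 0 := by
      rw [← classInner_conj_symm, h3, map_zero]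
    rw [h4, zero_smul, zero_smul]

variable (hker : ∀ ψ : IrrCharacter G,
    (∀ k : N, k ∈ KN → (ψ : G → ℂ) (k : G) = (ψ : G → ℂ) 1) →
    ψ = Cfsg.Agent.Lib.Helper83.trivChar G)

/-- the multiplicity of `ψ` in the character induced from `χ` -/
noncomputable def bmul (χ : RelC N KN) (ψ : IrrCharacter G) : ℕ :=
  Cfsg.Agent.Lib.Helper83.irrMult (indFun N (χ.1 : N → ℂ)) ψ

theorem bmul_cast (χ : RelC N KN) (ψ : IrrCharacter G) :
    (bmul N KN χ ψ : ℂ) = classInner (indFun N (χ.1 : N → ℂ)) (ψ : G → ℂ) :=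
  Cfsg.Agent.Lib.Helper83.irrMult_cast
    (isCharacter_indFun N (Cfsg.Agent.Lib.Helper83.IrrCharacter_isCharacter χ.1)) ψ

include hC hab hindK hidx hf hfε hker in
theorem sum_range_le_one [Fintype (IrrCharacter G)] [Fintype (RelC N KN)]
    (hcount : 1 + Fintype.card (RelC N KN) + KN.index ≤ Fintype.card (IrrCharacter G))
    (χ : RelC N KN) : ∑ r : RelC N KN, bmul N KN χ (f r) ^ 2 ≤ 1 := by
  classical
  have htot : ∑ ψ : IrrCharacter G, bmul N KN χ ψ ^ 2 = KN.index + 1 := by
    have h1 := norm_eq_sum_sq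
      (isCharacter_indFun N (Cfsg.Agent.Lib.Helper83.IrrCharacter_isCharacter χ.1))
    rw [norm_ind_rel N KN hC hab hindK hidx χ] at h1
    have h2 : ((∑ ψ : IrrCharacter G, bmul N KN χ ψ ^ 2 : ℕ) : ℂ) = ((KN.index + 1 : ℕ) : ℂ) := by
      unfold bmul
      rw [← h1]
      push_cast
      rfl
    exact_mod_cast h2
  set T : Finset (IrrCharacter G) := Finset.univ.image f with hT
  set S : Finset (IrrCharacter G) :=
    (Finset.univ \ T).erase (Cfsg.Agent.Lib.Helper83.trivChar G) with hS
  have hTcard : T.card = Fintype.card (RelC N KN) := by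
    rw [hT, Finset.card_image_of_injective _ hf, Finset.card_univ]
  have hScard : KN.index ≤ S.card := by
    have h1 : (Finset.univ \ T).card = Fintype.card (IrrCharacter G) - T.card := by
      rw [Finset.card_sdiff_of_subset (Finset.subset_univ T), Finset.card_univ]
    have h2 : (Finset.univ \ T).card - 1 ≤ S.card := Finset.pred_card_le_card_erase
    omega
  have hSpos : ∀ ψ ∈ S, 1 ≤ bmul N KN χ ψ ^ 2 := by
    intro ψ hψ
    rw [hS, Finset.mem_erase, Finset.mem_sdiff] at hψ
    obtain ⟨hne, -, hnT⟩ := hψ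
    have hnf : ∀ r, f r ≠ ψ := fun r hr =>
      hnT (by rw [hT]; exact Finset.mem_image.mpr ⟨r, Finset.mem_univ _, hr⟩)
    by_contra hlt
    have h0 : bmul N KN χ ψ = 0 := by
      by_contra h0
      exact hlt (Nat.one_le_pow _ _ (Nat.pos_of_ne_zero h0))
    apply hne
    apply hker
    apply ker_of_orth N KN ψ
    intro ξ
    have hd := inner_ind_diff N KN ε f hfε ξ χ ψ
    rw [if_neg (hnf ξ), if_neg (hnf χ), sub_self, mul_zero, ← bmul_cast N KN χ ψ, h0,
      Nat.cast_zero, sub_zero] at hd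
    exact hd
  have hsplit : ∑ ψ : IrrCharacter G, bmul N KN χ ψ ^ 2 =
      ∑ ψ ∈ T, bmul N KN χ ψ ^ 2 + ∑ ψ ∈ Finset.univ \ T, bmul N KN χ ψ ^ 2 := by
    rw [add_comm, Finset.sum_sdiff (Finset.subset_univ T)]
  have hSsub : S ⊆ Finset.univ \ T := Finset.erase_subset _ _
  have h3 : S.card ≤ ∑ ψ ∈ Finset.univ \ T, bmul N KN χ ψ ^ 2 := by
    calc S.card = ∑ ψ ∈ S, 1 := by simp
      _ ≤ ∑ ψ ∈ S, bmul N KN χ ψ ^ 2 := Finset.sum_le_sum hSpos
      _ ≤ _ := Finset.sum_le_sum_of_subset hSsub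
  have h4 : ∑ ψ ∈ T, bmul N KN χ ψ ^ 2 = ∑ r : RelC N KN, bmul N KN χ (f r) ^ 2 := by
    rw [hT, Finset.sum_image (fun a _ b _ h => hf h)]
  omega

include hε hf hfε in
theorem exc_delta [Fintype (RelC N KN)] [DecidableEq (RelC N KN)]
    (ht : 3 ≤ Fintype.card (RelC N KN))
    (hsum : ∀ χ : RelC N KN, ∑ r : RelC N KN, bmul N KN χ (f r) ^ 2 ≤ 1) :
    ε = 1 ∧ ∀ χ r : RelC N KN, bmul N KN χ (f r) = if χ = r then 1 else 0 := by
  classical
  have hexcl : ∀ χ r r' : RelC N KN, r ≠ r' → bmul N KN χ (f r) ≠ 0 →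
      bmul N KN χ (f r') = 0 := by
    intro χ r r' hrr h0
    have h1 : ∑ x ∈ ({r, r'} : Finset (RelC N KN)), bmul N KN χ (f x) ^ 2 ≤
        ∑ x : RelC N KN, bmul N KN χ (f x) ^ 2 :=
      Finset.sum_le_sum_of_subset (Finset.subset_univ _)
    rw [Finset.sum_pair hrr] at h1
    have h2 := hsum χ
    have h3 : 1 ≤ bmul N KN χ (f r) ^ 2 := Nat.one_le_pow _ _ (Nat.pos_of_ne_zero h0)
    have h4 : bmul N KN χ (f r') ^ 2 = 0 := by omega
    exact pow_eq_zero_iff (two_ne_zero) |>.mp h4
  have hdiff : ∀ χ ξ r : RelC N KN, (bmul N KN χ (f r) : ℂ) - (bmul N KN ξ (f r) : ℂ) =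
      ε * ((if χ = r then 1 else 0) - (if ξ = r then 1 else 0)) := by
    intro χ ξ r
    rw [bmul_cast, bmul_cast, inner_ind_diff N KN ε f hfε χ ξ (f r)]
    simp only [hf.eq_iff]
  have hε0 : ε ≠ 0 := by
    rcases hε with h | h <;> rw [h] <;> norm_num
  -- off-diagonal entries vanish
  have hoff : ∀ χ r : RelC N KN, χ ≠ r → bmul N KN χ (f r) = 0 := by
    intro χ₀ r0 hne
    by_contra h0
    have hall : ∀ χ : RelC N KN, χ ≠ r0 → bmul N KN χ (f r0) ≠ 0 := by
      intro χ hχ
      have hd := hdiff χ χ₀ r0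
      rw [if_neg hχ, if_neg hne, sub_self, mul_zero, sub_eq_zero] at hd
      have : bmul N KN χ (f r0) = bmul N KN χ₀ (f r0) := by exact_mod_cast hd
      rw [this]
      exact h0
    obtain ⟨a, b, c, hab', hac, hbc⟩ := Fintype.two_lt_card_iff.mp (by omega : 2 < Fintype.card (RelC N KN))
    obtain ⟨χ₁, χ₂, h12, h1, h2⟩ : ∃ χ₁ χ₂ : RelC N KN, χ₁ ≠ χ₂ ∧ χ₁ ≠ r0 ∧ χ₂ ≠ r0 := by
      by_cases ha : a = r0
      · exact ⟨b, c, hbc, fun h => hab' (ha.trans h.symm), fun h => hac (ha.trans h.symm)⟩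
      · by_cases hb : b = r0
        · exact ⟨a, c, hac, ha, fun h => hbc (hb.trans h.symm)⟩
        · exact ⟨a, b, hab', ha, hb⟩
    have e1 : bmul N KN χ₁ (f χ₁) = 0 := hexcl χ₁ r0 χ₁ (Ne.symm h1) (hall χ₁ h1)
    have e2 : bmul N KN χ₂ (f χ₁) = 0 := hexcl χ₂ r0 χ₁ (Ne.symm h1) (hall χ₂ h2)
    have hd := hdiff χ₁ χ₂ χ₁
    rw [e1, e2, if_pos rfl, if_neg (Ne.symm h12)] at hd
    apply hε0
    have : ε * (1 - 0) = 0 := by rw [← hd]; simp
    simpa using this
  -- diagonal entries
  have hdiag : ∀ r : RelC N KN, (bmul N KN r (f r) : ℂ) = ε := by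
    intro r
    obtain ⟨ξ, hξ⟩ : ∃ ξ : RelC N KN, ξ ≠ r := by
      obtain ⟨a, b, c, hab', hac, hbc⟩ := Fintype.two_lt_card_iff.mp (by omega : 2 < Fintype.card (RelC N KN))
      by_cases ha : a = r
      · exact ⟨b, fun h => hab' (ha.trans h.symm)⟩
      · exact ⟨a, ha⟩
    have hd := hdiff r ξ r
    rw [hoff ξ r hξ, if_pos rfl, if_neg hξ] at hd
    simpa using hd
  have hε1 : ε = 1 := by
    rcases hε with h | h
    · exact h
    · exfalso
      obtain ⟨a, -⟩ := Fintype.two_lt_card_iff.mp (by omega : 2 < Fintype.card (RelC N KN))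
      have h1 := hdiag a
      rw [h] at h1
      have h2 : ((bmul N KN a (f a) + 1 : ℕ) : ℂ) = 0 := by
        push_cast
        rw [h1]
        ring
      have h3 : bmul N KN a (f a) + 1 = 0 := by exact_mod_cast h2
      omega
  refine ⟨hε1, ?_⟩
  intro χ r
  by_cases h : χ = r
  · rw [if_pos h, h]
    have h1 := hdiag r
    rw [hε1] at h1
    exact_mod_cast h1
  · rw [if_neg h]
    exact hoff χ r h

variable (hind0 : ∀ ϑ : N → ℂ, IsClassFunction N ϑ → (∀ x : N, x ∉ KN → ϑ x = 0) → ϑ 1 = 0 →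
    ∀ x : N, indFun N ϑ (x : G) = ϑ x)

include hC hab hfε hind0 in
theorem res_diff (hε1 : ε = 1) (r l : RelC N KN) (n : N) :
    (f r : G → ℂ) (n : G) - (f l : G → ℂ) (n : G) = (r.1 : N → ℂ) n - (l.1 : N → ℂ) n := by
  have hr := Cfsg.Agent.Lib.Helper23.Exceptional.Rel.frobRel N KN r
  have hl := Cfsg.Agent.Lib.Helper23.Exceptional.Rel.frobRel N KN l
  have h1 := hind0 ((r.1 : N → ℂ) - (l.1 : N → ℂ))
    (Cfsg.Agent.Lib.Helper83.isClassFunction_sub (rel_isClassFunction N KN r)
      (rel_isClassFunction N KN l))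
    (fun x hx => by rw [Pi.sub_apply, hr.vanish KN hC hx, hl.vanish KN hC hx, sub_zero])
    (by rw [Pi.sub_apply, rel_degree N KN hC hab hr, rel_degree N KN hC hab hl, sub_self]) n
  rw [hfε, hε1, one_smul] at h1
  exact h1

/-- the restriction to `N` -/
def resN (ψ : G → ℂ) : N → ℂ := fun n => ψ (n : G)

theorem resN_isCharacter {ψ : G → ℂ} (hψ : IsCharacter G ψ) : IsCharacter N (resN N ψ) :=
  Cfsg.Agent.Lib.Helper83.isCharacter_restrict N hψ

theorem inner_resN {ψ : G → ℂ} (hψ : IsClassFunction G ψ) (θ : N → ℂ) :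
    classInner (resN N ψ) θ = classInner ψ (indFun N θ) :=
  (classInner_indFun_right N θ ψ hψ).symm

theorem inner_resN' {ψ : G → ℂ} (hψ : IsClassFunction G ψ) (θ : N → ℂ) :
    classInner θ (resN N ψ) = classInner (indFun N θ) ψ :=
  (classInner_indFun_left N θ ψ hψ).symm

theorem resN_charDegree {ψ : G → ℂ} (hψ : IsCharacter G ψ) :
    charDegree (resN N ψ) = charDegree ψ := by
  have h1 := Cfsg.Agent.Lib.Helper83.charDegree_cast hψ
  have h2 := Cfsg.Agent.Lib.Helper83.charDegree_cast (resN_isCharacter N hψ)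
  have h3 : resN N ψ 1 = ψ 1 := rfl
  rw [h3, ← h1] at h2
  exact_mod_cast h2

include hC hab hquot hidx hf hfε hind0 in
/-- the exceptional characters restrict irreducibly to `N` -/
theorem res_exc [Fintype (RelC N KN)] [DecidableEq (RelC N KN)] (hε1 : ε = 1)
    (ht : 3 ≤ Fintype.card (RelC N KN))
    (hdelta : ∀ χ r : RelC N KN, bmul N KN χ (f r) = if χ = r then 1 else 0)
    (r : RelC N KN) : resN N (f r : G → ℂ) = (r.1 : N → ℂ) := by
  classical
  haveI : Finite (IrrCharacter N) := Cfsg.Agent.Lib.Helper05.finite_irrCharacter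
  letI : Fintype (IrrCharacter N) := Fintype.ofFinite _
  haveI : Finite (IrrCharacter G) := Cfsg.Agent.Lib.Helper05.finite_irrCharacter
  letI : Fintype (IrrCharacter G) := Fintype.ofFinite _
  have hfc : ∀ l : RelC N KN, IsCharacter G (f l : G → ℂ) := fun l =>
    Cfsg.Agent.Lib.Helper83.IrrCharacter_isCharacter (f l)
  have hfcf : ∀ l : RelC N KN, IsClassFunction G (f l : G → ℂ) := fun l =>
    Cfsg.Agent.Lib.Helper83.char_isClassFunction (hfc l)
  have hresc : ∀ l : RelC N KN, IsCharacter N (resN N (f l : G → ℂ)) := fun l =>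
    resN_isCharacter N (hfc l)
  -- multiplicities of relevant characters
  have hmrel : ∀ (l χ : RelC N KN),
      Cfsg.Agent.Lib.Helper83.irrMult (resN N (f l : G → ℂ)) χ.1 = if χ = l then 1 else 0 := by
    intro l χ
    have h1 := Cfsg.Agent.Lib.Helper83.irrMult_cast (hresc l) χ.1
    rw [← classInner_conj_symm, inner_resN' N (hfcf l), ← bmul_cast, hdelta,
      Complex.conj_natCast] at h1
    exact_mod_cast h1
  -- multiplicities of non-relevant characters do not depend on `l`
  have hmnon : ∀ (l l' : RelC N KN) (θ : IrrCharacter N), NonRel N KN θ →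
      Cfsg.Agent.Lib.Helper83.irrMult (resN N (f l : G → ℂ)) θ =
        Cfsg.Agent.Lib.Helper83.irrMult (resN N (f l' : G → ℂ)) θ := by
    intro l l' θ hθ
    have h1 := Cfsg.Agent.Lib.Helper83.irrMult_cast (hresc l) θ
    have h2 := Cfsg.Agent.Lib.Helper83.irrMult_cast (hresc l') θ
    have h3 : resN N (f l : G → ℂ) - resN N (f l' : G → ℂ) = (l.1 : N → ℂ) - (l'.1 : N → ℂ) := by
      funext n
      exact res_diff N KN hC hab ε f hfε hind0 hε1 l l' n
    have hne : ∀ χ : RelC N KN, χ.1 ≠ θ := by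
      intro χ h
      obtain ⟨k, hk, hkne⟩ := χ.2
      apply hkne
      rw [h]
      exact hθ k hk
    have h4 : classInner (resN N (f l : G → ℂ)) (θ : N → ℂ) -
        classInner (resN N (f l' : G → ℂ)) (θ : N → ℂ) = 0 := by
      rw [← classInner_sub_left, h3, classInner_sub_left,
        Cfsg.Agent.Lib.Helper83.irr_orthonormal, Cfsg.Agent.Lib.Helper83.irr_orthonormal,
        if_neg (hne l), if_neg (hne l'), sub_zero]
    rw [← h1, ← h2, sub_eq_zero] at h4
    exact_mod_cast h4
  -- the non-relevant multiplicities vanish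
  have hzero : ∀ θ : IrrCharacter N, NonRel N KN θ →
      Cfsg.Agent.Lib.Helper83.irrMult (resN N (f r : G → ℂ)) θ = 0 := by
    intro θ hθ
    by_contra hm
    have hm1 : ∀ l : RelC N KN,
        1 ≤ Cfsg.Agent.Lib.Helper83.irrMult (resN N (f l : G → ℂ)) θ := by
      intro l
      rw [hmnon l r θ hθ]
      exact Nat.pos_of_ne_zero hm
    have hθc := Cfsg.Agent.Lib.Helper83.IrrCharacter_isCharacter θ
    have hΘ : IsCharacter G (indFun N (θ : N → ℂ)) := isCharacter_indFun N hθc
    -- degree of the induced character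
    have hΘdeg : charDegree (indFun N (θ : N → ℂ)) = Nat.card KN + 1 := by
      have h1 := Cfsg.Agent.Lib.Helper83.charDegree_cast hΘ
      rw [Cfsg.Agent.Lib.Helper83.indFun_one_eq, nonRel_linear N KN hquot hθ, mul_one, hidx] at h1
      exact_mod_cast h1
    -- multiplicity of `f l` in the induced character
    have hΘm : ∀ l : RelC N KN, 1 ≤ Cfsg.Agent.Lib.Helper83.irrMult (indFun N (θ : N → ℂ)) (f l) := by
      intro l
      have h1 := Cfsg.Agent.Lib.Helper83.irrMult_cast hΘ (f l)
      have h2 := Cfsg.Agent.Lib.Helper83.irrMult_cast (hresc l) θ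
      rw [← inner_resN' N (hfcf l), ← classInner_conj_symm, ← h2, Complex.conj_natCast] at h1
      have h3 : Cfsg.Agent.Lib.Helper83.irrMult (indFun N (θ : N → ℂ)) (f l) =
          Cfsg.Agent.Lib.Helper83.irrMult (resN N (f l : G → ℂ)) θ := by exact_mod_cast h1
      rw [h3]
      exact hm1 l
    -- degree of `f l`
    have hdeg : ∀ l : RelC N KN, KN.index + 1 ≤ charDegree (f l : G → ℂ) := by
      intro l
      rw [← resN_charDegree N (hfc l), charDegree_eq_sum (hresc l)]
      have hne : l.1 ≠ θ := by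
        intro h
        obtain ⟨k, hk, hkne⟩ := l.2
        apply hkne
        rw [h]
        exact hθ k hk
      have h1 : ∑ x ∈ ({l.1, θ} : Finset (IrrCharacter N)),
          Cfsg.Agent.Lib.Helper83.irrMult (resN N (f l : G → ℂ)) x * charDegree (x : N → ℂ) ≤
          ∑ x : IrrCharacter N,
          Cfsg.Agent.Lib.Helper83.irrMult (resN N (f l : G → ℂ)) x * charDegree (x : N → ℂ) :=
        Finset.sum_le_sum_of_subset (Finset.subset_univ _)
      rw [Finset.sum_pair hne, hmrel l l, if_pos rfl, rel_charDegree N KN hC hab l,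
        nonRel_charDegree N KN hquot hθ] at h1
      have := hm1 l
      omega
    have hsum : ∑ l : RelC N KN, (KN.index + 1) ≤ charDegree (indFun N (θ : N → ℂ)) := by
      rw [charDegree_eq_sum hΘ]
      calc ∑ l : RelC N KN, (KN.index + 1)
          ≤ ∑ l : RelC N KN, Cfsg.Agent.Lib.Helper83.irrMult (indFun N (θ : N → ℂ)) (f l) *
              charDegree (f l : G → ℂ) := by
            apply Finset.sum_le_sum
            intro l _
            calc KN.index + 1 = 1 * (KN.index + 1) := (one_mul _).symm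
              _ ≤ _ := Nat.mul_le_mul (hΘm l) (hdeg l)
        _ = ∑ ψ ∈ Finset.univ.image f, Cfsg.Agent.Lib.Helper83.irrMult (indFun N (θ : N → ℂ)) ψ *
              charDegree (ψ : G → ℂ) := by
            rw [Finset.sum_image (fun a _ b _ h => hf h)]
        _ ≤ _ := Finset.sum_le_sum_of_subset (Finset.subset_univ _)
    rw [Finset.sum_const, Finset.card_univ, smul_eq_mul, hΘdeg] at hsum
    have hcr := card_rel_nat N KN hC hab
    rw [Nat.card_eq_fintype_card] at hcr
    nlinarith [hsum, hcr, ht]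
  -- conclusion
  have hdec := Cfsg.Agent.Lib.Helper83.char_eq_sum_irrMult (hresc r)
  rw [hdec]
  rw [Finset.sum_eq_single r.1]
  · rw [hmrel r r, if_pos rfl, Nat.cast_one, one_smul]
  · intro θ _ hθ
    by_cases hn : NonRel N KN θ
    · rw [hzero θ hn, Nat.cast_zero, zero_smul]
    · have := hmrel r ⟨θ, (frobRel_of_not_nonRel N KN hn).2⟩
      rw [if_neg (fun h => hθ (by rw [← h]))] at this
      rw [this, Nat.cast_zero, zero_smul]
  · intro h
    exact absurd (Finset.mem_univ _) h

variable (hY : ∀ μ : IrrCharacter N, NonRel N KN μ → μ ≠ Cfsg.Agent.Lib.Helper83.trivChar N →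
    IsIrrCharacter G (indFun N (μ : N → ℂ)) ∧
      ∀ u : N, u ∈ KN → u ≠ 1 → indFun N (μ : N → ℂ) (u : G) = 1)

include hC hab hquot hidx hY in
/-- the final contradiction: an irreducible character of `G` restricting to a relevant
character of `N` cannot exist when `|K| ≥ 2 [N : K] + 2`. -/
theorem final_contra (r₀ : RelC N KN) (Λ : IrrCharacter G)
    (hres : resN N (Λ : G → ℂ) = (r₀.1 : N → ℂ))
    (he2 : 2 ≤ KN.index) (hq : 2 * KN.index + 2 ≤ Nat.card KN) : False := by
  classical
  haveI : Finite (IrrCharacter N) := Cfsg.Agent.Lib.Helper05.finite_irrCharacter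
  letI : Fintype (IrrCharacter N) := Fintype.ofFinite _
  haveI : Finite (IrrCharacter G) := Cfsg.Agent.Lib.Helper05.finite_irrCharacter
  letI : Fintype (IrrCharacter G) := Fintype.ofFinite _
  letI : Fintype KN := Fintype.ofFinite _
  have hΛc : IsCharacter G (Λ : G → ℂ) := Cfsg.Agent.Lib.Helper83.IrrCharacter_isCharacter Λ
  have hrel := Cfsg.Agent.Lib.Helper23.Exceptional.Rel.frobRel N KN r₀
  have hresn : ∀ n : N, (Λ : G → ℂ) (n : G) = (r₀.1 : N → ℂ) n := fun n => congrFun hres n
  have hΛ1 : (Λ : G → ℂ) 1 = (KN.index : ℂ) := by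
    have := hresn 1
    rw [Subgroup.coe_one] at this
    rw [this, rel_degree N KN hC hab hrel]
  obtain ⟨P, hP⟩ : ∃ P : G → ℂ, P = (Λ : G → ℂ) * (fun g => conj ((Λ : G → ℂ) g)) := ⟨_, rfl⟩
  have hPc : IsCharacter G P := by
    rw [hP]
    exact Cfsg.Agent.Lib.Helper83.isCharacter_mul hΛc (Cfsg.Agent.Lib.Helper83.isCharacter_conj hΛc)
  have hPcf : IsClassFunction G P := Cfsg.Agent.Lib.Helper83.char_isClassFunction hPc
  have hPapp : ∀ g : G, P g = (Λ : G → ℂ) g * conj ((Λ : G → ℂ) g) := fun g => by rw [hP]; rfl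
  have hPdeg : charDegree P = KN.index ^ 2 := by
    have h1 := Cfsg.Agent.Lib.Helper83.charDegree_cast hPc
    rw [hPapp, hΛ1, Complex.conj_natCast] at h1
    have h2 : ((charDegree P : ℕ) : ℂ) = ((KN.index ^ 2 : ℕ) : ℂ) := by
      rw [h1]; push_cast; ring
    exact_mod_cast h2
  have hΛΛ : classInner (Λ : G → ℂ) (Λ : G → ℂ) = 1 := by
    have := Cfsg.Agent.Lib.Helper83.irr_orthonormal Λ Λ
    rwa [if_pos rfl] at this
  have hr₀r₀ : classInner (r₀.1 : N → ℂ) (r₀.1 : N → ℂ) = 1 := by
    have := Cfsg.Agent.Lib.Helper83.irr_orthonormal r₀.1 r₀.1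
    rwa [if_pos rfl] at this
  have hPtriv : Cfsg.Agent.Lib.Helper83.irrMult P (Cfsg.Agent.Lib.Helper83.trivChar G) = 1 := by
    have h1 := Cfsg.Agent.Lib.Helper83.irrMult_cast hPc (Cfsg.Agent.Lib.Helper83.trivChar G)
    have h2 : classInner P (Cfsg.Agent.Lib.Helper83.trivChar G : G → ℂ) =
        classInner (Λ : G → ℂ) (Λ : G → ℂ) := by
      rw [classInner_def, classInner_def]
      congr 1
      apply Finset.sum_congr rfl
      intro g _
      rw [Cfsg.Agent.Lib.Helper83.trivChar_apply, map_one, mul_one, hPapp]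
    rw [h2, hΛΛ] at h1
    exact_mod_cast h1
  have htrivdeg : charDegree (Cfsg.Agent.Lib.Helper83.trivChar G : G → ℂ) = 1 := by
    have h1 := Cfsg.Agent.Lib.Helper83.charDegree_cast
      (Cfsg.Agent.Lib.Helper83.IrrCharacter_isCharacter (Cfsg.Agent.Lib.Helper83.trivChar G))
    rw [Cfsg.Agent.Lib.Helper83.trivChar_apply] at h1
    exact_mod_cast h1
  -- the nonprincipal linear characters of `N / K`
  obtain ⟨M, hM⟩ : ∃ M : Type _, M = {μ : IrrCharacter N //
      NonRel N KN μ ∧ μ ≠ Cfsg.Agent.Lib.Helper83.trivChar N} := ⟨_, rfl⟩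
  subst hM
  letI : Fintype {μ : IrrCharacter N //
      NonRel N KN μ ∧ μ ≠ Cfsg.Agent.Lib.Helper83.trivChar N} := Fintype.ofFinite _
  set Y : {μ : IrrCharacter N // NonRel N KN μ ∧ μ ≠ Cfsg.Agent.Lib.Helper83.trivChar N} →
      IrrCharacter G := fun μ => ⟨indFun N (μ.1 : N → ℂ), (hY μ.1 μ.2.1 μ.2.2).1⟩ with hYdef
  have hYapp : ∀ μ, (Y μ : G → ℂ) = indFun N (μ.1 : N → ℂ) := fun μ => rfl
  have hYdeg : ∀ μ, charDegree (Y μ : G → ℂ) = Nat.card KN + 1 := by
    intro μ
    have h1 := Cfsg.Agent.Lib.Helper83.charDegree_cast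
      (Cfsg.Agent.Lib.Helper83.IrrCharacter_isCharacter (Y μ))
    rw [hYapp, Cfsg.Agent.Lib.Helper83.indFun_one_eq, nonRel_linear N KN hquot μ.2.1, mul_one,
      hidx] at h1
    exact_mod_cast h1
  have hPY : ∀ μ, Cfsg.Agent.Lib.Helper83.irrMult P (Y μ) = 1 := by
    intro μ
    have h1 := Cfsg.Agent.Lib.Helper83.irrMult_cast hPc (Y μ)
    rw [hYapp, ← inner_resN N hPcf] at h1
    have h2 : classInner (resN N P) (μ.1 : N → ℂ) =
        classInner (r₀.1 : N → ℂ) (r₀.1 : N → ℂ) := by
      rw [classInner_def, classInner_def]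
      congr 1
      apply Finset.sum_congr rfl
      intro n _
      show P (n : G) * conj ((μ.1 : N → ℂ) n) = _
      rw [hPapp, hresn]
      by_cases hn : n ∈ KN
      · rw [μ.2.1 n hn, nonRel_linear N KN hquot μ.2.1, map_one, mul_one]
      · rw [hrel.vanish KN hC hn]
        simp
    rw [h2, hr₀r₀] at h1
    exact_mod_cast h1
  -- the image of `Y`
  set I : Finset (IrrCharacter G) := Finset.univ.image Y with hI
  have hKpos : 0 < Nat.card KN := Nat.card_pos
  have htrivI : Cfsg.Agent.Lib.Helper83.trivChar G ∉ I := by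
    intro h
    rw [hI] at h
    obtain ⟨μ, -, hμ⟩ := Finset.mem_image.mp h
    have := hYdeg μ
    rw [hμ, htrivdeg] at this
    omega
  have hbound : 1 + I.card * (Nat.card KN + 1) ≤ KN.index ^ 2 := by
    rw [← hPdeg, charDegree_eq_sum hPc]
    calc 1 + I.card * (Nat.card KN + 1)
        = ∑ ψ ∈ insert (Cfsg.Agent.Lib.Helper83.trivChar G) I,
            Cfsg.Agent.Lib.Helper83.irrMult P ψ * charDegree (ψ : G → ℂ) := by
          rw [Finset.sum_insert htrivI, hPtriv, htrivdeg, one_mul]
          congr 1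
          rw [← smul_eq_mul, ← Finset.sum_const]
          apply Finset.sum_congr rfl
          intro ψ hψ
          rw [hI] at hψ
          obtain ⟨μ, -, rfl⟩ := Finset.mem_image.mp hψ
          rw [hPY, hYdeg, one_mul]
      _ ≤ _ := Finset.sum_le_sum_of_subset (Finset.subset_univ _)
  -- the fibres of `Y` have at most two elements
  have hfib : ∀ ψ ∈ Finset.univ.image Y, (Finset.univ.filter (fun μ' => Y μ' = ψ)).card ≤ 2 := by
    intro ψ hψ
    obtain ⟨μ, -, rfl⟩ := Finset.mem_image.mp hψ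
    have hYc := Cfsg.Agent.Lib.Helper83.IrrCharacter_isCharacter (Y μ)
    have hYcf := Cfsg.Agent.Lib.Helper83.char_isClassFunction hYc
    have hresYc : IsCharacter N (resN N (Y μ : G → ℂ)) := resN_isCharacter N hYc
    have hsumK : ∑ k : KN, resN N (Y μ : G → ℂ) (k : N) = 2 * (Nat.card KN : ℂ) := by
      have h1 : ∀ k : KN, resN N (Y μ : G → ℂ) (k : N) =
          1 + if k = 1 then (Nat.card KN : ℂ) else 0 := by
        intro k
        show indFun N (μ.1 : N → ℂ) ((k : N) : G) = _
        by_cases hk : k = 1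
        · rw [if_pos hk, hk, Subgroup.coe_one, Subgroup.coe_one,
            Cfsg.Agent.Lib.Helper83.indFun_one_eq, nonRel_linear N KN hquot μ.2.1, mul_one, hidx]
          push_cast
          ring
        · rw [if_neg hk, add_zero]
          exact (hY μ.1 μ.2.1 μ.2.2).2 (k : N) k.2 (fun h => hk (Subtype.ext h))
      rw [Finset.sum_congr rfl (fun k _ => h1 k), Finset.sum_add_distrib]
      simp only [Finset.sum_ite_eq', Finset.mem_univ, if_true, Finset.sum_const, Finset.card_univ,
        nsmul_eq_mul, mul_one]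
      rw [← Nat.card_eq_fintype_card]
      ring
    have hdecY := Cfsg.Agent.Lib.Helper83.char_eq_sum_irrMult hresYc
    have hθsum : ∀ θ : IrrCharacter N, ∑ k : KN, (θ : N → ℂ) (k : N) =
        if NonRel N KN θ then (Nat.card KN : ℂ) else 0 := by
      intro θ
      by_cases hθ : NonRel N KN θ
      · rw [if_pos hθ]
        have : ∀ k : KN, (θ : N → ℂ) (k : N) = 1 := fun k => by
          rw [hθ (k : N) k.2, nonRel_linear N KN hquot hθ]
        simp only [this, Finset.sum_const, Finset.card_univ, nsmul_eq_mul, mul_one]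
        rw [← Nat.card_eq_fintype_card]
      · rw [if_neg hθ]
        exact (frobRel_of_not_nonRel N KN hθ).sum_eq_zero KN hC
    have hsum2 : ∑ θ ∈ Finset.univ.filter (fun θ : IrrCharacter N => NonRel N KN θ),
        Cfsg.Agent.Lib.Helper83.irrMult (resN N (Y μ : G → ℂ)) θ = 2 := by
      have h1 : ∑ k : KN, resN N (Y μ : G → ℂ) (k : N) =
          ∑ θ : IrrCharacter N, (Cfsg.Agent.Lib.Helper83.irrMult (resN N (Y μ : G → ℂ)) θ : ℂ) *
            ∑ k : KN, (θ : N → ℂ) (k : N) := by
        have h2 : ∀ k : KN, resN N (Y μ : G → ℂ) (k : N) =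
            ∑ θ : IrrCharacter N,
              (Cfsg.Agent.Lib.Helper83.irrMult (resN N (Y μ : G → ℂ)) θ : ℂ) * (θ : N → ℂ) (k : N) := by
          intro k
          have := congrFun hdecY (k : N)
          rw [Finset.sum_apply] at this
          rw [this]
          apply Finset.sum_congr rfl
          intro θ _
          rw [Pi.smul_apply, smul_eq_mul]
        rw [Finset.sum_congr rfl (fun k _ => h2 k), Finset.sum_comm]
        apply Finset.sum_congr rfl
        intro θ _
        rw [Finset.mul_sum]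
      rw [hsumK] at h1
      simp only [hθsum, mul_ite, mul_zero] at h1
      rw [← Finset.sum_filter, ← Finset.sum_mul] at h1
      have hK0 : (Nat.card KN : ℂ) ≠ 0 := by exact_mod_cast hKpos.ne'
      have h3 : (2 : ℂ) = ∑ θ ∈ Finset.univ.filter (fun θ : IrrCharacter N => NonRel N KN θ),
          (Cfsg.Agent.Lib.Helper83.irrMult (resN N (Y μ : G → ℂ)) θ : ℂ) :=
        mul_right_cancel₀ hK0 h1
      have h4 : ((2 : ℕ) : ℂ) = ((∑ θ ∈ Finset.univ.filter (fun θ : IrrCharacter N => NonRel N KN θ),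
          Cfsg.Agent.Lib.Helper83.irrMult (resN N (Y μ : G → ℂ)) θ : ℕ) : ℂ) := by
        push_cast
        exact h3
      exact_mod_cast h4.symm
    have hone : ∀ μ' ∈ Finset.univ.filter (fun μ' => Y μ' = Y μ),
        Cfsg.Agent.Lib.Helper83.irrMult (resN N (Y μ : G → ℂ)) μ'.1 = 1 := by
      intro μ' hμ'
      rw [Finset.mem_filter] at hμ'
      have h1 := Cfsg.Agent.Lib.Helper83.irrMult_cast hresYc μ'.1
      rw [inner_resN N hYcf, ← hYapp μ', hμ'.2] at h1
      have := Cfsg.Agent.Lib.Helper83.irr_orthonormal (Y μ) (Y μ)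
      rw [if_pos rfl] at this
      rw [this] at h1
      exact_mod_cast h1
    calc (Finset.univ.filter (fun μ' => Y μ' = Y μ)).card
        = ∑ μ' ∈ Finset.univ.filter (fun μ' => Y μ' = Y μ), 1 := by simp
      _ = ∑ μ' ∈ Finset.univ.filter (fun μ' => Y μ' = Y μ),
            Cfsg.Agent.Lib.Helper83.irrMult (resN N (Y μ : G → ℂ)) μ'.1 :=
          Finset.sum_congr rfl (fun μ' hμ' => (hone μ' hμ').symm)
      _ = ∑ θ ∈ (Finset.univ.filter (fun μ' => Y μ' = Y μ)).image Subtype.val,
            Cfsg.Agent.Lib.Helper83.irrMult (resN N (Y μ : G → ℂ)) θ := by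
          rw [Finset.sum_image (fun a _ b _ h => Subtype.ext h)]
      _ ≤ ∑ θ ∈ Finset.univ.filter (fun θ : IrrCharacter N => NonRel N KN θ),
            Cfsg.Agent.Lib.Helper83.irrMult (resN N (Y μ : G → ℂ)) θ := by
          apply Finset.sum_le_sum_of_subset
          intro θ hθ
          obtain ⟨μ', -, rfl⟩ := Finset.mem_image.mp hθ
          rw [Finset.mem_filter]
          exact ⟨Finset.mem_univ _, μ'.2.1⟩
      _ = 2 := hsum2
  have hMle : (Finset.univ : Finset {μ : IrrCharacter N //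
      NonRel N KN μ ∧ μ ≠ Cfsg.Agent.Lib.Helper83.trivChar N}).card ≤ 2 * I.card :=
    Finset.card_le_mul_card_image (f := Y) Finset.univ 2 hfib
  rw [Finset.card_univ] at hMle
  -- the number of `μ`
  have hMcard : Fintype.card {μ : IrrCharacter N //
      NonRel N KN μ ∧ μ ≠ Cfsg.Agent.Lib.Helper83.trivChar N} = KN.index - 1 := by
    rw [Fintype.card_subtype]
    have h1 : Finset.univ.filter (fun μ : IrrCharacter N =>
        NonRel N KN μ ∧ μ ≠ Cfsg.Agent.Lib.Helper83.trivChar N) =
        (Finset.univ.filter (fun θ : IrrCharacter N => NonRel N KN θ)).erase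
          (Cfsg.Agent.Lib.Helper83.trivChar N) := by
      ext θ
      simp only [Finset.mem_filter, Finset.mem_univ, true_and, Finset.mem_erase]
      tauto
    rw [h1, Finset.card_erase_of_mem, card_nonRel N KN hC hab hquot]
    rw [Finset.mem_filter]
    refine ⟨Finset.mem_univ _, ?_⟩
    intro k _
    rw [Cfsg.Agent.Lib.Helper83.trivChar_apply, Cfsg.Agent.Lib.Helper83.trivChar_apply]
  rw [hMcard] at hMle
  -- arithmetic
  obtain ⟨e', he'⟩ : ∃ e', KN.index = e' + 2 := ⟨KN.index - 2, by omega⟩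
  rw [he'] at hMle hbound hq
  have h5 : e' + 1 ≤ 2 * I.card := by omega
  have h6 : (e' + 1) * (Nat.card KN + 1) ≤ 2 * I.card * (Nat.card KN + 1) :=
    Nat.mul_le_mul_right _ h5
  have h7 : (e' + 1) * (2 * (e' + 2) + 2 + 1) ≤ (e' + 1) * (Nat.card KN + 1) :=
    Nat.mul_le_mul_left _ (by omega)
  nlinarith [h6, h7, hbound]

include hC hab hquot hindK hidx hε hf hfε hker hind0 hY in
/-- **Feit's bound, abstract form.**  With at least three relevant characters, enough irreducible
characters of `G`, and the induced linear characters irreducible, `|K| ≥ 2 [N : K] + 2` is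
impossible. -/
theorem feit_contra
    (hcount : 1 + Nat.card (RelC N KN) + KN.index ≤ Nat.card (IrrCharacter G))
    (ht : 3 ≤ Nat.card (RelC N KN)) (he2 : 2 ≤ KN.index)
    (hq : 2 * KN.index + 2 ≤ Nat.card KN) : False := by
  classical
  haveI : Finite (IrrCharacter N) := Cfsg.Agent.Lib.Helper05.finite_irrCharacter
  haveI : Finite (IrrCharacter G) := Cfsg.Agent.Lib.Helper05.finite_irrCharacter
  letI : Fintype (IrrCharacter G) := Fintype.ofFinite _
  letI : Fintype (RelC N KN) := Fintype.ofFinite _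
  rw [Nat.card_eq_fintype_card, Nat.card_eq_fintype_card] at hcount
  rw [Nat.card_eq_fintype_card] at ht
  have hsum := fun χ => sum_range_le_one N KN hC hab hindK hidx ε f hf hfε hker hcount χ
  obtain ⟨hε1, hdelta⟩ := exc_delta N KN ε f hε hf hfε ht hsum
  obtain ⟨r₀⟩ : Nonempty (RelC N KN) := by
    rw [← Fintype.card_pos_iff]
    omega
  have hres := res_exc N KN hC hab hquot hidx ε f hf hfε hind0 hε1 ht hdelta r₀
  exact final_contra N KN hC hab hquot hidx hY r₀ (f r₀) hres he2 hq

end Core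

end Cfsg.Agent.Lib.Helper17.FeitCore
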