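import Mathlib
import Cfsg.Prelude.Def_LieExceptional

set_option autoImplicit false
set_option linter.style.haveILetI false

namespace Cfsg.Agent.Lib.Helper17.ZassCount

open MulAction Subgroup

variable {G Ω : Type*} [Group G] [MulAction G Ω]

/-- number of fixed points -/
noncomputable def fixN [Fintype Ω] [DecidableEq Ω] (g : G) : ℕ := Fintype.card (fixedBy Ω g)

theorem fixN_one [Fintype Ω] [DecidableEq Ω] : fixN (Ω := Ω) (1 : G) = Fintype.card Ω := by
  unfold fixN
  rw [Fintype.card_eq]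
  exact ⟨⟨fun x => x.1, fun x => ⟨x, by simp [fixedBy]⟩, fun x => rfl, fun x => rfl⟩⟩

theorem fixN_le_two [Fintype Ω] [DecidableEq Ω] (hZ : Cfsg.IsZassenhausGroup G Ω) {g : G}
    (hg : g ≠ 1) : fixN (Ω := Ω) g ≤ 2 := by
  unfold fixN
  by_contra hcon
  push Not at hcon
  rw [Fintype.two_lt_card_iff] at hcon
  obtain ⟨a, b, c, hab, hac, hbc⟩ := hcon
  apply hg
  refine hZ.2.2.1 g a.1 b.1 c.1 ?_ ?_ ?_ a.2 b.2 c.2
  · exact fun h => hab (Subtype.ext h)
  · exact fun h => hbc (Subtype.ext h)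
  · exact fun h => hac (Subtype.ext h)

theorem fixN_eq_zero_iff [Fintype Ω] [DecidableEq Ω] (g : G) :
    fixN (Ω := Ω) g = 0 ↔ ∀ c : Ω, g • c ≠ c := by
  unfold fixN
  rw [Fintype.card_eq_zero_iff]
  constructor
  · intro h c hc
    exact h.false ⟨c, hc⟩
  · intro h
    exact ⟨fun x => h x.1 x.2⟩

/-- The pair `(a, b)` as an embedding of `Fin 2`. -/
def pairEmb {a b : Ω} (hab : a ≠ b) : Fin 2 ↪ Ω :=
  ⟨![a, b], by
    intro i j hij
    fin_cases i <;> fin_cases j <;> simp_all⟩

theorem stabilizer_pairEmb {a b : Ω} (hab : a ≠ b) :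
    stabilizer G (pairEmb hab) = stabilizer G a ⊓ stabilizer G b := by
  ext g
  rw [mem_stabilizer_iff, Subgroup.mem_inf, mem_stabilizer_iff, mem_stabilizer_iff]
  constructor
  · intro h
    have h0 := congrArg (fun f : Fin 2 ↪ Ω => f 0) h
    have h1 := congrArg (fun f : Fin 2 ↪ Ω => f 1) h
    simp only [Function.Embedding.smul_apply] at h0 h1
    exact ⟨h0, h1⟩
  · rintro ⟨h0, h1⟩
    ext i
    rw [Function.Embedding.smul_apply]
    fin_cases i
    · exact h0
    · exact h1

/-- `|G| = n (n - 1) e`. -/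
theorem card_eq [Finite G] [Fintype Ω] [DecidableEq Ω] (hZ : Cfsg.IsZassenhausGroup G Ω)
    {a b : Ω} (hab : a ≠ b) :
    Nat.card G = Fintype.card Ω * (Fintype.card Ω - 1) *
      Nat.card ↥(stabilizer G a ⊓ stabilizer G b : Subgroup G) := by
  haveI : IsPretransitive G (Fin 2 ↪ Ω) := hZ.2.1
  have h1 := Subgroup.card_mul_index (stabilizer G (pairEmb hab))
  rw [MulAction.index_stabilizer_of_transitive, Nat.card_eq_fintype_card (α := Fin 2 ↪ Ω),
    Fintype.card_embedding_eq, Fintype.card_fin, stabilizer_pairEmb] at h1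
  rw [← h1, mul_comm]
  congr 1
  simp [Nat.descFactorial, mul_comm]

/-- Burnside's lemma for a transitive action. -/
theorem burnside_transitive {X : Type*} [MulAction G X] [Fintype G] [Fintype X] [DecidableEq X]
    [IsPretransitive G X] [Nonempty X] :
    ∑ g : G, Fintype.card (fixedBy X g) = Fintype.card G := by
  classical
  have h := MulAction.sum_card_fixedBy_eq_card_orbits_mul_card_group G X
  have h1 : Fintype.card (Quotient (orbitRel G X)) = 1 := by
    rw [Fintype.card_eq_one_iff]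
    obtain ⟨x⟩ := ‹Nonempty X›
    refine ⟨Quotient.mk'' x, fun y => ?_⟩
    induction y using Quotient.inductionOn' with
    | h y =>
      apply Quotient.sound'
      obtain ⟨g, hg⟩ := exists_smul_eq G x y
      exact ⟨g, hg⟩
  rw [h1, one_mul] at h
  rw [← h]

theorem sum_fixN [Fintype G] [Fintype Ω] [DecidableEq Ω] [IsPretransitive G Ω] [Nonempty Ω] :
    ∑ g : G, fixN (Ω := Ω) g = Fintype.card G := by
  unfold fixN
  exact burnside_transitive

/-- fixed embeddings are embeddings into the fixed points -/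
def fixedEmbEquiv (g : G) : fixedBy (Fin 2 ↪ Ω) g ≃ (Fin 2 ↪ fixedBy Ω g) where
  toFun f := ⟨fun i => ⟨f.1 i, by
      have h := f.2
      have h2 := congrArg (fun e : Fin 2 ↪ Ω => e i) h
      simpa [Function.Embedding.smul_apply] using h2⟩, by
      intro i j hij
      apply f.1.injective
      exact congrArg Subtype.val hij⟩
  invFun f := ⟨f.trans (Function.Embedding.subtype _), by
      show g • _ = _
      ext i
      rw [Function.Embedding.smul_apply]
      exact (f i).2⟩
  left_inv f := by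
    apply Subtype.ext
    ext i
    rfl
  right_inv f := by
    ext i
    rfl

theorem sum_fixN_mul [Fintype G] [Fintype Ω] [DecidableEq Ω]
    (h2 : IsMultiplyPretransitive G Ω 2) {a b : Ω} (hab : a ≠ b) :
    ∑ g : G, fixN (Ω := Ω) g * (fixN (Ω := Ω) g - 1) = Fintype.card G := by
  classical
  haveI : IsPretransitive G (Fin 2 ↪ Ω) := h2
  haveI : Nonempty (Fin 2 ↪ Ω) := ⟨pairEmb hab⟩
  rw [← burnside_transitive (G := G) (X := Fin 2 ↪ Ω)]
  apply Finset.sum_congr rfl
  intro g _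
  rw [Fintype.card_congr (fixedEmbEquiv g), Fintype.card_embedding_eq, Fintype.card_fin]
  unfold fixN
  simp [Nat.descFactorial, mul_comm]

theorem isPretransitive_of_two [Fintype Ω] (h2 : IsMultiplyPretransitive G Ω 2) {a b : Ω}
    (hab : a ≠ b) : IsPretransitive G Ω := by
  classical
  haveI : IsPretransitive G (Fin 2 ↪ Ω) := h2
  refine ⟨fun x y => ?_⟩
  have hx : ∃ x' : Ω, x ≠ x' := by
    by_cases h : x = a
    · exact ⟨b, h ▸ hab⟩
    · exact ⟨a, h⟩
  have hy : ∃ y' : Ω, y ≠ y' := by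
    by_cases h : y = a
    · exact ⟨b, h ▸ hab⟩
    · exact ⟨a, h⟩
  obtain ⟨x', hx'⟩ := hx
  obtain ⟨y', hy'⟩ := hy
  obtain ⟨g, hg⟩ := exists_smul_eq G (pairEmb hx') (pairEmb hy')
  refine ⟨g, ?_⟩
  have := congrArg (fun f : Fin 2 ↪ Ω => f 0) hg
  exact this

theorem two_le_card [Fintype Ω] {a b : Ω} (hab : a ≠ b) : 2 ≤ Fintype.card Ω := by
  classical
  rw [← Fintype.card_fin 2]
  exact Fintype.card_le_of_embedding (pairEmb hab)

/-- The number of fixed-point-free elements of a Zassenhaus group: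
`2 n₀ + (n - 1)(n - 2) = |G|`. -/
theorem two_mul_card_fpf [Fintype G] [Fintype Ω] [DecidableEq Ω]
    (hZ : Cfsg.IsZassenhausGroup G Ω) {a b : Ω} (hab : a ≠ b) :
    2 * (Finset.univ.filter (fun g : G => ∀ c : Ω, g • c ≠ c)).card +
      (Fintype.card Ω - 1) * (Fintype.card Ω - 2) = Fintype.card G := by
  classical
  haveI : IsPretransitive G Ω := isPretransitive_of_two hZ.2.1 hab
  haveI : Nonempty Ω := ⟨a⟩
  have hn := two_le_card hab
  set n := Fintype.card Ω with hndef
  have hcast : ∀ k : ℕ, ((k * (k - 1) : ℕ) : ℤ) = (k : ℤ) * ((k : ℤ) - 1) := by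
    intro k
    cases k with
    | zero => simp
    | succ k => push_cast; simp
  have h1 : ∑ g : G, (fixN (Ω := Ω) g : ℤ) = Fintype.card G := by
    exact_mod_cast sum_fixN (G := G) (Ω := Ω)
  have h2 : ∑ g : G, (fixN (Ω := Ω) g : ℤ) * ((fixN (Ω := Ω) g : ℤ) - 1) = Fintype.card G := by
    have := sum_fixN_mul (G := G) (Ω := Ω) hZ.2.1 hab
    have h3 : ((∑ g : G, fixN (Ω := Ω) g * (fixN (Ω := Ω) g - 1) : ℕ) : ℤ) = Fintype.card G := by
      exact_mod_cast this
    rw [← h3, Nat.cast_sum]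
    apply Finset.sum_congr rfl
    intro g _
    rw [hcast]
  have h3 : ∑ g : G, ((fixN (Ω := Ω) g : ℤ) - 1) * ((fixN (Ω := Ω) g : ℤ) - 2) =
      Fintype.card G := by
    have : ∀ g : G, ((fixN (Ω := Ω) g : ℤ) - 1) * ((fixN (Ω := Ω) g : ℤ) - 2) =
        (fixN (Ω := Ω) g : ℤ) * ((fixN (Ω := Ω) g : ℤ) - 1) - 2 * (fixN (Ω := Ω) g : ℤ) + 2 := by
      intro g; ring
    simp_rw [this]
    rw [Finset.sum_add_distrib, Finset.sum_sub_distrib, ← Finset.mul_sum, h1, h2]
    simp
    ring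
  have h4 : ∀ g : G, ((fixN (Ω := Ω) g : ℤ) - 1) * ((fixN (Ω := Ω) g : ℤ) - 2) =
      (if g = 1 then ((n : ℤ) - 1) * ((n : ℤ) - 2) else 0) +
      (if (∀ c : Ω, g • c ≠ c) then 2 else 0) := by
    intro g
    by_cases hg : g = 1
    · subst hg
      have hne : ¬ (∀ c : Ω, (1 : G) • c ≠ c) := by
        intro h; exact h a (one_smul _ _)
      rw [if_pos rfl, if_neg hne, fixN_one, add_zero]
    · rw [if_neg hg, zero_add]
      have hle := fixN_le_two hZ hg
      by_cases h0 : ∀ c : Ω, g • c ≠ c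
      · rw [if_pos h0, (fixN_eq_zero_iff g).mpr h0]; norm_num
      · rw [if_neg h0]
        have hne : fixN (Ω := Ω) g ≠ 0 := fun h => h0 ((fixN_eq_zero_iff g).mp h)
        have : fixN (Ω := Ω) g = 1 ∨ fixN (Ω := Ω) g = 2 := by omega
        rcases this with h | h <;> rw [h] <;> norm_num
  simp_rw [h4] at h3
  rw [Finset.sum_add_distrib, Finset.sum_ite_eq' Finset.univ (1 : G)] at h3
  simp only [Finset.mem_univ, if_true] at h3
  rw [Finset.sum_ite, Finset.sum_const_zero, add_zero, Finset.sum_const, nsmul_eq_mul] at h3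
  have h5 : ((n : ℤ) - 1) * ((n : ℤ) - 2) = (((n - 1) * (n - 2) : ℕ) : ℤ) := by
    rw [Nat.cast_mul, Nat.cast_sub (by omega), Nat.cast_sub (by omega)]; simp
  rw [h5] at h3
  have h7 : (n - 1) * (n - 2) +
      (Finset.univ.filter (fun g : G => ∀ c : Ω, g • c ≠ c)).card * 2 = Fintype.card G := by
    exact_mod_cast h3
  omega

end Cfsg.Agent.Lib.Helper17.ZassCount
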