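import Mathlib
import Cfsg.Prelude.Def_LieExceptional
import Cfsg.Agent.Lib.Helper17.ZassCount
import Cfsg.Agent.Lib.Helper21.Zassenhaus

set_option autoImplicit false
set_option linter.style.haveILetI false

namespace Cfsg.Agent.Lib.Helper17.ZassInvol

open MulAction Subgroup Cfsg.Agent.Lib.Helper17.ZassCount Cfsg.Agent.Lib.Helper21

variable {G Ω : Type*} [Group G] [MulAction G Ω]

/-- two-point stabilisers all have the same order -/
theorem card_stab_pair (hZ : Cfsg.IsZassenhausGroup G Ω) {a b c d : Ω} (hab : a ≠ b)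
    (hcd : c ≠ d) :
    Nat.card ↥(stabilizer G c ⊓ stabilizer G d : Subgroup G) =
      Nat.card ↥(stabilizer G a ⊓ stabilizer G b : Subgroup G) := by
  obtain ⟨g, hga, hgb⟩ := zass_two_trans hZ hab hcd
  rw [← hga, ← hgb, stabilizer_smul_eq_stabilizer_map_conj,
    stabilizer_smul_eq_stabilizer_map_conj,
    ← Subgroup.map_inf _ _ _ (MulAut.conj g).injective]
  exact Subgroup.card_map_of_injective (MulAut.conj g).injective

/-- an involution fixes at most one point when the two-point stabilisers have odd order -/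
theorem invol_not_fix_two (hZ : Cfsg.IsZassenhausGroup G Ω) {a b : Ω} (hab : a ≠ b)
    (hodd : Odd (Nat.card ↥(stabilizer G a ⊓ stabilizer G b : Subgroup G)))
    {s : G} (hs2 : s * s = 1) (hs1 : s ≠ 1) {c d : Ω} (hcd : c ≠ d) (hc : s • c = c)
    (hd : s • d = d) : False := by
  have hmem : s ∈ (stabilizer G c ⊓ stabilizer G d : Subgroup G) := ⟨hc, hd⟩
  have hord : orderOf s = 2 := orderOf_eq_prime (by rw [pow_two]; exact hs2) hs1
  have hdvd := Subgroup.orderOf_dvd_natCard _ hmem
  rw [hord, card_stab_pair hZ hab hcd] at hdvd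
  exact (Nat.not_even_iff_odd.mpr hodd) (even_iff_two_dvd.mpr hdvd)

theorem invol_fixN [Fintype Ω] [DecidableEq Ω] (hZ : Cfsg.IsZassenhausGroup G Ω) {a b : Ω}
    (hab : a ≠ b) (hodd : Odd (Nat.card ↥(stabilizer G a ⊓ stabilizer G b : Subgroup G)))
    {s : G} (hs2 : s * s = 1) (hs1 : s ≠ 1) {c : Ω} (hc : s • c = c) :
    fixN (Ω := Ω) s = 1 := by
  unfold fixN
  rw [Fintype.card_eq_one_iff]
  refine ⟨⟨c, hc⟩, fun y => ?_⟩
  by_contra hne
  have hne' : y.1 ≠ c := fun h => hne (Subtype.ext h)
  exact invol_not_fix_two hZ hab hodd hs2 hs1 hne' y.2 hc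

section
variable [Fintype G] [DecidableEq G] [Fintype Ω] [DecidableEq Ω]

/-- involutions fixing the point `c` -/
def invAt (c : Ω) : Finset G := Finset.univ.filter (fun s : G => s * s = 1 ∧ s ≠ 1 ∧ s • c = c)

/-- involutions with a fixed point -/
def invFix : Finset G :=
  Finset.univ.filter (fun s : G => s * s = 1 ∧ s ≠ 1 ∧ ∃ c : Ω, s • c = c)

theorem card_invAt_eq (g : G) (c : Ω) : (invAt (G := G) (g • c)).card = (invAt (G := G) c).card := by
  symm
  apply Finset.card_bij (fun s _ => g * s * g⁻¹)
  · intro s hs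
    simp only [invAt, Finset.mem_filter, Finset.mem_univ, true_and] at hs ⊢
    obtain ⟨h1, h2, h3⟩ := hs
    refine ⟨?_, ?_, ?_⟩
    · calc g * s * g⁻¹ * (g * s * g⁻¹) = g * (s * s) * g⁻¹ := by group
        _ = 1 := by rw [h1]; group
    · intro h
      apply h2
      have : s = g⁻¹ * (g * s * g⁻¹) * g := by group
      rw [this, h]; group
    · rw [mul_smul, mul_smul, inv_smul_smul, h3]
  · intro s _ t _ hst
    have := mul_left_cancel (mul_right_cancel hst)
    exact this
  · intro t ht
    simp only [invAt, Finset.mem_filter, Finset.mem_univ, true_and] at ht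
    obtain ⟨h1, h2, h3⟩ := ht
    refine ⟨g⁻¹ * t * g, ?_, by group⟩
    simp only [invAt, Finset.mem_filter, Finset.mem_univ, true_and]
    refine ⟨?_, ?_, ?_⟩
    · calc g⁻¹ * t * g * (g⁻¹ * t * g) = g⁻¹ * (t * t) * g := by group
        _ = 1 := by rw [h1]; group
    · intro h
      apply h2
      have : t = g * (g⁻¹ * t * g) * g⁻¹ := by group
      rw [this, h]; group
    · rw [mul_smul, mul_smul, h3, inv_smul_smul]

/-- at most `e` involutions map `d` to `d'`. -/
theorem card_swap_le (hZ : Cfsg.IsZassenhausGroup G Ω) {a b : Ω} (hab : a ≠ b) {d d' : Ω}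
    (hdd : d ≠ d') :
    (Finset.univ.filter (fun s : G => s * s = 1 ∧ s ≠ 1 ∧ s • d = d')).card ≤
      Nat.card ↥(stabilizer G a ⊓ stabilizer G b : Subgroup G) := by
  classical
  rw [← card_stab_pair hZ hab hdd, Nat.card_eq_fintype_card, Fintype.card_subtype]
  rcases (Finset.univ.filter (fun s : G => s * s = 1 ∧ s ≠ 1 ∧ s • d = d')).eq_empty_or_nonempty
    with h | ⟨s₀, hs₀⟩
  · rw [h]; simp
  · simp only [Finset.mem_filter, Finset.mem_univ, true_and] at hs₀
    obtain ⟨h1, _, h3⟩ := hs₀
    have hs₀inv : s₀⁻¹ = s₀ := inv_eq_of_mul_eq_one_left h1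
    have hs₀d' : s₀ • d' = d := by rw [← h3, ← mul_smul, h1, one_smul]
    apply Finset.card_le_card_of_injOn (fun s => s₀⁻¹ * s)
    · intro s hs
      simp only [Finset.coe_filter, Finset.mem_univ, true_and, Set.mem_ofPred_eq] at hs ⊢
      obtain ⟨k1, _, k3⟩ := hs
      have ksd' : s • d' = d := by rw [← k3, ← mul_smul, k1, one_smul]
      rw [Subgroup.mem_inf, mem_stabilizer_iff, mem_stabilizer_iff, hs₀inv]
      constructor
      · rw [mul_smul, k3, hs₀d']
      · rw [mul_smul, ksd', h3]
    · intro s _ t _ hst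
      exact mul_left_cancel hst

/-- the number of involutions fixing a given point is at most `e`. -/
theorem card_invAt_le (hZ : Cfsg.IsZassenhausGroup G Ω) {a b : Ω} (hab : a ≠ b)
    (hodd : Odd (Nat.card ↥(stabilizer G a ⊓ stabilizer G b : Subgroup G))) :
    (invAt (G := G) a).card ≤ Nat.card ↥(stabilizer G a ⊓ stabilizer G b : Subgroup G) := by
  classical
  haveI : IsPretransitive G Ω := isPretransitive_of_two hZ.2.1 hab
  set e := Nat.card ↥(stabilizer G a ⊓ stabilizer G b : Subgroup G) with he
  set n := Fintype.card Ω with hn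
  set i := (invAt (G := G) a).card with hi
  have hn2 : 2 ≤ n := two_le_card hab
  -- all points have `i` involutions
  have hall : ∀ c : Ω, (invAt (G := G) c).card = i := by
    intro c
    obtain ⟨g, rfl⟩ := exists_smul_eq G a c
    exact card_invAt_eq g a
  -- elements of invFix have exactly one fixed point
  have hfix1 : ∀ s ∈ invFix (G := G) (Ω := Ω), fixN (Ω := Ω) s = 1 := by
    intro s hs
    simp only [invFix, Finset.mem_filter, Finset.mem_univ, true_and] at hs
    obtain ⟨h1, h2, c, hc⟩ := hs
    exact invol_fixN hZ hab hodd h1 h2 hc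
  have hfixN : ∀ s : G, fixN (Ω := Ω) s = ∑ c : Ω, if s • c = c then 1 else 0 := by
    intro s
    unfold fixN
    rw [Fintype.card_subtype, Finset.card_filter]
    rfl
  -- |invFix| = n * i
  have hcardFix : (invFix (G := G) (Ω := Ω)).card = n * i := by
    have h1 : ∑ c : Ω, (invAt (G := G) c).card = n * i := by
      rw [Finset.sum_congr rfl (fun c _ => hall c), Finset.sum_const, Finset.card_univ,
        smul_eq_mul]
    rw [← h1]
    have h2 : ∀ c : Ω, (invAt (G := G) c).card =
        ∑ s ∈ invFix (G := G) (Ω := Ω), if s • c = c then 1 else 0 := by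
      intro c
      rw [← Finset.card_filter]
      congr 1
      ext s
      simp only [invAt, invFix, Finset.mem_filter, Finset.mem_univ, true_and]
      constructor
      · rintro ⟨h1, h2, h3⟩
        exact ⟨⟨h1, h2, c, h3⟩, h3⟩
      · rintro ⟨⟨h1, h2, _⟩, h3⟩
        exact ⟨h1, h2, h3⟩
    rw [Finset.sum_congr rfl (fun c _ => h2 c), Finset.sum_comm]
    rw [Finset.card_eq_sum_ones]
    apply Finset.sum_congr rfl
    intro s hs
    rw [← hfixN, hfix1 s hs]
  -- the double count
  have hA : ∑ s ∈ invFix (G := G) (Ω := Ω), ∑ d : Ω, (if s • d ≠ d then 1 else 0) =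
      n * i * (n - 1) := by
    rw [← hcardFix, Finset.card_eq_sum_ones, Finset.sum_mul]
    apply Finset.sum_congr rfl
    intro s hs
    have h1 := hfix1 s hs
    rw [hfixN] at h1
    have h2 : ∑ d : Ω, ((if s • d = d then 1 else 0) + (if s • d ≠ d then 1 else 0)) = n := by
      have : ∀ d : Ω, ((if s • d = d then 1 else 0) + (if s • d ≠ d then 1 else 0) : ℕ) = 1 := by
        intro d
        by_cases h : s • d = d <;> simp [h]
      rw [Finset.sum_congr rfl (fun d _ => this d), Finset.sum_const, Finset.card_univ,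
        smul_eq_mul, mul_one]
    rw [Finset.sum_add_distrib, h1] at h2
    omega
  have hB : ∑ s ∈ invFix (G := G) (Ω := Ω), ∑ d : Ω, (if s • d ≠ d then 1 else 0) ≤
      n * ((n - 1) * e) := by
    rw [Finset.sum_comm]
    have : ∀ d : Ω, ∑ s ∈ invFix (G := G) (Ω := Ω), (if s • d ≠ d then 1 else 0) ≤ (n - 1) * e := by
      intro d
      rw [← Finset.card_filter]
      have hmaps : Set.MapsTo (fun s : G => s • d)
          ↑((invFix (G := G) (Ω := Ω)).filter (fun s => s • d ≠ d)) ↑(Finset.univ.erase d) := by
        intro s hs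
        simp only [Finset.coe_filter, Set.mem_ofPred_eq] at hs
        simp only [Finset.coe_erase, Finset.coe_univ, Set.mem_sdiff, Set.mem_univ,
          Set.mem_singleton_iff, true_and]
        exact hs.2
      rw [Finset.card_eq_sum_card_fiberwise hmaps]
      have hle : ∀ d' ∈ Finset.univ.erase d,
          (((invFix (G := G) (Ω := Ω)).filter (fun s => s • d ≠ d)).filter
            (fun s => s • d = d')).card ≤ e := by
        intro d' hd'
        have hdd : d ≠ d' := fun h => (Finset.ne_of_mem_erase hd') h.symm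
        refine le_trans (Finset.card_le_card ?_) (card_swap_le hZ hab hdd)
        intro s hs
        simp only [invFix, Finset.mem_filter, Finset.mem_univ, true_and] at hs ⊢
        exact ⟨hs.1.1.1, hs.1.1.2.1, hs.2⟩
      refine le_trans (Finset.sum_le_sum hle) ?_
      rw [Finset.sum_const, Finset.card_erase_of_mem (Finset.mem_univ d), Finset.card_univ,
        smul_eq_mul]
    refine le_trans (Finset.sum_le_sum (fun d _ => this d)) ?_
    rw [Finset.sum_const, Finset.card_univ, smul_eq_mul]
  rw [hA] at hB
  have h3 : n * (n - 1) * i ≤ n * (n - 1) * e := by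
    calc n * (n - 1) * i = n * i * (n - 1) := by ring
      _ ≤ n * ((n - 1) * e) := hB
      _ = n * (n - 1) * e := by ring
  exact Nat.le_of_mul_le_mul_left h3 (Nat.mul_pos (by omega) (by omega))

end

/-- `n - 1` is coprime to the order of a two-point stabiliser. -/
theorem coprime_pred_card [Finite G] [Fintype Ω] (hZ : Cfsg.IsZassenhausGroup G Ω) {a b : Ω}
    (hab : a ≠ b) :
    Nat.Coprime (Fintype.card Ω - 1)
      (Nat.card ↥(stabilizer G a ⊓ stabilizer G b : Subgroup G)) := by
  classical
  apply Nat.coprime_of_dvd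
  intro p hp hph hpe
  haveI : Fact p.Prime := ⟨hp⟩
  obtain ⟨z, hz⟩ := exists_prime_orderOf_dvd_card' (G := ↥(stabilizer G a ⊓ stabilizer G b : Subgroup G)) p hpe
  have hzG : orderOf (z : G) = p := by rw [Subgroup.orderOf_coe]; exact hz
  have hz1 : (z : G) ≠ 1 := by
    intro h
    rw [h, orderOf_one] at hzG
    exact hp.one_lt.ne hzG
  have hza : (z : G) • a = a := z.2.1
  have hzb : (z : G) • b = b := z.2.2
  have hP : IsPGroup p (zpowers (z : G)) := by
    apply IsPGroup.of_card (n := 1)
    rw [Nat.card_zpowers, hzG, pow_one]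
  have hmod := hP.card_modEq_card_fixedPoints Ω
  have hfix : fixedPoints (zpowers (z : G)) Ω = {a, b} := by
    ext c
    rw [mem_fixedPoints]
    constructor
    · intro h
      have h1 : (z : G) • c = c := h ⟨(z : G), mem_zpowers _⟩
      rcases zass_fixed_eq hZ hab hz1 hza hzb h1 with h2 | h2
      · rw [h2]; simp
      · rw [h2]; simp
    · intro h m
      obtain ⟨k, hk⟩ := m.2
      have hc : c ∈ fixedBy Ω (z : G) := by
        rcases h with h | h
        · rw [h]; exact hza
        · rw [Set.mem_singleton_iff] at h; rw [h]; exact hzb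
      have := fixedBy_subset_fixedBy_zpow Ω (z : G) k hc
      show (m : G) • c = c
      rw [← hk]; exact this
  have hcard2 : Nat.card ↥(fixedPoints (zpowers (z : G)) Ω) = 2 := by
    rw [hfix, Nat.card_coe_set_eq, Set.ncard_pair hab]
  rw [hcard2, Nat.card_eq_fintype_card] at hmod
  have hn2 : 2 ≤ Fintype.card Ω := two_le_card hab
  obtain ⟨k, hk⟩ := hph
  have h1 : Fintype.card Ω = p * k + 1 := by omega
  rw [h1] at hmod
  have h2 : 1 ≡ 2 [MOD p] := by
    have h3 : p * k + 1 ≡ 1 [MOD p] := by
      unfold Nat.ModEq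
      rw [Nat.mul_add_mod]
    exact h3.symm.trans hmod
  have h4 := (Nat.modEq_iff_dvd' (by norm_num)).mp h2
  have h5 : p ∣ 1 := by simpa using h4
  exact hp.one_lt.ne' (Nat.dvd_one.mp h5)

/-- In a Zassenhaus group with two-point stabilisers of odd order, the centraliser in the
point stabiliser of an involution fixing `a` is the Frobenius kernel `H`. -/
theorem invol_centralizer_eq [Finite G] [Fintype Ω] (hZ : Cfsg.IsZassenhausGroup G Ω) {a b : Ω}
    (hab : a ≠ b)
    (hodd : Odd (Nat.card ↥(stabilizer G a ⊓ stabilizer G b : Subgroup G)))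
    (H : Subgroup G) (hHa : H ≤ stabilizer G a) (hHcard : Nat.card H + 1 = Fintype.card Ω)
    (hnorm : Subgroup.normalizer (H : Set G) = stabilizer G a)
    {s : G} (hs2 : s * s = 1) (hs1 : s ≠ 1) (hsa : s • a = a) :
    Subgroup.centralizer ({s} : Set G) ⊓ stabilizer G a = H := by
  classical
  letI : Fintype G := Fintype.ofFinite G
  set e := Nat.card ↥(stabilizer G a ⊓ stabilizer G b : Subgroup G) with he
  set n := Fintype.card Ω with hn
  set h := Nat.card H with hh
  have hn2 : 2 ≤ n := two_le_card hab
  have hnh : n = h + 1 := hHcard.symm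
  have hepos : 0 < e := Nat.card_pos
  set C : Subgroup G := Subgroup.centralizer ({s} : Set G) ⊓ stabilizer G a with hC
  have hCmem : ∀ z : G, z ∈ C ↔ z * s = s * z ∧ z • a = a := by
    intro z
    rw [hC, Subgroup.mem_inf, Subgroup.mem_centralizer_iff, mem_stabilizer_iff]
    constructor
    · rintro ⟨h1, h2⟩
      exact ⟨(h1 s rfl).symm, h2⟩
    · rintro ⟨h1, h2⟩
      refine ⟨fun t ht => ?_, h2⟩
      rw [Set.mem_singleton_iff] at ht
      rw [ht]; exact h1.symm
  -- elements of C fixing b are trivial
  have hCb : ∀ w : G, w ∈ C → w • b = b → w = 1 := by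
    intro w hw hwb
    by_contra hw1
    obtain ⟨hws, hwa⟩ := (hCmem w).mp hw
    have h1 : w • (s • b) = s • b := by
      rw [← mul_smul, hws, mul_smul, hwb]
    rcases zass_fixed_eq hZ hab hw1 hwa hwb h1 with h2 | h2
    · have : s • b = s • a := by rw [h2, hsa]
      exact hab (MulAction.injective s this).symm
    · exact invol_not_fix_two hZ hab hodd hs2 hs1 hab hsa h2
  -- |N| = h e
  have hNcard : Nat.card (stabilizer G a) = h * e := by
    haveI : IsPretransitive G Ω := isPretransitive_of_two hZ.2.1 hab
    have h1 := Subgroup.card_mul_index (stabilizer G a)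
    rw [MulAction.index_stabilizer_of_transitive, Nat.card_eq_fintype_card (α := Ω),
      card_eq hZ hab, ← hn, ← he, hnh] at h1
    have h2 : Nat.card (stabilizer G a) * (h + 1) = (h * e) * (h + 1) := by
      rw [h1]; simp; ring
    exact Nat.eq_of_mul_eq_mul_right (Nat.succ_pos h) h2
  -- |C| ≤ h
  have hC1 : Nat.card C ≤ h := by
    have h1 : Nat.card C = (Finset.univ.filter (fun z : G => z ∈ C)).card := by
      rw [Nat.card_eq_fintype_card, Fintype.card_subtype]
    have h2 : (Finset.univ.filter (fun z : G => z ∈ C)).card ≤ (Finset.univ.erase a).card := by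
      apply Finset.card_le_card_of_injOn (fun z => z • b)
      · intro z hz
        simp only [Finset.coe_filter, Finset.mem_univ, true_and, Set.mem_ofPred_eq] at hz
        simp only [Finset.coe_erase, Finset.coe_univ, Set.mem_sdiff, Set.mem_univ,
          Set.mem_singleton_iff, true_and]
        intro hzb
        have hza := ((hCmem z).mp hz).2
        rw [← hza] at hzb
        exact hab (MulAction.injective z hzb).symm
      · intro z hz z' hz' hzz
        simp only [Finset.coe_filter, Finset.mem_univ, true_and, Set.mem_ofPred_eq] at hz hz'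
        have hzz' : (z⁻¹ * z') • b = b := by
          rw [mul_smul]
          show z⁻¹ • (z' • b) = b
          rw [← (show z • b = z' • b from hzz), inv_smul_smul]
        have := hCb (z⁻¹ * z') (C.mul_mem (C.inv_mem hz) hz') hzz'
        exact inv_mul_eq_one.mp this
    rw [h1]
    refine le_trans h2 ?_
    rw [Finset.card_erase_of_mem (Finset.mem_univ a), Finset.card_univ]
    omega
  -- h ≤ |C|
  have hC2 : h ≤ Nat.card C := by
    have hi := card_invAt_le hZ hab hodd
    have h1 : Nat.card (stabilizer G a) =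
        (Finset.univ.filter (fun z : G => z ∈ stabilizer G a)).card := by
      rw [Nat.card_eq_fintype_card, Fintype.card_subtype]
    have h2 : Nat.card C = (Finset.univ.filter (fun z : G => z ∈ C)).card := by
      rw [Nat.card_eq_fintype_card, Fintype.card_subtype]
    have h3 := Finset.card_le_mul_card_image (f := fun g : G => g * s * g⁻¹)
      (Finset.univ.filter (fun z : G => z ∈ stabilizer G a)) (Nat.card C) (by
        intro t ht
        rw [Finset.mem_image] at ht
        obtain ⟨g₀, hg₀, rfl⟩ := ht
        simp only [Finset.mem_filter, Finset.mem_univ, true_and] at hg₀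
        rw [h2]
        apply Finset.card_le_card_of_injOn (fun g => g₀⁻¹ * g)
        · intro g hg
          simp only [Finset.coe_filter, Finset.mem_filter, Finset.mem_univ, true_and,
            Set.mem_ofPred_eq] at hg ⊢
          obtain ⟨hgN, hgs⟩ := hg
          rw [hCmem]
          constructor
          · have : g₀⁻¹ * (g * s * g⁻¹) * g = g₀⁻¹ * (g₀ * s * g₀⁻¹) * g := by rw [hgs]
            calc g₀⁻¹ * g * s = g₀⁻¹ * (g * s * g⁻¹) * g := by group
              _ = g₀⁻¹ * (g₀ * s * g₀⁻¹) * g := this
              _ = s * (g₀⁻¹ * g) := by group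
          · rw [mul_smul, mem_stabilizer_iff.mp hgN, inv_smul_eq_iff, mem_stabilizer_iff.mp hg₀]
        · intro g _ g' _ hgg
          exact mul_left_cancel hgg)
    have h4 : (Finset.image (fun g : G => g * s * g⁻¹)
        (Finset.univ.filter (fun z : G => z ∈ stabilizer G a))).card ≤ (invAt (G := G) a).card := by
      apply Finset.card_le_card
      intro t ht
      rw [Finset.mem_image] at ht
      obtain ⟨g, hg, rfl⟩ := ht
      simp only [Finset.mem_filter, Finset.mem_univ, true_and] at hg
      simp only [invAt, Finset.mem_filter, Finset.mem_univ, true_and]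
      refine ⟨?_, ?_, ?_⟩
      · calc g * s * g⁻¹ * (g * s * g⁻¹) = g * (s * s) * g⁻¹ := by group
          _ = 1 := by rw [hs2]; group
      · intro h
        apply hs1
        have : s = g⁻¹ * (g * s * g⁻¹) * g := by group
        rw [this, h]; group
      · rw [mul_smul, mul_smul, inv_smul_eq_iff.mpr (mem_stabilizer_iff.mp hg).symm, hsa,
          mem_stabilizer_iff.mp hg]
    rw [← h1, hNcard] at h3
    have h5 : h * e ≤ Nat.card C * e :=
      le_trans h3 (Nat.mul_le_mul_left _ (le_trans h4 hi))
    exact Nat.le_of_mul_le_mul_right h5 hepos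
  have hCcard : Nat.card C = h := le_antisymm hC1 hC2
  -- C ≤ H
  have hcop : Nat.Coprime h e := by
    have := coprime_pred_card hZ hab
    rwa [← hn, hnh, Nat.add_sub_cancel] at this
  have hCH : C ≤ H := by
    intro z hz
    have hzN : z ∈ Subgroup.normalizer (H : Set G) := by
      rw [hnorm]; exact ((hCmem z).mp hz).2
    have hzpow : z ^ h = 1 := by
      have h1 : (⟨z, hz⟩ : C) ^ Nat.card C = 1 := pow_card_eq_one'
      rw [hCcard] at h1
      exact congrArg Subtype.val h1
    haveI hnH : (H.subgroupOf (Subgroup.normalizer (H : Set G))).Normal :=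
      Subgroup.normal_in_normalizer
    let q : (Subgroup.normalizer (H : Set G)) ⧸ H.subgroupOf (Subgroup.normalizer (H : Set G)) :=
      QuotientGroup.mk ⟨z, hzN⟩
    have hq1 : q ^ h = 1 := by
      show (QuotientGroup.mk (⟨z, hzN⟩ : Subgroup.normalizer (H : Set G)) : _ ⧸ _) ^ h = 1
      rw [← QuotientGroup.mk_pow]
      have : (⟨z, hzN⟩ : Subgroup.normalizer (H : Set G)) ^ h = 1 := by
        apply Subtype.ext
        rw [SubgroupClass.coe_pow]
        exact hzpow
      rw [this]; rfl
    have hidx : (H.subgroupOf (Subgroup.normalizer (H : Set G))).index = e := by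
      have h1 := Subgroup.index_mul_card (H.subgroupOf (Subgroup.normalizer (H : Set G)))
      have h2 : Nat.card (H.subgroupOf (Subgroup.normalizer (H : Set G))) = h :=
        Nat.card_congr (Subgroup.subgroupOfEquivOfLe Subgroup.le_normalizer).toEquiv
      have h3 : Nat.card (Subgroup.normalizer (H : Set G)) = h * e := by
        rw [hnorm]; exact hNcard
      rw [h2, h3, mul_comm h e] at h1
      have hhpos : 0 < h := Nat.card_pos
      exact Nat.eq_of_mul_eq_mul_right hhpos h1
    have hq2 : q ^ e = 1 := by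
      rw [← hidx, Subgroup.index_eq_card]
      exact pow_card_eq_one'
    have hq : q = 1 := by
      have := pow_gcd_eq_one.mpr ⟨hq1, hq2⟩
      rwa [hcop, pow_one] at this
    have hmem := (QuotientGroup.eq_one_iff _).mp hq
    exact Subgroup.mem_subgroupOf.mp hmem
  exact Subgroup.eq_of_le_of_card_ge hCH (by rw [hCcard])

end Cfsg.Agent.Lib.Helper17.ZassInvol
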