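import Mathlib
import Cfsg.Agent.Lib.Helper17.FeitCore
import Cfsg.Agent.Lib.Helper17.ZassInvol
import Cfsg.Agent.Lib.Helper28.ZassPSL
import Cfsg.Agent.Lib.Helper28.ZassTwoPointMain
import Cfsg.Agent.Lib.Helper28.ZassOdd
import Cfsg.Agent.Lib.Helper83.SecondOrth
import Cfsg.Agent.Lib.Helper83.Quotient
import Cfsg.Agent.S0339
import Cfsg.Agent.S0878
import Cfsg.Agent.S0851
import Cfsg.Agent.S0850
import Cfsg.Agent.S0884
import Cfsg.Agent.S0881

/-!
# Feit's bound `q - 1 ≤ 2 e` for Zassenhaus groups whose point stabilizer has an abelian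
regular normal subgroup and whose two-point stabilizer has odd order
-/

set_option autoImplicit false
set_option linter.unusedSectionVars false
set_option linter.style.haveILetI false

namespace Cfsg.Agent.Lib.Helper17.FeitZass

open Cfsg MulAction Cfsg.Agent.Lib.Helper28
open scoped ComplexConjugate

section Pure

variable {G : Type*} [Group G]

/-- in a simple group an irreducible character with a nonidentity element in its kernel is
trivial -/
theorem irr_eq_triv_of_simple [Finite G] [IsSimpleGroup G] (ψ : IrrCharacter G) (t : G)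
    (ht : t ≠ 1) (h : (ψ : G → ℂ) t = (ψ : G → ℂ) 1) :
    ψ = Cfsg.Agent.Lib.Helper83.trivChar G := by
  classical
  letI : Fintype G := Fintype.ofFinite G
  have hc := Cfsg.Agent.Lib.Helper83.IrrCharacter_isCharacter ψ
  have h1 : t ∈ Cfsg.Agent.Lib.Helper83.charKer hc :=
    (Cfsg.Agent.Lib.Helper83.mem_charKer hc t).mpr h
  have htop : Cfsg.Agent.Lib.Helper83.charKer hc = ⊤ := by
    rcases (Cfsg.Agent.Lib.Helper83.charKer_normal hc).eq_bot_or_eq_top with hb | ht'
    · rw [hb, Subgroup.mem_bot] at h1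
      exact absurd h1 ht
    · exact ht'
  have hker : ∀ g : G, (ψ : G → ℂ) g = (ψ : G → ℂ) 1 := by
    intro g
    exact (Cfsg.Agent.Lib.Helper83.mem_charKer hc g).mp (by rw [htop]; exact Subgroup.mem_top g)
  by_contra hne
  have h0 := Cfsg.Agent.Lib.Helper83.irr_orthonormal ψ (Cfsg.Agent.Lib.Helper83.trivChar G)
  rw [if_neg hne, Cfsg.Agent.Lib.Helper83.classInner_def] at h0
  have hd : 0 < charDegree (ψ : G → ℂ) := Cfsg.Agent.Lib.Helper83.irr_charDegree_pos ψ
  have hd' := Cfsg.Agent.Lib.Helper83.charDegree_cast hc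
  simp only [hker, Cfsg.Agent.Lib.Helper83.trivChar_apply, map_one, mul_one, Finset.sum_const,
    Finset.card_univ, nsmul_eq_mul] at h0
  have hG : (Nat.card G : ℂ) ≠ 0 := Nat.cast_ne_zero.mpr Nat.card_pos.ne'
  rw [← Nat.card_eq_fintype_card, ← mul_assoc, inv_mul_cancel₀ hG, one_mul, ← hd'] at h0
  have : charDegree (ψ : G → ℂ) = 0 := by exact_mod_cast h0
  omega

/-- `N / F` is abelian when `N = F E` with `E` abelian -/
theorem quot_comm (F E N : Subgroup G) [hn : (F.subgroupOf N).Normal]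
    (hdec : ∀ n ∈ N, ∃ f ∈ F, ∃ c ∈ E, n = f * c) (hFN : F ≤ N) (hEN : E ≤ N)
    (hEab : ∀ a ∈ E, ∀ b ∈ E, a * b = b * a) :
    ∀ a b : N, a * b * a⁻¹ * b⁻¹ ∈ F.subgroupOf N := by
  intro a b
  rw [← QuotientGroup.eq_one_iff]
  have key : ∀ a : N, ∃ c : N, (c : G) ∈ E ∧
      (QuotientGroup.mk a : N ⧸ F.subgroupOf N) = QuotientGroup.mk c := by
    intro a
    obtain ⟨f, hf, c, hc, hfc⟩ := hdec a a.2
    refine ⟨⟨c, hEN hc⟩, hc, ?_⟩
    have h1 : a = (⟨f, hFN hf⟩ : N) * ⟨c, hEN hc⟩ := Subtype.ext hfc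
    have h2 : (QuotientGroup.mk (⟨f, hFN hf⟩ : N) : N ⧸ F.subgroupOf N) = 1 := by
      rw [QuotientGroup.eq_one_iff, Subgroup.mem_subgroupOf]
      exact hf
    rw [h1, QuotientGroup.mk_mul, h2, one_mul]
  obtain ⟨ca, hca, hae⟩ := key a
  obtain ⟨cb, hcb, hbe⟩ := key b
  rw [QuotientGroup.mk_mul, QuotientGroup.mk_mul, QuotientGroup.mk_mul, QuotientGroup.mk_inv,
    QuotientGroup.mk_inv, hae, hbe, ← QuotientGroup.mk_inv, ← QuotientGroup.mk_inv,
    ← QuotientGroup.mk_mul, ← QuotientGroup.mk_mul, ← QuotientGroup.mk_mul]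
  have hcomm : ca * cb = cb * ca := Subtype.ext (hEab _ hca _ hcb)
  have : ca * cb * ca⁻¹ * cb⁻¹ = 1 := by
    rw [hcomm]; group
  rw [this, QuotientGroup.mk_one]

/-- counting conjugacy classes: at least `1 + t + m` classes when `|F| = t e + 1`, the classes of
elements of `F` fuse only under `E`, and at least `m` classes miss `F`. -/
theorem card_conjClasses_ge [Finite G] (F E N : Subgroup G)
    (hTI : ∀ g : G, g ∉ N → ∀ k ∈ F, g * k * g⁻¹ ∈ F → k = 1)
    (hdec : ∀ n ∈ N, ∃ f ∈ F, ∃ c ∈ E, n = f * c)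
    (hFab : ∀ a ∈ F, ∀ b ∈ F, a * b = b * a)
    (hEF : ∀ c ∈ E, ∀ u ∈ F, c * u * c⁻¹ ∈ F)
    (t e : ℕ) (he : Nat.card E = e) (hq : Nat.card F = t * e + 1) (m : ℕ)
    (hm : m ≤ Nat.card {C : ConjClasses G // ∀ g : G, ConjClasses.mk g = C → g ∉ F}) :
    1 + t + m ≤ Nat.card (ConjClasses G) := by
  classical
  letI : Fintype G := Fintype.ofFinite G
  letI : Fintype E := Fintype.ofFinite E
  letI : Fintype (ConjClasses G) := Fintype.ofFinite _
  have hepos : 0 < e := by rw [← he]; exact Nat.card_pos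
  set S : Finset G := Finset.univ.filter (fun g => g ∈ F ∧ g ≠ 1) with hS
  have hScard : S.card = t * e := by
    have h1 : (Finset.univ.filter (fun g : G => g ∈ F)).card = Nat.card F := by
      rw [Nat.card_eq_fintype_card, Fintype.card_subtype]
    have h2 : S = (Finset.univ.filter (fun g : G => g ∈ F)).erase 1 := by
      ext g
      simp only [hS, Finset.mem_filter, Finset.mem_univ, true_and, Finset.mem_erase]
      tauto
    rw [h2, Finset.card_erase_of_mem (by simp [F.one_mem]), h1, hq]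
    rfl
  have hfib : ∀ C ∈ S.image (ConjClasses.mk : G → ConjClasses G),
      (S.filter (fun u' => ConjClasses.mk u' = C)).card ≤ e := by
    intro C hC
    obtain ⟨u, hu, rfl⟩ := Finset.mem_image.mp hC
    rw [hS, Finset.mem_filter] at hu
    obtain ⟨-, huF, hu1⟩ := hu
    have hsub : S.filter (fun u' => ConjClasses.mk u' = ConjClasses.mk u) ⊆
        (Finset.univ : Finset ↥E).image (fun c : ↥E => (c : G) * u * (c : G)⁻¹) := by
      intro u' hu'
      rw [Finset.mem_filter, hS, Finset.mem_filter] at hu'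
      obtain ⟨⟨-, hu'F, -⟩, hcl⟩ := hu'
      rw [ConjClasses.mk_eq_mk_iff_isConj, isConj_comm, isConj_iff] at hcl
      obtain ⟨g, hg⟩ := hcl
      have hgN : g ∈ N := by
        by_contra hgN
        exact hu1 (hTI g hgN u huF (by rw [hg]; exact hu'F))
      obtain ⟨f, hf, c, hc, hfc⟩ := hdec g hgN
      rw [Finset.mem_image]
      refine ⟨⟨c, hc⟩, Finset.mem_univ _, ?_⟩
      show c * u * c⁻¹ = u'
      have hcu : c * u * c⁻¹ ∈ F := hEF c hc u huF
      rw [← hg, hfc]
      have : f * c * u * (f * c)⁻¹ = f * (c * u * c⁻¹) * f⁻¹ := by group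
      rw [this, hFab f hf _ hcu]
      group
    calc (S.filter (fun u' => ConjClasses.mk u' = ConjClasses.mk u)).card
        ≤ ((Finset.univ : Finset ↥E).image (fun c : ↥E => (c : G) * u * (c : G)⁻¹)).card :=
          Finset.card_le_card hsub
      _ ≤ (Finset.univ : Finset ↥E).card := Finset.card_image_le
      _ = e := by rw [Finset.card_univ, ← Nat.card_eq_fintype_card, he]
  have h1 := Finset.card_le_mul_card_image (f := (ConjClasses.mk : G → ConjClasses G)) S e hfib
  rw [hScard, mul_comm] at h1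
  have hA : t ≤ (S.image (ConjClasses.mk : G → ConjClasses G)).card :=
    Nat.le_of_mul_le_mul_left h1 hepos
  set A := S.image (ConjClasses.mk : G → ConjClasses G) with hAdef
  set B : Finset (ConjClasses G) :=
    Finset.univ.filter (fun C => ∀ g : G, ConjClasses.mk g = C → g ∉ F) with hB
  have hBcard : m ≤ B.card := by
    rw [hB, ← Fintype.card_subtype, ← Nat.card_eq_fintype_card]
    exact hm
  have h1A : (ConjClasses.mk (1 : G)) ∉ A := by
    intro h
    obtain ⟨u, hu, hcl⟩ := Finset.mem_image.mp h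
    rw [hS, Finset.mem_filter] at hu
    rw [ConjClasses.mk_eq_mk_iff_isConj, isConj_one_left] at hcl
    exact hu.2.2 hcl
  have h1B : (ConjClasses.mk (1 : G)) ∉ B := by
    intro h
    rw [hB, Finset.mem_filter] at h
    exact h.2 1 rfl F.one_mem
  have hAB : Disjoint A B := by
    rw [Finset.disjoint_left]
    intro C hCA hCB
    obtain ⟨u, hu, rfl⟩ := Finset.mem_image.mp hCA
    rw [hS, Finset.mem_filter] at hu
    rw [hB, Finset.mem_filter] at hCB
    exact hCB.2 u rfl hu.2.1
  have hcard : (insert (ConjClasses.mk (1 : G)) (A ∪ B)).card = 1 + (A.card + B.card) := by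
    rw [Finset.card_insert_of_notMem (by
      rw [Finset.mem_union]; exact fun h => h.elim h1A h1B), Finset.card_union_of_disjoint hAB]
    ring
  have hle : (insert (ConjClasses.mk (1 : G)) (A ∪ B)).card ≤ Fintype.card (ConjClasses G) :=
    Finset.card_le_univ _
  rw [Nat.card_eq_fintype_card]
  omega

end Pure

section Simple

variable {G Ω : Type*} [Group G] [Finite G] [MulAction G Ω] [Fintype Ω]

/-- **Feit's bound** for a simple Zassenhaus group with abelian kernel and two-point stabilizers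
of odd order. -/
theorem feit_abelian_simple (hZ : Cfsg.IsZassenhausGroup G Ω) [IsSimpleGroup G] {x b : Ω}
    (hxb : x ≠ b) (F : Subgroup G) (hFle : F ≤ stabilizer G x)
    (hFn : (F.subgroupOf (stabilizer G x)).Normal)
    (hFab : ∀ a ∈ F, ∀ b ∈ F, a * b = b * a)
    (hreg : ∀ y z : Ω, y ≠ x → z ≠ x → ∃! u : F, (u : G) • y = z)
    (hodd : Odd (Nat.card ↥(stabilizer G x ⊓ stabilizer G b : Subgroup G))) :
    Fintype.card Ω - 2 ≤ 2 * Nat.card ↥(stabilizer G x ⊓ stabilizer G b : Subgroup G) := by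
  classical
  by_contra hlt
  push Not at hlt
  letI : Fintype G := Fintype.ofFinite G
  have hpre := zpre_of_isZassenhausGroup hZ
  obtain ⟨e, he⟩ : ∃ e, Nat.card ↥(stabilizer G x ⊓ stabilizer G b : Subgroup G) = e := ⟨_, rfl⟩
  obtain ⟨q, hq⟩ : ∃ q, Nat.card F = q := ⟨_, rfl⟩
  rw [he] at hlt hodd
  obtain ⟨hFcard, hGcard⟩ := hpre.card_of_regular_kernel hxb F hFle hreg
  rw [he, hq] at hGcard
  rw [hq] at hFcard
  have hΩ2 : 2 ≤ Fintype.card Ω := Cfsg.Agent.Lib.Helper17.ZassCount.two_le_card hxb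
  have hΩ : Fintype.card Ω = q + 1 := by omega
  have hHcard : Nat.card F + 1 = Fintype.card Ω := by rw [hq, hΩ]
  -- membership in the two-point stabilizer
  have hEmem : ∀ g : G, g ∈ (stabilizer G x ⊓ stabilizer G b : Subgroup G) ↔
      g • x = x ∧ g • b = b := by
    intro g
    rw [Subgroup.mem_inf, mem_stabilizer_iff, mem_stabilizer_iff]
  have hFx : ∀ u ∈ F, u • x = x := fun u hu => mem_stabilizer_iff.mp (hFle hu)
  have hFfix : ∀ u ∈ F, u ≠ 1 → ∀ c : Ω, u • c = c → c = x := by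
    intro u hu hu1 c hc
    by_contra hcx
    obtain ⟨w, -, hw⟩ := hreg c c hcx hcx
    have h1 := hw ⟨u, hu⟩ hc
    have h2 := hw 1 (by show ((1 : F) : G) • c = c; rw [Subgroup.coe_one, one_smul])
    apply hu1
    have := h1.trans h2.symm
    exact congrArg Subtype.val this
  obtain ⟨hTI0, hN⟩ := Cfsg.Agent.S0878.result hZ x F hFle hHcard hFfix
  have hTI : ∀ g : G, g ∉ Subgroup.normalizer (F : Set G) → ∀ k ∈ F, g * k * g⁻¹ ∈ F → k = 1 := by
    intro g hg
    rw [hN] at hg
    exact hTI0 g hg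
  -- decomposition of the point stabilizer
  have hdec0 : ∀ n ∈ stabilizer G x, ∃ f ∈ F, ∃ c ∈ (stabilizer G x ⊓ stabilizer G b : Subgroup G),
      n = f * c := by
    intro g hg
    have hga : g • x = x := mem_stabilizer_iff.mp hg
    have hgb : g • b ≠ x := by
      intro hh
      rw [← hga] at hh
      exact hxb (MulAction.injective g hh).symm
    obtain ⟨k, hk, -⟩ := hreg b (g • b) hxb.symm hgb
    have hk' : (k : G) • b = g • b := hk
    refine ⟨k, k.2, (k : G)⁻¹ * g, ?_, by group⟩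
    rw [hEmem]
    constructor
    · rw [mul_smul, hga, hFx _ (F.inv_mem k.2)]
    · rw [mul_smul, ← hk', inv_smul_smul]
  have hdec : ∀ n ∈ Subgroup.normalizer (F : Set G), ∃ f ∈ F,
      ∃ c ∈ (stabilizer G x ⊓ stabilizer G b : Subgroup G), n = f * c := by
    intro n hn
    rw [hN] at hn
    exact hdec0 n hn
  have hEN : (stabilizer G x ⊓ stabilizer G b : Subgroup G) ≤ Subgroup.normalizer (F : Set G) := by
    rw [hN]
    exact inf_le_left
  -- orders
  haveI : IsPretransitive G Ω := ⟨fun c d => hpre.trans1 c d⟩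
  have hNcard0 : Nat.card (stabilizer G x) = q * e := by
    have h1 := Subgroup.card_mul_index (stabilizer G x)
    rw [index_stabilizer_of_transitive G x, Nat.card_eq_fintype_card (α := Ω), hGcard] at h1
    have hpos : 0 < Fintype.card Ω := by omega
    rw [mul_comm] at h1
    exact Nat.eq_of_mul_eq_mul_left hpos h1
  have hNcard : Nat.card (Subgroup.normalizer (F : Set G)) = q * e := by rw [hN]; exact hNcard0
  have he2 : 2 ≤ e := by
    obtain ⟨g, hg1, hgx, hgb⟩ := hpre.two_stab_ne hxb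
    rw [← he]
    have hnt : Nontrivial ↥(stabilizer G x ⊓ stabilizer G b : Subgroup G) :=
      ⟨⟨⟨g, (hEmem g).mpr ⟨hgx, hgb⟩⟩, 1, fun h => hg1 (congrArg Subtype.val h)⟩⟩
    exact Finite.one_lt_card
  have hqpos : 0 < q := by rw [← hq]; exact Nat.card_pos
  -- the two-point stabilizer is abelian
  have h2G : 2 ∣ Nat.card G := by
    rw [hGcard, hΩ, ← mul_assoc]
    exact Dvd.dvd.mul_right (even_iff_two_dvd.mp (by
      rw [mul_comm]; exact Nat.even_mul_succ_self q)) _
  have hnil : ∀ r : ℕ, r.Prime →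
      r ∣ Nat.card ↥(stabilizer G x ⊓ stabilizer G b : Subgroup G) →
      ¬ ∃ M : Subgroup G, M.Normal ∧ M.index = r ^ (Nat.card G).factorization r := by
    rintro r hr hre ⟨M, hMn, hMidx⟩
    have hrG : r ∣ Nat.card G := dvd_trans hre (Subgroup.card_subgroup_dvd_card _)
    rcases hMn.eq_bot_or_eq_top with rfl | rfl
    · rw [Subgroup.index_bot] at hMidx
      rw [hMidx] at h2G
      have h3 : 2 ∣ r := Nat.Prime.dvd_of_dvd_pow Nat.prime_two h2G
      have h4 : r = 2 := ((Nat.prime_dvd_prime_iff_eq Nat.prime_two hr).mp h3).symm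
      rw [h4, he] at hre
      exact (Nat.not_even_iff_odd.2 hodd) (even_iff_two_dvd.2 hre)
    · rw [Subgroup.index_top] at hMidx
      have hk : (Nat.card G).factorization r = 0 := by
        by_contra hk
        have : 1 < r ^ (Nat.card G).factorization r := Nat.one_lt_pow hk hr.one_lt
        omega
      rcases (Nat.factorization_eq_zero_iff _ _).mp hk with h1 | h1 | h1
      · exact h1 hr
      · exact h1 hrG
      · exact (Nat.card_pos (α := G)).ne' h1
  obtain ⟨hEcyc, -, -⟩ := hpre.twoStab_main hxb (by rw [he]; exact hodd) hnil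
  have hEab : ∀ a ∈ (stabilizer G x ⊓ stabilizer G b : Subgroup G),
      ∀ c ∈ (stabilizer G x ⊓ stabilizer G b : Subgroup G), a * c = c * a := by
    intro a ha c hc
    obtain ⟨g, hg⟩ := IsCyclic.exists_generator
      (α := ↥(stabilizer G x ⊓ stabilizer G b : Subgroup G))
    obtain ⟨m, hm⟩ := Subgroup.mem_zpowers_iff.mp (hg ⟨a, ha⟩)
    obtain ⟨n, hn⟩ := Subgroup.mem_zpowers_iff.mp (hg ⟨c, hc⟩)
    have h1 : (⟨a, ha⟩ : ↥(stabilizer G x ⊓ stabilizer G b : Subgroup G)) * ⟨c, hc⟩ =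
        ⟨c, hc⟩ * ⟨a, ha⟩ := by
      rw [← hm, ← hn]
      exact zpow_mul_comm g m n
    exact congrArg Subtype.val h1
  -- centralizers
  have hC : ∀ k ∈ F, k ≠ 1 → Subgroup.centralizer ({k} : Set G) ≤ F := by
    intro k hk hk1 g hg
    have hgk : g * k = k * g := by
      have := Subgroup.mem_centralizer_iff.mp hg k (Set.mem_singleton k)
      exact this.symm
    have hgx : g • x = x := by
      apply hFfix k hk hk1
      rw [← mul_smul, ← hgk, mul_smul, hFx k hk]
    obtain ⟨f, hf, c, hc, hfc⟩ := hdec0 g (mem_stabilizer_iff.mpr hgx)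
    have hck : c * k = k * c := by
      have hc' : c = f⁻¹ * g := by rw [hfc]; group
      have hfk : f⁻¹ * k = k * f⁻¹ := hFab _ (F.inv_mem hf) k hk
      rw [hc', mul_assoc, hgk, ← mul_assoc, hfk, mul_assoc]
    obtain ⟨hcx, hcb⟩ := (hEmem c).mp hc
    have hkb : k • b ≠ b := fun h => hxb.symm (hFfix k hk hk1 b h)
    have hkbx : k • b ≠ x := by
      intro h
      have : k⁻¹ • x = b := by rw [← h, inv_smul_smul]
      rw [hFx _ (F.inv_mem hk)] at this
      exact hxb this
    have hc1 : c = 1 := by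
      apply hpre.three c x b (k • b) hxb (Ne.symm hkb) (Ne.symm hkbx) hcx hcb
      rw [← mul_smul, hck, mul_smul, hcb]
    rw [hfc, hc1, mul_one]
    exact hf
  have hltN : F < Subgroup.normalizer (F : Set G) := by
    refine lt_of_le_of_ne Subgroup.le_normalizer ?_
    intro h
    have h1 : Nat.card (Subgroup.normalizer (F : Set G)) = q := by rw [← h, hq]
    rw [hNcard] at h1
    nlinarith
  -- the abstract setting
  letI : Fintype ↥(Subgroup.normalizer (F : Set G)) := Fintype.ofFinite _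
  haveI hKNn : (F.subgroupOf (Subgroup.normalizer (F : Set G))).Normal :=
    Subgroup.normal_in_normalizer
  have hC' := Cfsg.Agent.Lib.Helper34.frobTI_hC F hC
  have hab' : ∀ a ∈ F.subgroupOf (Subgroup.normalizer (F : Set G)),
      ∀ c ∈ F.subgroupOf (Subgroup.normalizer (F : Set G)), a * c = c * a := by
    intro a ha c hc
    exact Subtype.ext (hFab (a : G) ha (c : G) hc)
  have hquot := quot_comm F (stabilizer G x ⊓ stabilizer G b) (Subgroup.normalizer (F : Set G))
    hdec Subgroup.le_normalizer hEN hEab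
  have hindK : ∀ ψ : ↥(Subgroup.normalizer (F : Set G)) → ℂ,
      IsClassFunction ↥(Subgroup.normalizer (F : Set G)) ψ →
      (∀ y : ↥(Subgroup.normalizer (F : Set G)),
        y ∉ F.subgroupOf (Subgroup.normalizer (F : Set G)) → ψ y = 0) →
      ∀ t : ↥(Subgroup.normalizer (F : Set G)),
        t ∈ F.subgroupOf (Subgroup.normalizer (F : Set G)) → t ≠ 1 →
        indFun (Subgroup.normalizer (F : Set G)) ψ (t : G) = ψ t := by
    intro ψ hψ hψoff t ht ht1
    exact Cfsg.Agent.Lib.Helper04.indFun_eq_on_ti (F : Set G) hTI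
      (fun y hy => Subgroup.le_normalizer hy) ψ hψ (fun y hy => hψoff y hy) t ht ht1
  have hKNcard : Nat.card ↥(F.subgroupOf (Subgroup.normalizer (F : Set G))) = q := by
    rw [Nat.card_congr (Subgroup.subgroupOfEquivOfLe (Subgroup.le_normalizer (H := F))).toEquiv, hq]
  have hidx : (Subgroup.normalizer (F : Set G)).index =
      Nat.card ↥(F.subgroupOf (Subgroup.normalizer (F : Set G))) + 1 := by
    rw [hKNcard, hN, index_stabilizer_of_transitive G x, Nat.card_eq_fintype_card, hΩ]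
  have hKNidx : (F.subgroupOf (Subgroup.normalizer (F : Set G))).index = e := by
    have h1 := Subgroup.card_mul_index (F.subgroupOf (Subgroup.normalizer (F : Set G)))
    rw [hKNcard, hNcard] at h1
    exact Nat.eq_of_mul_eq_mul_left hqpos h1
  -- exceptional characters
  rcases Cfsg.Agent.S0851.result F hTI hltN hC hFab with ⟨-, -, -, -, hcard⟩ | ⟨ε, f, hε, hf, hfε⟩
  · rw [hq, hKNidx] at hcard
    omega
  have hker : ∀ ψ : IrrCharacter G,
      (∀ k : ↥(Subgroup.normalizer (F : Set G)),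
        k ∈ F.subgroupOf (Subgroup.normalizer (F : Set G)) →
        (ψ : G → ℂ) (k : G) = (ψ : G → ℂ) 1) →
      ψ = Cfsg.Agent.Lib.Helper83.trivChar G := by
    intro ψ hψ
    have hq1 : 1 < Nat.card F := by rw [hq]; omega
    haveI := Finite.one_lt_card_iff_nontrivial.mp hq1
    obtain ⟨t, ht1⟩ := exists_ne (1 : F)
    apply irr_eq_triv_of_simple ψ (t : G) (fun h => ht1 (Subtype.ext h))
    exact hψ ⟨t, Subgroup.le_normalizer t.2⟩ t.2
  have hind0 := (Cfsg.Agent.S0850.result F hTI hltN hC).2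
  -- induced linear characters
  have h881 : ∀ (N' : Subgroup G) (_ : N' = stabilizer G x) (μ : ↥N' → ℂ),
      (IsCharacter ↥N' μ ∧ μ 1 = 1) → (∀ u : ↥N', (u : G) ∈ F → μ u = 1) →
      μ ≠ (fun _ => 1) →
      IsIrrCharacter G (indFun N' μ) ∧ ∀ u ∈ F, u ≠ 1 → indFun N' μ u = 1 := by
    intro N' hN' μ h1 h2 h3
    subst hN'
    exact Cfsg.Agent.S0881.result hZ hxb (by rw [he]; exact hodd) (by rw [he]; omega) F hFle hHcard
      hFfix μ h1 h2 h3
  have hY : ∀ μ : IrrCharacter ↥(Subgroup.normalizer (F : Set G)),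
      Cfsg.Agent.Lib.Helper17.FeitCore.NonRel (Subgroup.normalizer (F : Set G))
        (F.subgroupOf (Subgroup.normalizer (F : Set G))) μ →
      μ ≠ Cfsg.Agent.Lib.Helper83.trivChar ↥(Subgroup.normalizer (F : Set G)) →
      IsIrrCharacter G (indFun (Subgroup.normalizer (F : Set G))
        (μ : ↥(Subgroup.normalizer (F : Set G)) → ℂ)) ∧
      ∀ u : ↥(Subgroup.normalizer (F : Set G)),
        u ∈ F.subgroupOf (Subgroup.normalizer (F : Set G)) → u ≠ 1 →
        indFun (Subgroup.normalizer (F : Set G))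
          (μ : ↥(Subgroup.normalizer (F : Set G)) → ℂ) (u : G) = 1 := by
    intro μ hμ hμne
    have hμ1 := Cfsg.Agent.Lib.Helper17.FeitCore.nonRel_linear _ _ hquot hμ
    obtain ⟨h1, h2⟩ := h881 (Subgroup.normalizer (F : Set G)) hN
      (μ : ↥(Subgroup.normalizer (F : Set G)) → ℂ)
      ⟨Cfsg.Agent.Lib.Helper83.IrrCharacter_isCharacter μ, hμ1⟩
      (fun u hu => by rw [hμ u hu, hμ1])
      (fun h => hμne (Subtype.ext (by
        rw [h]
        funext g
        exact (Cfsg.Agent.Lib.Helper83.trivChar_apply g).symm)))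
    refine ⟨h1, ?_⟩
    intro u hu hu1
    exact h2 (u : G) hu (fun h => hu1 (Subtype.ext h))
  -- counting
  have hrel := Cfsg.Agent.Lib.Helper17.FeitCore.card_rel_nat (Subgroup.normalizer (F : Set G))
    (F.subgroupOf (Subgroup.normalizer (F : Set G))) hC' hab'
  rw [hKNidx, hKNcard] at hrel
  have h884 := Cfsg.Agent.S0884.result hZ hxb q e hΩ he hodd (by omega) F hFle hHcard hFfix
  have hEF : ∀ c ∈ (stabilizer G x ⊓ stabilizer G b : Subgroup G), ∀ u ∈ F, c * u * c⁻¹ ∈ F := by
    intro c hc u hu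
    have hcN : c ∈ stabilizer G x := (Subgroup.mem_inf.mp hc).1
    have := hFn.conj_mem ⟨u, hFle hu⟩ (Subgroup.mem_subgroupOf.mpr hu) ⟨c, hcN⟩
    exact Subgroup.mem_subgroupOf.mp this
  have hcls := card_conjClasses_ge F (stabilizer G x ⊓ stabilizer G b)
    (Subgroup.normalizer (F : Set G)) hTI hdec hFab hEF _ e he (by rw [hq]; exact hrel.symm) e h884
  haveI : Finite (IrrCharacter G) := Cfsg.Agent.Lib.Helper05.finite_irrCharacter
  letI : Fintype (IrrCharacter G) := Fintype.ofFinite _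
  rw [← Cfsg.Agent.Lib.Helper83.card_irr_eq_card_conjClasses] at hcls
  have ht3 : 3 ≤ Nat.card (Cfsg.Agent.Lib.Helper17.FeitCore.RelC (Subgroup.normalizer (F : Set G))
      (F.subgroupOf (Subgroup.normalizer (F : Set G)))) := by
    by_contra h
    push Not at h
    have : Nat.card (Cfsg.Agent.Lib.Helper17.FeitCore.RelC (Subgroup.normalizer (F : Set G))
      (F.subgroupOf (Subgroup.normalizer (F : Set G)))) * e ≤ 2 * e := Nat.mul_le_mul_right e (by omega)
    omega
  exact Cfsg.Agent.Lib.Helper17.FeitCore.feit_contra (Subgroup.normalizer (F : Set G))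
    (F.subgroupOf (Subgroup.normalizer (F : Set G))) hC' hab' hquot hindK hidx ε f hε hf hfε hker
    hind0 hY (by rw [hKNidx]; exact hcls) ht3 (by rw [hKNidx]; exact he2)
    (by rw [hKNidx, hKNcard]; omega)

end Simple

section General

universe u v

/-- restriction of the data to a nontrivial normal subgroup -/
theorem restrict_normal {G : Type u} {Ω : Type v} [Group G] [Finite G] [MulAction G Ω] [Fintype Ω]
    (hZ : Cfsg.IsZassenhausGroup G Ω) {x : Ω} (b : Ω) (F : Subgroup G)
    (hFle : F ≤ stabilizer G x) (hFn : (F.subgroupOf (stabilizer G x)).Normal)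
    (hFab : ∀ a ∈ F, ∀ b ∈ F, a * b = b * a)
    (hreg : ∀ y z : Ω, y ≠ x → z ≠ x → ∃! u : F, (u : G) • y = z)
    (M : Subgroup G) [hMn : M.Normal] (hMbot : M ≠ ⊥) :
    Cfsg.IsZassenhausGroup ↥M Ω ∧ F ≤ M ∧ F.subgroupOf M ≤ stabilizer ↥M x ∧
      ((F.subgroupOf M).subgroupOf (stabilizer ↥M x)).Normal ∧
      (∀ a ∈ F.subgroupOf M, ∀ c ∈ F.subgroupOf M, a * c = c * a) ∧
      (∀ y z : Ω, y ≠ x → z ≠ x → ∃! u : ↥(F.subgroupOf M), ((u : ↥M)) • y = z) ∧
      Nat.card ↥(stabilizer ↥M x ⊓ stabilizer ↥M b : Subgroup ↥M) ∣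
        Nat.card ↥(stabilizer G x ⊓ stabilizer G b : Subgroup G) := by
  have hpre := zpre_of_isZassenhausGroup hZ
  have hzreg := zreg_of_isZassenhausGroup hZ
  have hZM : Cfsg.IsZassenhausGroup ↥M Ω := Cfsg.Agent.S0339.result hZ M hMbot
  have hFx : ∀ u ∈ F, u • x = x := fun u hu => mem_stabilizer_iff.mp (hFle hu)
  have hFfix : ∀ u ∈ F, u ≠ 1 → ∀ c : Ω, u • c = c → c = x := by
    intro u hu hu1 c hc
    by_contra hcx
    obtain ⟨w, -, hw⟩ := hreg c c hcx hcx
    have h1 := hw ⟨u, hu⟩ hc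
    have h2 := hw 1 (by show ((1 : F) : G) • c = c; rw [Subgroup.coe_one, one_smul])
    apply hu1
    have := h1.trans h2.symm
    exact congrArg Subtype.val this
  have hFM : F ≤ M := by
    intro u hu
    by_cases hu1 : u = 1
    · rw [hu1]; exact M.one_mem
    · exact hpre.fpf_mem_normal hzreg M hMbot (hFx u hu)
        (fun d hd h => hd (hFfix u hu hu1 d h))
  have hsmul : ∀ (m : ↥M) (c : Ω), m • c = (m : G) • c := fun m c => rfl
  have hF'le : F.subgroupOf M ≤ stabilizer ↥M x := by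
    intro u hu
    rw [mem_stabilizer_iff, hsmul]
    exact hFx _ (Subgroup.mem_subgroupOf.mp hu)
  have hF'n : ((F.subgroupOf M).subgroupOf (stabilizer ↥M x)).Normal := by
    constructor
    intro k hk g
    rw [Subgroup.mem_subgroupOf, Subgroup.mem_subgroupOf] at hk ⊢
    have hgx : ((g : ↥M) : G) ∈ stabilizer G x := by
      rw [mem_stabilizer_iff, ← hsmul]
      exact mem_stabilizer_iff.mp g.2
    have hkx : ((k : ↥M) : G) ∈ stabilizer G x := hFle hk
    have := hFn.conj_mem ⟨((k : ↥M) : G), hkx⟩ (Subgroup.mem_subgroupOf.mpr hk)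
      ⟨((g : ↥M) : G), hgx⟩
    exact Subgroup.mem_subgroupOf.mp this
  have hF'ab : ∀ a ∈ F.subgroupOf M, ∀ c ∈ F.subgroupOf M, a * c = c * a := by
    intro a ha c hc
    exact Subtype.ext (hFab _ (Subgroup.mem_subgroupOf.mp ha) _ (Subgroup.mem_subgroupOf.mp hc))
  have hreg' : ∀ y z : Ω, y ≠ x → z ≠ x → ∃! u : ↥(F.subgroupOf M), ((u : ↥M)) • y = z := by
    intro y z hy hz
    obtain ⟨u, hu, huniq⟩ := hreg y z hy hz
    refine ⟨⟨⟨(u : G), hFM u.2⟩, Subgroup.mem_subgroupOf.mpr u.2⟩, hu, ?_⟩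
    intro v hv
    have hv' : (((v : ↥M) : G)) • y = z := hv
    have := huniq ⟨((v : ↥M) : G), Subgroup.mem_subgroupOf.mp v.2⟩ hv'
    apply Subtype.ext
    apply Subtype.ext
    have h3 := congrArg Subtype.val this
    exact h3
  have hmem : ∀ m : ↥(stabilizer ↥M x ⊓ stabilizer ↥M b : Subgroup ↥M),
      (((m : ↥M)) : G) ∈ (stabilizer G x ⊓ stabilizer G b : Subgroup G) := by
    intro m
    obtain ⟨h1, h2⟩ := Subgroup.mem_inf.mp m.2
    rw [Subgroup.mem_inf, mem_stabilizer_iff, mem_stabilizer_iff, ← hsmul, ← hsmul]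
    exact ⟨mem_stabilizer_iff.mp h1, mem_stabilizer_iff.mp h2⟩
  let φ : ↥(stabilizer ↥M x ⊓ stabilizer ↥M b : Subgroup ↥M) →*
      ↥(stabilizer G x ⊓ stabilizer G b : Subgroup G) :=
    { toFun := fun m => ⟨((m : ↥M) : G), hmem m⟩
      map_one' := rfl
      map_mul' := fun _ _ => rfl }
  have hφ : Function.Injective φ := by
    intro m m' h
    have h3 := congrArg Subtype.val h
    have h4 : (((m : ↥M)) : G) = (((m' : ↥M)) : G) := h3
    exact Subtype.ext (Subtype.ext h4)
  exact ⟨hZM, hFM, hF'le, hF'n, hF'ab, hreg', Subgroup.card_dvd_of_injective φ hφ⟩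

/-- the induction for Feit's bound -/
theorem feit_abelian_aux {Ω : Type v} [Fintype Ω] {x b : Ω} (hxb : x ≠ b) (n : ℕ) :
    ∀ (G : Type u) [Group G] [Finite G] [MulAction G Ω], Nat.card G = n →
      Cfsg.IsZassenhausGroup G Ω → ∀ (F : Subgroup G), F ≤ stabilizer G x →
      (F.subgroupOf (stabilizer G x)).Normal → (∀ a ∈ F, ∀ b ∈ F, a * b = b * a) →
      (∀ y z : Ω, y ≠ x → z ≠ x → ∃! u : F, (u : G) • y = z) →
      Odd (Nat.card ↥(stabilizer G x ⊓ stabilizer G b : Subgroup G)) →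
      Fintype.card Ω - 2 ≤ 2 * Nat.card ↥(stabilizer G x ⊓ stabilizer G b : Subgroup G) := by
  induction n using Nat.strong_induction_on with
  | _ n ih =>
    intro G _ _ _ hn hZ F hFle hFn hFab hreg hodd
    by_cases hs : IsSimpleGroup G
    · exact feit_abelian_simple hZ hxb F hFle hFn hFab hreg hodd
    have hpre := zpre_of_isZassenhausGroup hZ
    have hnt : Nontrivial G := by
      obtain ⟨g, hg1, -⟩ := hpre.two
      exact ⟨⟨g, 1, hg1⟩⟩
    obtain ⟨M, hMn, hMbot, hMtop⟩ : ∃ M : Subgroup G, M.Normal ∧ M ≠ ⊥ ∧ M ≠ ⊤ := by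
      by_contra hcon
      push Not at hcon
      apply hs
      refine ⟨fun H hH => ?_⟩
      by_cases hb : H = ⊥
      · exact Or.inl hb
      · exact Or.inr (hcon H hH hb)
    haveI := hMn
    obtain ⟨hZM, -, hF'le, hF'n, hF'ab, hreg', hdvd⟩ :=
      restrict_normal hZ b F hFle hFn hFab hreg M hMbot
    have hlt : Nat.card ↥M < n := by
      rw [← hn]
      by_contra hge
      push Not at hge
      exact hMtop (Subgroup.eq_top_of_le_card M hge)
    have hodd' : Odd (Nat.card ↥(stabilizer ↥M x ⊓ stabilizer ↥M b : Subgroup ↥M)) :=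
      Odd.of_dvd_nat hodd hdvd
    have hle : Nat.card ↥(stabilizer ↥M x ⊓ stabilizer ↥M b : Subgroup ↥M) ≤
        Nat.card ↥(stabilizer G x ⊓ stabilizer G b : Subgroup G) :=
      Nat.le_of_dvd Nat.card_pos hdvd
    have := ih (Nat.card ↥M) hlt ↥M rfl hZM (F.subgroupOf M) hF'le hF'n hF'ab hreg' hodd'
    omega

/-- **Feit's bound** `q - 1 ≤ 2 e` for Zassenhaus groups with abelian kernel and two-point
stabilizers of odd order. -/
theorem feit_abelian {G : Type u} {Ω : Type v} [Group G] [Finite G] [MulAction G Ω] [Fintype Ω]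
    (hZ : Cfsg.IsZassenhausGroup G Ω) {x b : Ω} (hxb : x ≠ b) (F : Subgroup G)
    (hFle : F ≤ stabilizer G x) (hFn : (F.subgroupOf (stabilizer G x)).Normal)
    (hFab : ∀ a ∈ F, ∀ b ∈ F, a * b = b * a)
    (hreg : ∀ y z : Ω, y ≠ x → z ≠ x → ∃! u : F, (u : G) • y = z)
    (hodd : Odd (Nat.card ↥(stabilizer G x ⊓ stabilizer G b : Subgroup G))) :
    Fintype.card Ω - 2 ≤ 2 * Nat.card ↥(stabilizer G x ⊓ stabilizer G b : Subgroup G) :=
  feit_abelian_aux hxb (Nat.card G) G rfl hZ F hFle hFn hFab hreg hodd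

/-- a Zassenhaus group with abelian kernel and odd two-point stabilizers of order `(q - 1) / 2`
is simple -/
theorem isSimpleGroup_of_eq {G : Type u} {Ω : Type v} [Group G] [Finite G] [MulAction G Ω]
    [Fintype Ω] (hZ : Cfsg.IsZassenhausGroup G Ω) {x b : Ω} (hxb : x ≠ b) (F : Subgroup G)
    (hFle : F ≤ stabilizer G x) (hFn : (F.subgroupOf (stabilizer G x)).Normal)
    (hFab : ∀ a ∈ F, ∀ b ∈ F, a * b = b * a)
    (hreg : ∀ y z : Ω, y ≠ x → z ≠ x → ∃! u : F, (u : G) • y = z)
    (hodd : Odd (Nat.card ↥(stabilizer G x ⊓ stabilizer G b : Subgroup G)))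
    (heq : Fintype.card Ω - 2 = 2 * Nat.card ↥(stabilizer G x ⊓ stabilizer G b : Subgroup G)) :
    IsSimpleGroup G := by
  have hpre := zpre_of_isZassenhausGroup hZ
  have hnt : Nontrivial G := by
    obtain ⟨g, hg1, -⟩ := hpre.two
    exact ⟨⟨g, 1, hg1⟩⟩
  refine ⟨fun M hMn => ?_⟩
  by_cases hMbot : M = ⊥
  · exact Or.inl hMbot
  right
  haveI := hMn
  obtain ⟨hZM, -, hF'le, hF'n, hF'ab, hreg', hdvd⟩ :=
    restrict_normal hZ b F hFle hFn hFab hreg M hMbot
  have hodd' : Odd (Nat.card ↥(stabilizer ↥M x ⊓ stabilizer ↥M b : Subgroup ↥M)) :=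
    Odd.of_dvd_nat hodd hdvd
  have hle : Nat.card ↥(stabilizer ↥M x ⊓ stabilizer ↥M b : Subgroup ↥M) ≤
      Nat.card ↥(stabilizer G x ⊓ stabilizer G b : Subgroup G) :=
    Nat.le_of_dvd Nat.card_pos hdvd
  have hfeit := feit_abelian_aux hxb (Nat.card ↥M) ↥M rfl hZM (F.subgroupOf M) hF'le hF'n hF'ab
    hreg' hodd'
  have hee : Nat.card ↥(stabilizer ↥M x ⊓ stabilizer ↥M b : Subgroup ↥M) =
      Nat.card ↥(stabilizer G x ⊓ stabilizer G b : Subgroup G) := by omega
  have hpreM := zpre_of_isZassenhausGroup hZM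
  obtain ⟨hc1, hc2⟩ := hpre.card_of_regular_kernel hxb F hFle hreg
  obtain ⟨hc1', hc2'⟩ := hpreM.card_of_regular_kernel hxb (F.subgroupOf M) hF'le hreg'
  apply Subgroup.eq_top_of_le_card
  rw [hc2, hc2', hc1, hc1', hee]

/-- in a simple Zassenhaus group with odd two-point stabilizers, every element swapping two points
inverts their stabilizer -/
theorem swap_inverts {G : Type u} {Ω : Type v} [Group G] [Finite G] [MulAction G Ω] [Fintype Ω]
    (hZ : Cfsg.IsZassenhausGroup G Ω) [IsSimpleGroup G] {x b : Ω} (hxb : x ≠ b)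
    (hodd : Odd (Nat.card ↥(stabilizer G x ⊓ stabilizer G b : Subgroup G))) :
    ∀ s : G, s • x = b → s • b = x →
      ∀ h ∈ (stabilizer G x ⊓ stabilizer G b : Subgroup G), s * h * s⁻¹ = h⁻¹ := by
  classical
  have hpre := zpre_of_isZassenhausGroup hZ
  have hGcard := Cfsg.Agent.Lib.Helper17.ZassCount.card_eq hZ hxb
  have h2G : 2 ∣ Nat.card G := by
    rw [hGcard]
    exact Dvd.dvd.mul_right (even_iff_two_dvd.mp (Nat.even_mul_pred_self _)) _
  have hnil : ∀ r : ℕ, r.Prime →
      r ∣ Nat.card ↥(stabilizer G x ⊓ stabilizer G b : Subgroup G) →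
      ¬ ∃ M : Subgroup G, M.Normal ∧ M.index = r ^ (Nat.card G).factorization r := by
    rintro r hr hre ⟨M, hMn, hMidx⟩
    have hrG : r ∣ Nat.card G := dvd_trans hre (Subgroup.card_subgroup_dvd_card _)
    rcases hMn.eq_bot_or_eq_top with rfl | rfl
    · rw [Subgroup.index_bot] at hMidx
      rw [hMidx] at h2G
      have h3 : 2 ∣ r := Nat.Prime.dvd_of_dvd_pow Nat.prime_two h2G
      have h4 : r = 2 := ((Nat.prime_dvd_prime_iff_eq Nat.prime_two hr).mp h3).symm
      rw [h4] at hre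
      exact (Nat.not_even_iff_odd.2 hodd) (even_iff_two_dvd.2 hre)
    · rw [Subgroup.index_top] at hMidx
      have hk : (Nat.card G).factorization r = 0 := by
        by_contra hk
        have : 1 < r ^ (Nat.card G).factorization r := Nat.one_lt_pow hk hr.one_lt
        omega
      rcases (Nat.factorization_eq_zero_iff _ _).mp hk with h1 | h1 | h1
      · exact h1 hr
      · exact h1 hrG
      · exact (Nat.card_pos (α := G)).ne' h1
  obtain ⟨-, -, h3⟩ := hpre.twoStab_main hxb hodd hnil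
  exact h3

end General

end Cfsg.Agent.Lib.Helper17.FeitZass
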