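import Mathlib

/-!
# S3117 (automorphism group of a 2-group with exactly three involutions is solvable): shared definitions

`AnisoQuad q β`: `q : W → U` is an anisotropic quadratic map between additive groups of exponent two
with polarisation `β`.
-/

set_option autoImplicit false

namespace Cfsg.Agent.Lib.Helper17.Aut3

/-- `q : W → U` is a quadratic map between additive groups of exponent two, with biadditive
polarisation `β`, and `q w = 0` only for `w = 0`. -/
structure AnisoQuad {W U : Type*} [AddCommGroup W] [AddCommGroup U] (q : W → U) (β : W → W → U) :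
    Prop where
  hW : ∀ w : W, w + w = 0
  hU : ∀ u : U, u + u = 0
  hq : ∀ v v', q (v + v') = q v + q v' + β v v'
  hβl : ∀ v v' v'', β (v + v') v'' = β v v'' + β v' v''
  hβr : ∀ v v' v'', β v (v' + v'') = β v v' + β v v''
  aniso : ∀ v, q v = 0 → v = 0

namespace AnisoQuad

variable {W U : Type*} [AddCommGroup W] [AddCommGroup U] {q : W → U} {β : W → W → U}

theorem β_zero_left (h : AnisoQuad q β) (v : W) : β 0 v = 0 := by
  have := h.hβl 0 0 v
  rw [add_zero] at this
  exact left_eq_add.mp this

theorem β_zero_right (h : AnisoQuad q β) (v : W) : β v 0 = 0 := by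
  have := h.hβr v 0 0
  rw [add_zero] at this
  exact left_eq_add.mp this

theorem q_zero (h : AnisoQuad q β) : q 0 = 0 := by
  have := h.hq 0 0
  rw [add_zero, h.β_zero_left, add_zero] at this
  exact left_eq_add.mp this

theorem q_ne_zero (h : AnisoQuad q β) {v : W} (hv : v ≠ 0) : q v ≠ 0 := fun h0 => hv (h.aniso v h0)

/-- `β v v' = q (v + v') + q v + q v'` (exponent two). -/
theorem β_eq (h : AnisoQuad q β) (v v' : W) : β v v' = q (v + v') + q v + q v' := by
  rw [h.hq v v']
  have h1 := h.hU (q v)
  have h2 := h.hU (q v')
  calc β v v' = β v v' + (q v + q v) + (q v' + q v') := by rw [h1, h2, add_zero, add_zero]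
    _ = q v + q v' + β v v' + q v + q v' := by abel

end AnisoQuad

end Cfsg.Agent.Lib.Helper17.Aut3
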