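import Mathlib
import Cfsg.Agent.Lib.Helper17.Aut3Defs
import Cfsg.Agent.Lib.Helper19.HigB
import Cfsg.Agent.Lib.Helper04.BurnsidePQ
import Cfsg.Agent.Lib.Helper70.Aut3A1
import Cfsg.Agent.Lib.Helper30.Aut3A2
import Cfsg.Agent.Lib.Helper67.Aut3A3

/-!
# S3117, part C1: a group acting faithfully by isometries of an anisotropic quadratic map
`q : W → U` with `|U| ≤ 4` is solvable.
-/

set_option autoImplicit false

namespace Cfsg.Agent.Lib.Helper17.Aut3


/-- `n` has only the prime divisors `p` and `q`: then `n = p ^ a * q ^ b`. -/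
theorem exists_pow_mul_pow_of_primes {n p q : ℕ} (hn : n ≠ 0) (hp : p.Prime)
    (h : ∀ r : ℕ, r.Prime → r ∣ n → r = p ∨ r = q) : ∃ a b : ℕ, n = p ^ a * q ^ b := by
  have hm0 : ordCompl[p] n ≠ 0 := (Nat.ordCompl_pos p hn).ne'
  have hm : ordCompl[p] n = q ^ (ordCompl[p] n).primeFactorsList.length := by
    refine Nat.eq_prime_pow_of_unique_prime_dvd hm0 ?_
    intro d hd hdm
    rcases h d hd (hdm.trans (Nat.ordCompl_dvd n p)) with rfl | rfl
    · exact absurd hdm (Nat.not_dvd_ordCompl hp hn)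
    · rfl
  refine ⟨n.factorization p, (ordCompl[p] n).primeFactorsList.length, ?_⟩
  conv_lhs => rw [← Nat.ordProj_mul_ordCompl_eq_self n p]
  rw [← hm]

section Iso

variable {W U : Type*} [AddCommGroup W]
  {q : W → U} {Γ : Type*} [Group Γ]

/-- A faithful action of `Γ` on `W` by additive maps preserving `q`. -/
structure IsoAct (q : W → U) (act : Γ → W → W) : Prop where
  one : ∀ w, act 1 w = w
  mul : ∀ g g' w, act (g * g') w = act g (act g' w)
  add : ∀ g w w', act g (w + w') = act g w + act g w'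
  pres : ∀ g w, q (act g w) = q w
  faith : ∀ g, (∀ w, act g w = w) → g = 1

namespace IsoAct

variable {act : Γ → W → W}

/-- The additive automorphism attached to a group element. -/
def toAddEquiv (hA : IsoAct q act) (g : Γ) : W ≃+ W where
  toFun := act g
  invFun := act g⁻¹
  left_inv w := by rw [← hA.mul, inv_mul_cancel, hA.one]
  right_inv w := by rw [← hA.mul, mul_inv_cancel, hA.one]
  map_add' := hA.add g

@[simp] theorem toAddEquiv_apply (hA : IsoAct q act) (g : Γ) (w : W) :
    hA.toAddEquiv g w = act g w := rfl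

theorem iterate_eq (hA : IsoAct q act) (g : Γ) (n : ℕ) (w : W) :
    (⇑(hA.toAddEquiv g))^[n] w = act (g ^ n) w := by
  induction n with
  | zero => simp [hA.one]
  | succ n ih =>
    rw [Function.iterate_succ_apply', ih, pow_succ', hA.mul]
    rfl

theorem act_injective (hA : IsoAct q act) : Function.Injective act := by
  intro g g' hgg
  have : g'⁻¹ * g = 1 := by
    apply hA.faith
    intro w
    rw [hA.mul, hgg, ← hA.mul, inv_mul_cancel, hA.one]
  rw [inv_mul_eq_one] at this
  exact this.symm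

end IsoAct

end Iso

/-- A finite additive group of exponent two has order a power of two. -/
theorem exists_card_eq_two_pow {V : Type*} [AddCommGroup V] [Finite V] (hV : ∀ v : V, v + v = 0) :
    ∃ d : ℕ, Nat.card V = 2 ^ d := by
  obtain ⟨m, ⟨e⟩⟩ := Cfsg.Agent.Lib.Helper19.Hig.exists_addEquiv_pi_zmod_two hV
  exact ⟨m, by rw [Nat.card_congr e.toEquiv, Nat.card_eq_fintype_card, Fintype.card_fun, ZMod.card,
    Fintype.card_fin]⟩

theorem prime_arith {r c d : ℕ} (hr : r.Prime) (hcd : c < d) (hd : d ≤ 4)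
    (hmod : 2 ^ d ≡ 2 ^ c [MOD r]) : r = 2 ∨ r = 3 ∨ r = 7 ∨ (r = 5 ∧ d = 4) := by
  have hle : 2 ^ c ≤ 2 ^ d := Nat.pow_le_pow_right (by norm_num) hcd.le
  have hdvd : r ∣ 2 ^ d - 2 ^ c := (Nat.modEq_iff_dvd' hle).mp hmod.symm
  have hr2 := hr.two_le
  have hpos : 0 < 2 ^ d - 2 ^ c := Nat.sub_pos_of_lt (Nat.pow_lt_pow_right (by norm_num) hcd)
  have hle' : r ≤ 2 ^ d - 2 ^ c := Nat.le_of_dvd hpos hdvd
  clear hmod hle hpos
  interval_cases d <;> interval_cases c <;>
    simp only [Nat.reducePow, Nat.reduceSub] at hdvd hle' <;>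
    interval_cases r <;> first | omega | (exfalso; norm_num at hr)

section Main

variable {W U : Type*} [AddCommGroup W] [AddCommGroup U] [Finite W] [Finite U]
  {q : W → U} {β : W → W → U} {Γ : Type*} [Group Γ] {act : Γ → W → W}

namespace IsoAct

/-- The fixed points of a group element form a subgroup. -/
def fixSub (hA : IsoAct q act) (g : Γ) : AddSubgroup W where
  carrier := {w | act g w = w}
  zero_mem' := by
    show act g 0 = 0
    exact map_zero (hA.toAddEquiv g)
  add_mem' := by
    intro a b ha hb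
    have ha' : act g a = a := ha
    have hb' : act g b = b := hb
    show act g (a + b) = a + b
    rw [hA.add, ha', hb']
  neg_mem' := by
    intro a ha
    have ha' : act g a = a := ha
    show act g (-a) = -a
    have := map_neg (hA.toAddEquiv g) a
    simp only [toAddEquiv_apply] at this
    rw [this, ha']

omit [AddCommGroup U] [Finite W] [Finite U] in
theorem mem_fixSub (hA : IsoAct q act) (g : Γ) (w : W) : w ∈ hA.fixSub g ↔ act g w = w := Iff.rfl

omit [Finite U] [AddCommGroup U] in
theorem card_modEq_card_fixSub (hA : IsoAct q act) (g : Γ) (r : ℕ) [Fact r.Prime]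
    (hg : orderOf g = r) : Nat.card W ≡ Nat.card (hA.fixSub g) [MOD r] := by
  let _ : MulAction Γ W := { smul := act, one_smul := hA.one, mul_smul := hA.mul }
  have hP : IsPGroup r (Subgroup.zpowers g) :=
    IsPGroup.of_card (n := 1) (by rw [Nat.card_zpowers, hg, pow_one])
  have h1 := hP.card_modEq_card_fixedPoints W
  have hset : (MulAction.fixedPoints (Subgroup.zpowers g) W) = (hA.fixSub g : Set W) := by
    ext w
    constructor
    · intro hw
      exact hw ⟨g, Subgroup.mem_zpowers g⟩
    · intro hw x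
      have hle : Subgroup.zpowers g ≤ MulAction.stabilizer Γ w := by
        rw [Subgroup.zpowers_le]
        exact hw
      exact hle x.2
  rw [Nat.card_congr (Equiv.setCongr hset)] at h1
  exact h1

end IsoAct

theorem prime_cases (h : AnisoQuad q β) (hc : Nat.card W ≤ 16) (hA : IsoAct q act) (g : Γ)
    (r : ℕ) (hr : r.Prime) (hg : orderOf g = r) :
    r = 2 ∨ r = 3 ∨ (r = 5 ∧ Nat.card W = 16) := by
  have := Fact.mk hr
  have hne : ∃ w₀, act g w₀ ≠ w₀ := by
    by_contra hcon
    push Not at hcon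
    have := hA.faith g hcon
    rw [this, orderOf_one] at hg
    exact hr.one_lt.ne hg
  obtain ⟨w₀, hw₀⟩ := hne
  obtain ⟨d, hd⟩ := exists_card_eq_two_pow h.hW
  obtain ⟨c, hc'⟩ := exists_card_eq_two_pow (V := hA.fixSub g) (fun v => Subtype.ext (h.hW v))
  have hmod := hA.card_modEq_card_fixSub g r hg
  rw [hd, hc'] at hmod
  have hlt : Nat.card (hA.fixSub g) < Nat.card W := Finite.card_subtype_lt (x := w₀) hw₀
  rw [hd, hc'] at hlt
  have hcd : c < d := (Nat.pow_lt_pow_iff_right (by norm_num)).mp hlt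
  have hd4 : d ≤ 4 := by
    rw [hd] at hc
    have : 2 ^ d ≤ 2 ^ 4 := by simpa using hc
    exact (Nat.pow_le_pow_iff_right (by norm_num)).mp this
  rcases prime_arith hr hcd hd4 hmod with h2 | h3 | h7 | ⟨h5, hd4'⟩
  · exact Or.inl h2
  · exact Or.inr (Or.inl h3)
  · exfalso
    apply hw₀
    exact Cfsg.Agent.Lib.Helper70.Aut3.no_order_seven h hc (hA.toAddEquiv g) (hA.pres g)
      (fun w => by rw [hA.iterate_eq, ← h7, ← hg, pow_orderOf_eq_one, hA.one]) w₀
  · exact Or.inr (Or.inr ⟨h5, by rw [hd, hd4']; norm_num⟩)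

/-- **S3117, part C1.**  A group acting faithfully by isometries of an anisotropic quadratic map into a
group of order at most four is solvable. -/
theorem solvable_of_isoAct (h : AnisoQuad q β) (hU : Nat.card U ≤ 4) (hA : IsoAct q act) :
    Group.IsSolvable Γ := by
  have hWU : Nat.card W ≤ Nat.card U ^ 2 :=
    Cfsg.Agent.Lib.Helper19.Hig.card_le_sq_of_anisotropic h.hW h.hU q β h.hq h.hβl h.hβr h.aniso
  have hc : Nat.card W ≤ 16 := by nlinarith
  have : Finite Γ := Finite.of_injective act hA.act_injective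
  have hn : Nat.card Γ ≠ 0 := Nat.card_pos.ne'
  have hprimes : ∀ r : ℕ, r.Prime → r ∣ Nat.card Γ →
      r = 2 ∨ r = 3 ∨ (r = 5 ∧ Nat.card W = 16) := by
    intro r hr hdvd
    have := Fact.mk hr
    obtain ⟨g, hg⟩ := exists_prime_orderOf_dvd_card' r hdvd
    exact prime_cases h hc hA g r hr hg
  have hnot : ¬ (3 ∣ Nat.card Γ ∧ 5 ∣ Nat.card Γ) := by
    rintro ⟨h3, h5⟩
    have := Fact.mk Nat.prime_three
    have := Fact.mk Nat.prime_five
    obtain ⟨g₃, hg₃⟩ := exists_prime_orderOf_dvd_card' 3 h3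
    obtain ⟨g₅, hg₅⟩ := exists_prime_orderOf_dvd_card' 5 h5
    have hW16 : Nat.card W = 16 := by
      rcases hprimes 5 Nat.prime_five h5 with h | h | ⟨_, h⟩
      · omega
      · omega
      · exact h
    have hU4 : Nat.card U = 4 := by
      rw [hW16] at hWU
      have : 4 ≤ Nat.card U := by nlinarith
      omega
    have hodd := fun u hu => Cfsg.Agent.Lib.Helper30.Aut3.level_card_odd h (by omega) hU4 u hu
    have h3it : ∀ w, (⇑(hA.toAddEquiv g₃))^[3] w = w := by
      intro w; rw [hA.iterate_eq, ← hg₃, pow_orderOf_eq_one, hA.one]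
    have h5it : ∀ w, (⇑(hA.toAddEquiv g₅))^[5] w = w := by
      intro w; rw [hA.iterate_eq, ← hg₅, pow_orderOf_eq_one, hA.one]
    rcases Cfsg.Agent.Lib.Helper67.Aut3.no_three_and_five h hW16 hU4 hodd (hA.toAddEquiv g₃) (hA.toAddEquiv g₅) h3it h5it
      (hA.pres g₃) (hA.pres g₅) with h | h
    · have := hA.faith g₃ h
      rw [this, orderOf_one] at hg₃
      omega
    · have := hA.faith g₅ h
      rw [this, orderOf_one] at hg₅
      omega
  by_cases h5 : 5 ∣ Nat.card Γ
  · have h3 : ¬ 3 ∣ Nat.card Γ := fun h3 => hnot ⟨h3, h5⟩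
    obtain ⟨a, b, hab⟩ := exists_pow_mul_pow_of_primes (p := 2) (q := 5) hn Nat.prime_two (by
      intro r hr hdvd
      rcases hprimes r hr hdvd with h | h | ⟨h, _⟩
      · exact Or.inl h
      · exact absurd (h ▸ hdvd) h3
      · exact Or.inr h)
    exact Cfsg.Agent.Lib.Helper04.burnside_paqb 2 5 a b Nat.prime_two Nat.prime_five hab
  · obtain ⟨a, b, hab⟩ := exists_pow_mul_pow_of_primes (p := 2) (q := 3) hn Nat.prime_two (by
      intro r hr hdvd
      rcases hprimes r hr hdvd with h | h | ⟨h, _⟩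
      · exact Or.inl h
      · exact Or.inr h
      · exact absurd (h ▸ hdvd) h5)
    exact Cfsg.Agent.Lib.Helper04.burnside_paqb 2 3 a b Nat.prime_two Nat.prime_three hab

end Main

end Cfsg.Agent.Lib.Helper17.Aut3
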