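import Mathlib
import Cfsg.Agent.Lib.Helper17.Aut3Iso
import Cfsg.Agent.Lib.Helper26.Aut3B4

/-!
# S3117, part C2: class-two 2-groups with central involutions and at most four square roots of `1`
have a solvable automorphism group.
-/

set_option autoImplicit false

namespace Cfsg.Agent.Lib.Helper17.Aut3


section Aut

variable {K : Type*} [Group K]

/-- Restriction of automorphisms to an invariant subgroup. -/
def resAut (D : Subgroup K) (hD : ∀ α : MulAut K, ∀ d ∈ D, α d ∈ D) : MulAut K →* MulAut D where
  toFun α :=
    { toFun := fun d => ⟨α d, hD α d d.2⟩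
      invFun := fun d => ⟨α⁻¹ d, hD α⁻¹ d d.2⟩
      left_inv := fun d => Subtype.ext (by simp)
      right_inv := fun d => Subtype.ext (by simp)
      map_mul' := fun a b => Subtype.ext (by simp) }
  map_one' := by ext d; rfl
  map_mul' := fun α β => by ext d; rfl

@[simp] theorem resAut_apply (D : Subgroup K) (hD : ∀ α : MulAut K, ∀ d ∈ D, α d ∈ D)
    (α : MulAut K) (d : D) : ((resAut D hD α) d : K) = α d := rfl

theorem map_eq_of_invariant (N : Subgroup K) (hN : ∀ α : MulAut K, ∀ d ∈ N, α d ∈ N)
    (α : MulAut K) : N.map (α : K →* K) = N := by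
  apply le_antisymm
  · rintro x ⟨d, hd, rfl⟩
    exact hN α d hd
  · intro x hx
    exact ⟨α⁻¹ x, hN α⁻¹ x hx, by simp⟩

/-- The induced action of automorphisms on the quotient by an invariant normal subgroup. -/
def quotAut (N : Subgroup K) [N.Normal] (hN : ∀ α : MulAut K, ∀ d ∈ N, α d ∈ N) :
    MulAut K →* MulAut (K ⧸ N) where
  toFun α := QuotientGroup.congr N N α (map_eq_of_invariant N hN α)
  map_one' := by
    ext x
    induction x using QuotientGroup.induction_on with
    | H x => rfl
  map_mul' := fun α β => by
    ext x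
    induction x using QuotientGroup.induction_on with
    | H x => rfl

@[simp] theorem quotAut_mk (N : Subgroup K) [N.Normal] (hN : ∀ α : MulAut K, ∀ d ∈ N, α d ∈ N)
    (α : MulAut K) (x : K) : quotAut N hN α (QuotientGroup.mk x) = QuotientGroup.mk (α x) := rfl

/-- An automorphism that is trivial on `N` and on `K ⧸ N` (with `N` pointwise fixed) has order
dividing `|K|`. -/
theorem pow_card_eq_one_of_stab [Finite K] (N : Subgroup K) (α : MulAut K)
    (h1 : ∀ d ∈ N, α d = d) (h2 : ∀ x, x⁻¹ * α x ∈ N) : α ^ Nat.card K = 1 := by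
  have key : ∀ (n : ℕ) (x : K), (α ^ n) x = x * (x⁻¹ * α x) ^ n := by
    intro n
    induction n with
    | zero => intro x; simp
    | succ n ih =>
      intro x
      rw [pow_succ', MulAut.mul_apply, ih, map_mul, map_pow, h1 _ (h2 x), pow_succ', ← mul_assoc,
        mul_inv_cancel_left]
  ext x
  rw [key, pow_card_eq_one', mul_one]
  rfl

end Aut


section Quad

variable {K : Type*} [Group K]

open Subgroup
open scoped IsMulCommutative

/-- `K ⧸ Z(K)` is commutative when commutators are central. -/
@[reducible] def quotCenterCommGroup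
    [hc : Fact (∀ x y : K, x * y * x⁻¹ * y⁻¹ ∈ center K)] : CommGroup (K ⧸ center K) :=
  { (inferInstance : Group (K ⧸ center K)) with
    mul_comm := by
      intro a b
      induction a using QuotientGroup.induction_on with
      | H a =>
        induction b using QuotientGroup.induction_on with
        | H b =>
          rw [← QuotientGroup.mk_mul, ← QuotientGroup.mk_mul, QuotientGroup.eq]
          have := hc.out b⁻¹ a⁻¹
          simpa [mul_assoc] using this }

attribute [local instance] quotCenterCommGroup

variable (K) in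
/-- Squares of central elements. -/
def sqZ : Subgroup (center K) := (powMonoidHom (α := center K) 2).range

theorem mem_sqZ (z : center K) : z ∈ sqZ K ↔ ∃ y : center K, y ^ 2 = z := by
  unfold sqZ
  rw [MonoidHom.mem_range]
  simp only [powMonoidHom_apply]

variable (hsq : ∀ x : K, x * x ∈ center K)

/-- The squaring map on representatives. -/
def qRep (x : K) : center K ⧸ sqZ K := QuotientGroup.mk ⟨x * x, hsq x⟩

theorem qRep_mul_central (x z : K) (hz : z ∈ center K) : qRep hsq (x * z) = qRep hsq x := by
  have hzc := Subgroup.mem_center_iff.mp hz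
  have h1 : (⟨x * z * (x * z), hsq (x * z)⟩ : center K) = ⟨x * x, hsq x⟩ * (⟨z, hz⟩ : center K) ^ 2 := by
    apply Subtype.ext
    show x * z * (x * z) = x * x * z ^ 2
    rw [pow_two]
    calc x * z * (x * z) = x * (z * x) * z := by group
      _ = x * (x * z) * z := by rw [← hzc x]
      _ = x * x * (z * z) := by group
  unfold qRep
  rw [h1]
  exact QuotientGroup.mk_mul_of_mem _ ((mem_sqZ _).mpr ⟨_, rfl⟩)

/-- The quadratic map `K ⧸ Z(K) → Z(K) ⧸ Z(K)^2` (multiplicative version). -/
def qMul : K ⧸ center K → center K ⧸ sqZ K := fun w =>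
  Quotient.liftOn' w (qRep hsq) (by
    intro a b hab
    have hab' : a⁻¹ * b ∈ center K := QuotientGroup.leftRel_apply.mp hab
    have : b = a * (a⁻¹ * b) := by group
    rw [this]
    exact (qRep_mul_central hsq a _ hab').symm)

theorem qMul_mk (x : K) : qMul hsq (QuotientGroup.mk x) = qRep hsq x := rfl


include hsq in
theorem mW (w : K ⧸ center K) : w * w = 1 := by
  induction w using QuotientGroup.induction_on with
  | H x =>
    rw [← QuotientGroup.mk_mul, QuotientGroup.eq_one_iff]
    exact hsq x

theorem mU (u : center K ⧸ sqZ K) : u * u = 1 := by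
  induction u using QuotientGroup.induction_on with
  | H z =>
    rw [← QuotientGroup.mk_mul, QuotientGroup.eq_one_iff, mem_sqZ]
    exact ⟨z, pow_two z⟩

section Comm

variable [hc : Fact (∀ x y : K, x * y * x⁻¹ * y⁻¹ ∈ center K)]

/-- The commutator `y⁻¹ x⁻¹ y x` as an element of the centre. -/
def cRep (x y : K) : center K :=
  ⟨y⁻¹ * x⁻¹ * y * x, by have := hc.out y⁻¹ x⁻¹; simpa using this⟩

theorem qRep_mul (x y : K) :
    qRep hsq (x * y) = qRep hsq x * qRep hsq y * QuotientGroup.mk (cRep x y) := by
  unfold qRep
  rw [← QuotientGroup.mk_mul, ← QuotientGroup.mk_mul]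
  congr 1
  apply Subtype.ext
  show x * y * (x * y) = x * x * (y * y) * (y⁻¹ * x⁻¹ * y * x)
  have hcen : y * (y⁻¹ * x⁻¹ * y * x) = (y⁻¹ * x⁻¹ * y * x) * y :=
    Subgroup.mem_center_iff.mp (cRep x y).2 y
  symm
  calc x * x * (y * y) * (y⁻¹ * x⁻¹ * y * x) = x * x * y * (y * (y⁻¹ * x⁻¹ * y * x)) := by group
    _ = x * x * y * ((y⁻¹ * x⁻¹ * y * x) * y) := by rw [hcen]
    _ = x * y * (x * y) := by group

theorem cRep_mul_right (x y y' : K) : cRep x (y * y') = cRep x y * cRep x y' := by
  apply Subtype.ext
  show (y * y')⁻¹ * x⁻¹ * (y * y') * x = (y⁻¹ * x⁻¹ * y * x) * (y'⁻¹ * x⁻¹ * y' * x)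
  have hcen : y'⁻¹ * (y⁻¹ * x⁻¹ * y * x) = (y⁻¹ * x⁻¹ * y * x) * y'⁻¹ :=
    Subgroup.mem_center_iff.mp (cRep x y).2 y'⁻¹
  calc (y * y')⁻¹ * x⁻¹ * (y * y') * x
      = y'⁻¹ * (y⁻¹ * x⁻¹ * y * x) * (x⁻¹ * y' * x) := by group
    _ = (y⁻¹ * x⁻¹ * y * x) * y'⁻¹ * (x⁻¹ * y' * x) := by rw [hcen]
    _ = (y⁻¹ * x⁻¹ * y * x) * (y'⁻¹ * x⁻¹ * y' * x) := by group

/-- The polarisation of `qMul`. -/
def bMul (v v' : K ⧸ center K) : center K ⧸ sqZ K := qMul hsq (v * v') * qMul hsq v * qMul hsq v'

theorem bMul_mk (x y : K) :
    bMul hsq (QuotientGroup.mk x) (QuotientGroup.mk y) = QuotientGroup.mk (cRep x y) := by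
  unfold bMul
  rw [← QuotientGroup.mk_mul, qMul_mk, qMul_mk, qMul_mk, qRep_mul]
  have ha := mU (qRep hsq x)
  have hb := mU (qRep hsq y)
  calc qRep hsq x * qRep hsq y * QuotientGroup.mk (cRep x y) * qRep hsq x * qRep hsq y
      = (qRep hsq x * qRep hsq x) * (qRep hsq y * qRep hsq y) * QuotientGroup.mk (cRep x y) := by
        ac_rfl
    _ = QuotientGroup.mk (cRep x y) := by rw [ha, hb, one_mul, one_mul]

omit hc in
theorem qMul_mul (v v' : K ⧸ center K) :
    qMul hsq (v * v') = qMul hsq v * qMul hsq v' * bMul hsq v v' := by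
  unfold bMul
  have ha := mU (qMul hsq v)
  have hb := mU (qMul hsq v')
  calc qMul hsq (v * v') = (qMul hsq v * qMul hsq v) * (qMul hsq v' * qMul hsq v') * qMul hsq (v * v') := by
        rw [ha, hb, one_mul, one_mul]
    _ = _ := by ac_rfl

theorem bMul_comm (v v' : K ⧸ center K) : bMul hsq v v' = bMul hsq v' v := by
  unfold bMul
  rw [mul_comm v v']
  ac_rfl

theorem bMul_mul_right (v v' v'' : K ⧸ center K) :
    bMul hsq v (v' * v'') = bMul hsq v v' * bMul hsq v v'' := by
  induction v using QuotientGroup.induction_on with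
  | H x =>
    induction v' using QuotientGroup.induction_on with
    | H y =>
      induction v'' using QuotientGroup.induction_on with
      | H y' =>
        rw [← QuotientGroup.mk_mul, bMul_mk, bMul_mk, bMul_mk, cRep_mul_right, QuotientGroup.mk_mul]

theorem bMul_mul_left (v v' v'' : K ⧸ center K) :
    bMul hsq (v * v') v'' = bMul hsq v v'' * bMul hsq v' v'' := by
  rw [bMul_comm, bMul_mul_right, bMul_comm hsq v'' v, bMul_comm hsq v'' v']

end Comm

theorem qMul_eq_one (hinv : ∀ x : K, x * x = 1 → x ∈ center K) (v : K ⧸ center K)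
    (hv : qMul hsq v = 1) : v = 1 := by
  induction v using QuotientGroup.induction_on with
  | H x =>
    rw [qMul_mk] at hv
    unfold qRep at hv
    rw [QuotientGroup.eq_one_iff, mem_sqZ] at hv
    obtain ⟨z, hz⟩ := hv
    have hz' : (z : K) * z = x * x := by
      have := congrArg Subtype.val hz
      simpa [pow_two] using this
    have hzi : x * (z : K)⁻¹ = (z : K)⁻¹ * x := Subgroup.mem_center_iff.mp (inv_mem z.2) x
    have ht : (x * (z : K)⁻¹) * (x * (z : K)⁻¹) = 1 := by
      calc x * (z : K)⁻¹ * (x * (z : K)⁻¹) = x * (z : K)⁻¹ * ((z : K)⁻¹ * x) := by rw [← hzi]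
        _ = x * ((z : K) * z)⁻¹ * x := by group
        _ = 1 := by rw [hz']; group
    have ht' := hinv _ ht
    rw [QuotientGroup.eq_one_iff]
    have : x = (x * (z : K)⁻¹) * z := by group
    rw [this]
    exact Subgroup.mul_mem _ ht' z.2


section Additive

variable [hc : Fact (∀ x y : K, x * y * x⁻¹ * y⁻¹ ∈ center K)]

/-- The quadratic map, additively. -/
def qAdd : Additive (K ⧸ center K) → Additive (center K ⧸ sqZ K) := fun w =>
  Additive.ofMul (qMul hsq (Additive.toMul w))

/-- The polarisation, additively. -/
def βAdd (v v' : Additive (K ⧸ center K)) : Additive (center K ⧸ sqZ K) :=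
  Additive.ofMul (bMul hsq (Additive.toMul v) (Additive.toMul v'))

theorem anisoQuad (hinv : ∀ x : K, x * x = 1 → x ∈ center K) :
    AnisoQuad (qAdd hsq) (βAdd hsq) where
  hW := fun w => congrArg Additive.ofMul (mW hsq (Additive.toMul w))
  hU := fun u => congrArg Additive.ofMul (mU (Additive.toMul u))
  hq := fun v v' => congrArg Additive.ofMul (qMul_mul hsq (Additive.toMul v) (Additive.toMul v'))
  hβl := fun v v' v'' => congrArg Additive.ofMul
    (bMul_mul_left hsq (Additive.toMul v) (Additive.toMul v') (Additive.toMul v''))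
  hβr := fun v v' v'' => congrArg Additive.ofMul
    (bMul_mul_right hsq (Additive.toMul v) (Additive.toMul v') (Additive.toMul v''))
  aniso := fun v hv => by
    have h1 : qMul hsq (Additive.toMul v) = 1 := congrArg Additive.toMul hv
    have h2 := qMul_eq_one hsq hinv _ h1
    exact congrArg Additive.ofMul h2

end Additive


section Card

variable [Finite K]

theorem card_sq_center_le (h4 : Nat.card {x : K // x * x = 1} ≤ 4) :
    Nat.card {z : center K // z * z = 1} ≤ 4 := by
  refine le_trans (Nat.card_le_card_of_injective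
    (fun z => (⟨z.1.1, by have := congrArg Subtype.val z.2; simpa using this⟩ :
      {x : K // x * x = 1})) ?_) h4
  intro a b hab
  have hab' := Subtype.ext_iff.mp hab
  apply Subtype.ext
  apply Subtype.ext
  exact hab'

theorem card_quot_sqZ_le (h4 : Nat.card {x : K // x * x = 1} ≤ 4) :
    Nat.card (center K ⧸ sqZ K) ≤ 4 := by
  have h1 : Nat.card (powMonoidHom (α := center K) 2).ker *
      Nat.card (powMonoidHom (α := center K) 2).range = Nat.card (center K) := by
    rw [← Subgroup.index_ker]
    exact Subgroup.card_mul_index _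
  have h2 : Nat.card (powMonoidHom (α := center K) 2).range *
      (powMonoidHom (α := center K) 2).range.index = Nat.card (center K) :=
    Subgroup.card_mul_index _
  have hpos : 0 < Nat.card (powMonoidHom (α := center K) 2).range := Nat.card_pos
  have h3 : (powMonoidHom (α := center K) 2).range.index =
      Nat.card (powMonoidHom (α := center K) 2).ker := by
    have : Nat.card (powMonoidHom (α := center K) 2).range *
        (powMonoidHom (α := center K) 2).range.index =
        Nat.card (powMonoidHom (α := center K) 2).range *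
        Nat.card (powMonoidHom (α := center K) 2).ker := by rw [h2, ← h1, mul_comm]
    exact Nat.eq_of_mul_eq_mul_left hpos this
  have h5 : Nat.card (powMonoidHom (α := center K) 2).ker ≤
      Nat.card {z : center K // z * z = 1} := by
    apply Nat.card_le_card_of_injective (fun z => (⟨z.1, by
      have := z.2
      rw [MonoidHom.mem_ker, powMonoidHom_apply, pow_two] at this
      exact this⟩ : {z : center K // z * z = 1}))
    intro a b hab
    have hab' := Subtype.ext_iff.mp hab
    exact Subtype.ext hab'
  show Nat.card (center K ⧸ (powMonoidHom (α := center K) 2).range) ≤ 4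
  rw [← Subgroup.index_eq_card, h3]
  exact h5.trans (card_sq_center_le h4)

end Card


section Final

variable [Finite K]

omit [Finite K] in
theorem center_invariant (α : MulAut K) (d : K) (hd : d ∈ center K) : α d ∈ center K := by
  rw [Subgroup.mem_center_iff] at hd ⊢
  intro g
  have h1 := hd (α⁻¹ g)
  have h2 := congrArg α h1
  simpa using h2

/-- **S3117, part C2.** -/
theorem solvable_mulAut_of_class_two (hK : IsPGroup 2 K)
    (hcomm : ∀ x y : K, x * y * x⁻¹ * y⁻¹ ∈ center K)
    (hsq : ∀ x : K, x * x ∈ center K)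
    (hinv : ∀ x : K, x * x = 1 → x ∈ center K)
    (h4 : Nat.card {x : K // x * x = 1} ≤ 4) : Group.IsSolvable (MulAut K) := by
  have : Fact (∀ x y : K, x * y * x⁻¹ * y⁻¹ ∈ center K) := ⟨hcomm⟩
  have : Fact (Nat.Prime 2) := ⟨Nat.prime_two⟩
  let ρ : MulAut K →* MulAut (center K) := resAut (center K) center_invariant
  let σ : MulAut K →* MulAut (K ⧸ center K) := quotAut (center K) center_invariant
  let B : Subgroup (MulAut K) := ρ.ker
  let τ : B →* MulAut (K ⧸ center K) := σ.comp B.subtype
  -- `B` fixes the centre pointwise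
  have hBfix : ∀ b : B, ∀ z ∈ center K, (b : MulAut K) z = z := by
    intro b z hz
    have h1 : ρ b = 1 := b.2
    have h2 := congrArg (fun e : MulAut (center K) => ((e ⟨z, hz⟩ : center K) : K)) h1
    exact h2
  -- the kernel of `τ` is a 2-group
  have hker : IsPGroup 2 τ.ker := by
    obtain ⟨k, hk⟩ := IsPGroup.iff_card.mp hK
    intro b
    refine ⟨k, ?_⟩
    have hb : τ b.1 = 1 := b.2
    have h2 : ∀ x, x⁻¹ * (b.1 : MulAut K) x ∈ center K := by
      intro x
      have h3 := congrArg (fun e : MulAut (K ⧸ center K) => e (QuotientGroup.mk x)) hb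
      have h4 : (QuotientGroup.mk ((b.1 : MulAut K) x) : K ⧸ center K) = QuotientGroup.mk x := h3
      exact QuotientGroup.eq.mp h4.symm
    have h3 := pow_card_eq_one_of_stab (center K) (b.1 : MulAut K) (hBfix b.1) h2
    rw [hk] at h3
    apply Subtype.ext
    apply Subtype.ext
    simpa using h3
  have : Group.IsSolvable τ.ker := by
    have := hker.isNilpotent
    infer_instance
  -- the image is solvable
  have : Group.IsSolvable τ.range := by
    let act : τ.range → Additive (K ⧸ center K) → Additive (K ⧸ center K) := fun γ w =>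
      Additive.ofMul ((γ : MulAut (K ⧸ center K)) (Additive.toMul w))
    have hA : IsoAct (qAdd hsq) act :=
      { one := fun w => rfl
        mul := fun g g' w => rfl
        add := fun g w w' => congrArg Additive.ofMul
          (map_mul (g : MulAut (K ⧸ center K)) (Additive.toMul w) (Additive.toMul w'))
        pres := by
          rintro ⟨_, b, rfl⟩ w
          show Additive.ofMul (qMul hsq (τ b (Additive.toMul w))) =
            Additive.ofMul (qMul hsq (Additive.toMul w))
          congr 1
          induction (Additive.toMul w) using QuotientGroup.induction_on with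
          | H x =>
            show qRep hsq ((b : MulAut K) x) = qRep hsq x
            unfold qRep
            congr 1
            apply Subtype.ext
            show (b : MulAut K) x * (b : MulAut K) x = x * x
            rw [← map_mul, hBfix b _ (hsq x)]
        faith := by
          intro g hg
          apply Subtype.ext
          ext w
          exact congrArg Additive.toMul (hg (Additive.ofMul w)) }
    exact solvable_of_isoAct (anisoQuad hsq hinv) (card_quot_sqZ_le h4) hA
  have : Group.IsSolvable B :=
    Group.isSolvable_of_ker_le_range τ.ker.subtype τ.rangeRestrict (by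
      rw [MonoidHom.ker_rangeRestrict, Subgroup.range_subtype])
  have : Group.IsSolvable (MulAut (center K)) :=
    Cfsg.Agent.Lib.Helper26.Aut3.solvable_mulAut_of_card_sq_le (hK.to_subgroup _) (card_sq_center_le h4)
  exact Group.isSolvable_of_ker_le_range B.subtype ρ (by rw [Subgroup.range_subtype])

end Final

end Quad

end Cfsg.Agent.Lib.Helper17.Aut3
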