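import Mathlib

/-!
# Prime graph of a group of order 7920: definitions shared by the S2490 pack
-/

namespace Cfsg.Agent.Lib.Helper17.PG7920

/-- `a` and `b` are joined in the prime graph of `G`: some element has order `a * b`. -/
def Edge (G : Type*) [Group G] (a b : ℕ) : Prop := ∃ g : G, orderOf g = a * b

theorem Edge.symm {G : Type*} [Group G] {a b : ℕ} (h : Edge G a b) : Edge G b a := by
  obtain ⟨g, hg⟩ := h
  exact ⟨g, by rw [hg, mul_comm]⟩

/-- Connectedness of the prime graph on the vertex set `{2, 3, 5, 11}`, phrased through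
colourings: every colouring that is constant along edges is constant. -/
def PGConn (G : Type*) [Group G] : Prop :=
  ∀ c : ℕ → Prop,
    (∀ a b : ℕ, a ∈ ({2, 3, 5, 11} : Finset ℕ) → b ∈ ({2, 3, 5, 11} : Finset ℕ) →
      Edge G a b → (c a ↔ c b)) →
    (c 2 ↔ c 3) ∧ (c 2 ↔ c 5) ∧ (c 2 ↔ c 11)

end Cfsg.Agent.Lib.Helper17.PG7920
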