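import Mathlib

/-!
# Transitive groups of degree `p + 1` and order `(p + 1) p d`, `d < p`

The point stabilizer contains a normal cyclic subgroup of order `p` acting regularly on the
remaining points; the group is doubly transitive and no nonidentity element fixes three points.
-/

set_option autoImplicit false
set_option linter.style.haveILetI false

namespace Cfsg.Agent.Lib.Helper17.PrimeDeg

open MulAction

variable {G Ω : Type*} [Group G] [Finite G] [MulAction G Ω] [Fintype Ω]

/-- the kernel package at the point `a` -/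
structure Kernel (p : ℕ) (a : Ω) (F : Subgroup G) : Prop where
  le : F ≤ stabilizer G a
  card : Nat.card F = p
  normal : (F.subgroupOf (stabilizer G a)).Normal
  reg : ∀ y z : Ω, y ≠ a → z ≠ a → ∃! u : F, (u : G) • y = z
  comm : ∀ x ∈ F, ∀ y ∈ F, x * y = y * x
  gen : ∀ u ∈ F, u ≠ 1 → ∀ w ∈ F, w ∈ Subgroup.zpowers u

omit [Finite G] in
theorem card_stabilizer [IsPretransitive G Ω] {p d : ℕ} (hΩ : Fintype.card Ω = p + 1)
    (hG : Nat.card G = (p + 1) * p * d) (a : Ω) : Nat.card (stabilizer G a) = p * d := by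
  have h1 := Subgroup.card_mul_index (stabilizer G a)
  rw [index_stabilizer_of_transitive G a, Nat.card_eq_fintype_card (α := Ω), hΩ, hG] at h1
  have h2 : (p + 1) * (p * d) = (p + 1) * p * d := by ring
  rw [mul_comm, ← h2] at h1
  exact Nat.eq_of_mul_eq_mul_left (by omega) h1

theorem exists_kernel [FaithfulSMul G Ω] [IsPretransitive G Ω] {p d : ℕ} (hp : p.Prime)
    (hΩ : Fintype.card Ω = p + 1) (hG : Nat.card G = (p + 1) * p * d) (hd : d < p) (a : Ω) :
    ∃ F : Subgroup G, Kernel p a F := by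
  classical
  haveI : Fact p.Prime := ⟨hp⟩
  have hcs := card_stabilizer hΩ hG a
  obtain ⟨σ, hσ⟩ := exists_prime_orderOf_dvd_card' (G := stabilizer G a) p
    (by rw [hcs]; exact dvd_mul_right p d)
  have hσG : orderOf (σ : G) = p := by rw [Subgroup.orderOf_coe]; exact hσ
  have hσa : (σ : G) • a = a := mem_stabilizer_iff.mp σ.2
  obtain ⟨F, hF⟩ : ∃ F : Subgroup G, F = Subgroup.zpowers (σ : G) := ⟨_, rfl⟩
  have hFcard : Nat.card F = p := by rw [hF, Nat.card_zpowers, hσG]
  have hFle : F ≤ stabilizer G a := by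
    rw [hF, Subgroup.zpowers_le]; exact σ.2
  have hFa : ∀ u ∈ F, u • a = a := fun u hu => mem_stabilizer_iff.mp (hFle hu)
  have hσF : (σ : G) ∈ F := by rw [hF]; exact Subgroup.mem_zpowers _
  have hσ1 : (σ : G) ≠ 1 := by
    intro h
    rw [h, orderOf_one] at hσG
    exact hp.one_lt.ne hσG
  have hcomm : ∀ x ∈ F, ∀ y ∈ F, x * y = y * x := by
    intro x hx y hy
    rw [hF] at hx hy
    obtain ⟨m, rfl⟩ := Subgroup.mem_zpowers_iff.mp hx
    obtain ⟨n, rfl⟩ := Subgroup.mem_zpowers_iff.mp hy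
    exact zpow_mul_comm _ m n
  have hgen : ∀ u ∈ F, u ≠ 1 → ∀ w ∈ F, w ∈ Subgroup.zpowers u := by
    intro u hu hu1 w hw
    have h1 : Subgroup.zpowers (⟨u, hu⟩ : F) = ⊤ :=
      zpowers_eq_top_of_prime_card hFcard (fun h => hu1 (congrArg Subtype.val h))
    have h2 : (⟨w, hw⟩ : F) ∈ Subgroup.zpowers (⟨u, hu⟩ : F) := by rw [h1]; trivial
    obtain ⟨k, hk⟩ := Subgroup.mem_zpowers_iff.mp h2
    rw [Subgroup.mem_zpowers_iff]
    refine ⟨k, ?_⟩
    have := congrArg Subtype.val hk
    simpa using this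
  -- a point moved by `σ`
  obtain ⟨c, hc⟩ : ∃ c : Ω, (σ : G) • c ≠ c := by
    by_contra hcon
    push Not at hcon
    apply hσ1
    apply FaithfulSMul.eq_of_smul_eq_smul (α := Ω)
    intro x
    rw [hcon x, one_smul]
  have hca : c ≠ a := by
    rintro rfl
    exact hc hσa
  have hfree_c : ∀ u ∈ F, u ≠ 1 → u • c ≠ c := by
    intro u hu hu1 huc
    obtain ⟨k, hk⟩ := Subgroup.mem_zpowers_iff.mp (hgen u hu hu1 _ hσF)
    apply hc
    rw [← hk]
    have : ∀ k : ℤ, (u ^ k) • c = c := by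
      intro k
      have hmem : u ∈ stabilizer G c := mem_stabilizer_iff.mpr huc
      exact mem_stabilizer_iff.mp ((stabilizer G c).zpow_mem hmem k)
    exact this k
  have hne : ∀ u : F, (u : G) • c ≠ a := by
    intro u h
    have : (u : G)⁻¹ • a = c := by rw [← h, inv_smul_smul]
    rw [hFa _ (F.inv_mem u.2)] at this
    exact hca this.symm
  let ψ : F → {y : Ω // y ≠ a} := fun u => ⟨(u : G) • c, hne u⟩
  have hψinj : Function.Injective ψ := by
    intro u u' h
    have h1 : (u : G) • c = (u' : G) • c := congrArg Subtype.val h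
    by_contra hne'
    have h2 : (u' : G)⁻¹ * (u : G) ≠ 1 := by
      intro h3
      apply hne'
      apply Subtype.ext
      have : (u : G) = (u' : G) * ((u' : G)⁻¹ * (u : G)) := by group
      rw [this, h3, mul_one]
    apply hfree_c _ (F.mul_mem (F.inv_mem u'.2) u.2) h2
    rw [mul_smul, h1, inv_smul_smul]
  have hcard2 : Nat.card {y : Ω // y ≠ a} = p := by
    rw [Nat.card_eq_fintype_card, Fintype.card_subtype_compl, Fintype.card_subtype_eq, hΩ]
    omega
  have hψbij : Function.Bijective ψ :=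
    hψinj.bijective_of_nat_card_le (by rw [hcard2, hFcard])
  have htr : ∀ y : Ω, y ≠ a → ∃ u ∈ F, u • c = y := by
    intro y hy
    obtain ⟨u, hu⟩ := hψbij.2 ⟨y, hy⟩
    exact ⟨u, u.2, congrArg Subtype.val hu⟩
  have hfree : ∀ u ∈ F, u ≠ 1 → ∀ y : Ω, y ≠ a → u • y ≠ y := by
    intro u hu hu1 y hy huy
    obtain ⟨w, hw, rfl⟩ := htr y hy
    apply hfree_c u hu hu1
    have h1 : w⁻¹ • (u • (w • c)) = c := by rw [huy, inv_smul_smul]
    rw [← mul_smul, ← mul_smul, mul_assoc, hcomm u hu w hw, ← mul_assoc, inv_mul_cancel,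
      one_mul] at h1
    exact h1
  have hreg : ∀ y z : Ω, y ≠ a → z ≠ a → ∃! u : F, (u : G) • y = z := by
    intro y z hy hz
    obtain ⟨w, hw, rfl⟩ := htr y hy
    obtain ⟨w', hw', rfl⟩ := htr z hz
    refine ⟨⟨w' * w⁻¹, F.mul_mem hw' (F.inv_mem hw)⟩, ?_, ?_⟩
    · show (w' * w⁻¹) • (w • c) = w' • c
      rw [mul_smul, inv_smul_smul]
    · intro v hv
      have hv' : (v : G) • (w • c) = w' • c := hv
      by_contra hne'
      have h2 : (w' * w⁻¹)⁻¹ * (v : G) ≠ 1 := by
        intro h3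
        apply hne'
        apply Subtype.ext
        show (v : G) = w' * w⁻¹
        have : (v : G) = (w' * w⁻¹) * ((w' * w⁻¹)⁻¹ * (v : G)) := by group
        rw [this, h3, mul_one]
      apply hfree _ (F.mul_mem (F.inv_mem (F.mul_mem hw' (F.inv_mem hw))) v.2) h2 (w • c) hy
      rw [mul_smul, hv', ← mul_smul]
      have : (w' * w⁻¹)⁻¹ * w' = w := by group
      rw [this]
  -- normality
  have hnorm : ∀ g ∈ stabilizer G a, ∀ u ∈ F, g * u * g⁻¹ ∈ F := by
    intro g hg
    have hτ : g * (σ : G) * g⁻¹ ∈ F := by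
      by_contra hτ
      obtain ⟨T, hT⟩ : ∃ T : Subgroup G, T = Subgroup.zpowers (g * (σ : G) * g⁻¹) := ⟨_, rfl⟩
      have hTcard : Nat.card T = p := by
        rw [hT, Nat.card_zpowers]
        have : g * (σ : G) * g⁻¹ = MulAut.conj g (σ : G) := by simp [MulAut.conj_apply]
        rw [this, MulEquiv.orderOf_eq, hσG]
      have hTle : T ≤ stabilizer G a := by
        rw [hT, Subgroup.zpowers_le]
        exact (stabilizer G a).mul_mem ((stabilizer G a).mul_mem hg σ.2)
          ((stabilizer G a).inv_mem hg)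
      have hτT : g * (σ : G) * g⁻¹ ∈ T := by rw [hT]; exact Subgroup.mem_zpowers _
      have hdisj : ∀ x, x ∈ F → x ∈ T → x = 1 := by
        intro x hxF hxT
        by_contra hx1
        have h1 : Subgroup.zpowers (⟨x, hxT⟩ : T) = ⊤ :=
          zpowers_eq_top_of_prime_card hTcard (fun h => hx1 (congrArg Subtype.val h))
        have h2 : (⟨_, hτT⟩ : T) ∈ Subgroup.zpowers (⟨x, hxT⟩ : T) := by rw [h1]; trivial
        obtain ⟨k, hk⟩ := Subgroup.mem_zpowers_iff.mp h2
        apply hτ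
        have h3 := congrArg Subtype.val hk
        simp only [Subgroup.coe_zpow] at h3
        rw [← h3]
        exact F.zpow_mem hxF k
      let θ : F × T → stabilizer G a := fun x =>
        ⟨(x.1 : G) * (x.2 : G), (stabilizer G a).mul_mem (hFle x.1.2) (hTle x.2.2)⟩
      have hθ : Function.Injective θ := by
        rintro ⟨x, y⟩ ⟨x', y'⟩ h
        have h1 : (x : G) * (y : G) = (x' : G) * (y' : G) := congrArg Subtype.val h
        have h2 : (x' : G)⁻¹ * (x : G) = (y' : G) * (y : G)⁻¹ := by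
          have : (x' : G)⁻¹ * ((x : G) * (y : G)) * (y : G)⁻¹ = (x' : G)⁻¹ * (x : G) := by group
          rw [← this, h1]; group
        have h3 : (x' : G)⁻¹ * (x : G) = 1 :=
          hdisj _ (F.mul_mem (F.inv_mem x'.2) x.2) (by rw [h2]; exact T.mul_mem y'.2 (T.inv_mem y.2))
        have h4 : (x : G) = (x' : G) := by
          have : (x : G) = (x' : G) * ((x' : G)⁻¹ * (x : G)) := by group
          rw [this, h3, mul_one]
        have h5 : (y : G) = (y' : G) := by
          rw [h4] at h1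
          exact mul_left_cancel h1
        exact Prod.ext (Subtype.ext h4) (Subtype.ext h5)
      have h6 := Nat.card_le_card_of_injective θ hθ
      rw [Nat.card_prod, hFcard, hTcard, hcs] at h6
      have : p ≤ d := Nat.le_of_mul_le_mul_left h6 hp.pos
      omega
    intro u hu
    rw [hF] at hu
    obtain ⟨k, rfl⟩ := Subgroup.mem_zpowers_iff.mp hu
    have : g * (σ : G) ^ k * g⁻¹ = (g * (σ : G) * g⁻¹) ^ k := by
      rw [conj_zpow]
    rw [this]
    exact F.zpow_mem hτ k
  refine ⟨F, hFle, hFcard, ?_, hreg, hcomm, hgen⟩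
  constructor
  rintro ⟨k, hka⟩ hk ⟨g, hga⟩
  rw [Subgroup.mem_subgroupOf] at hk ⊢
  exact hnorm g hga k hk

omit [Finite G] [Fintype Ω] in
theorem Kernel.smul_eq {p : ℕ} {a : Ω} {F : Subgroup G} (hK : Kernel p a F) {u : G} (hu : u ∈ F) :
    u • a = a := mem_stabilizer_iff.mp (hK.le hu)

omit [Finite G] [Fintype Ω] in
theorem Kernel.conj_mem {p : ℕ} {a : Ω} {F : Subgroup G} (hK : Kernel p a F) {g : G}
    (hg : g • a = a) {u : G} (hu : u ∈ F) : g * u * g⁻¹ ∈ F := by
  have := hK.normal.conj_mem ⟨u, hK.le hu⟩ (Subgroup.mem_subgroupOf.mpr hu)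
    ⟨g, mem_stabilizer_iff.mpr hg⟩
  exact Subgroup.mem_subgroupOf.mp this

omit [Finite G] [Fintype Ω] in
theorem Kernel.free {p : ℕ} {a : Ω} {F : Subgroup G} (hK : Kernel p a F) {u : G} (hu : u ∈ F)
    (hu1 : u ≠ 1) {y : Ω} (hy : y ≠ a) : u • y ≠ y := by
  intro h
  obtain ⟨w, -, hw⟩ := hK.reg y y hy hy
  have h1 := hw ⟨u, hu⟩ h
  have h2 := hw 1 (by show ((1 : F) : G) • y = y; rw [Subgroup.coe_one, one_smul])
  apply hu1
  have := h1.trans h2.symm
  exact congrArg Subtype.val this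

omit [Finite G] [Fintype Ω] in
theorem trans2 [IsPretransitive G Ω] {p : ℕ} (hK : ∀ a : Ω, ∃ F : Subgroup G, Kernel p a F) :
    ∀ a b c d : Ω, a ≠ b → c ≠ d → ∃ g : G, g • a = c ∧ g • b = d := by
  intro a b c d hab hcd
  obtain ⟨h, hh⟩ := exists_smul_eq G a c
  obtain ⟨F, hF⟩ := hK c
  have hhb : h • b ≠ c := by
    intro h1
    rw [← hh] at h1
    exact hab (MulAction.injective h h1).symm
  obtain ⟨u, hu, -⟩ := hF.reg (h • b) d hhb (Ne.symm hcd)
  refine ⟨(u : G) * h, ?_, ?_⟩
  · rw [mul_smul, hh, hF.smul_eq u.2]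
  · rw [mul_smul]; exact hu

omit [Finite G] [Fintype Ω] in
theorem three [FaithfulSMul G Ω] {p : ℕ} (hK : ∀ a : Ω, ∃ F : Subgroup G, Kernel p a F) :
    ∀ (g : G) (a b c : Ω), a ≠ b → b ≠ c → a ≠ c → g • a = a → g • b = b → g • c = c →
      g = 1 := by
  intro g a b c hab hbc hac hga hgb hgc
  obtain ⟨F, hF⟩ := hK a
  obtain ⟨f, hf, -⟩ := hF.reg b c hab.symm hac.symm
  have hf1 : (f : G) ≠ 1 := by
    intro h
    rw [h, one_smul] at hf
    exact hbc hf
  have hgib : g⁻¹ • b = b := by rw [inv_smul_eq_iff, hgb]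
  have hconj : g * (f : G) * g⁻¹ = (f : G) := by
    obtain ⟨w, -, hw⟩ := hF.reg b c hab.symm hac.symm
    have h1 := hw ⟨g * (f : G) * g⁻¹, hF.conj_mem hga f.2⟩ (by
      show (g * (f : G) * g⁻¹) • b = c
      rw [mul_smul, mul_smul, hgib, hf, hgc])
    have h2 := hw f hf
    exact congrArg Subtype.val (h1.trans h2.symm)
  have hcommF : ∀ w ∈ F, g * w = w * g := by
    intro w hw
    obtain ⟨k, rfl⟩ := Subgroup.mem_zpowers_iff.mp (hF.gen f f.2 hf1 w hw)
    have h1 : g * (f : G) ^ k * g⁻¹ = (f : G) ^ k := by rw [← conj_zpow, hconj]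
    calc g * (f : G) ^ k = (g * (f : G) ^ k * g⁻¹) * g := by group
      _ = (f : G) ^ k * g := by rw [h1]
  apply FaithfulSMul.eq_of_smul_eq_smul (α := Ω)
  intro y
  rw [one_smul]
  by_cases hy : y = a
  · rw [hy, hga]
  · obtain ⟨w, hw, -⟩ := hF.reg b y hab.symm hy
    have hw' : (w : G) • b = y := hw
    rw [← hw', ← mul_smul, hcommF w w.2, mul_smul, hgb]

omit [Finite G] [Fintype Ω] in
theorem card_two_stab {p d : ℕ} {a b : Ω} (hab : a ≠ b) {F : Subgroup G} (hF : Kernel p a F)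
    (hcs : Nat.card (stabilizer G a) = p * d) (hp : 0 < p) :
    Nat.card ↥(stabilizer G a ⊓ stabilizer G b : Subgroup G) = d := by
  have hKb : ∀ u : F, (u : G) • b ≠ a := by
    intro u hub
    have : (u : G)⁻¹ • a = b := by rw [← hub, inv_smul_smul]
    rw [hF.smul_eq (F.inv_mem u.2)] at this
    exact hab this
  have h2 : Nat.card (stabilizer G a) =
      Nat.card F * Nat.card ↥(stabilizer G a ⊓ stabilizer G b : Subgroup G) := by
    rw [← Nat.card_prod]
    symm
    apply Nat.card_eq_of_bijective (fun x : ↥F × ↥(stabilizer G a ⊓ stabilizer G b : Subgroup G) =>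
      (⟨(x.1 : G) * (x.2 : G), (stabilizer G a).mul_mem (hF.le x.1.2)
        (Subgroup.mem_inf.mp x.2.2).1⟩ : stabilizer G a))
    constructor
    · rintro ⟨k, d⟩ ⟨k', d'⟩ hx
      have hx' : (k : G) * (d : G) = (k' : G) * (d' : G) := congrArg Subtype.val hx
      have hdb : (d : G) • b = b := mem_stabilizer_iff.mp (Subgroup.mem_inf.mp d.2).2
      have hd'b : (d' : G) • b = b := mem_stabilizer_iff.mp (Subgroup.mem_inf.mp d'.2).2
      have hkb : (k : G) • b = (k' : G) • b := by
        have := congrArg (fun g : G => g • b) hx'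
        simpa only [mul_smul, hdb, hd'b] using this
      obtain ⟨w, -, hw⟩ := hF.reg b ((k' : G) • b) hab.symm (hKb k')
      have hkk' : k = k' := (hw k hkb).trans (hw k' rfl).symm
      subst hkk'
      have : (d : G) = (d' : G) := mul_left_cancel hx'
      rw [Subtype.ext this]
    · rintro ⟨g, hg⟩
      have hga : g • a = a := mem_stabilizer_iff.mp hg
      have hgb : g • b ≠ a := by
        intro hh
        rw [← hga] at hh
        exact hab (MulAction.injective g hh).symm
      obtain ⟨k, hk, -⟩ := hF.reg b (g • b) hab.symm hgb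
      refine ⟨⟨k, ⟨(k : G)⁻¹ * g, ?_⟩⟩, ?_⟩
      · rw [Subgroup.mem_inf, mem_stabilizer_iff, mem_stabilizer_iff]
        refine ⟨?_, ?_⟩
        · rw [mul_smul, hga, hF.smul_eq (F.inv_mem k.2)]
        · rw [mul_smul, ← hk, inv_smul_smul]
      · apply Subtype.ext
        show (k : G) * ((k : G)⁻¹ * g) = g
        group
  rw [hcs, hF.card] at h2
  exact (Nat.eq_of_mul_eq_mul_left hp h2).symm

end Cfsg.Agent.Lib.Helper17.PrimeDeg
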