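import Mathlib
import Cfsg.Agent.Lib.Helper28.SchurField
import Cfsg.Agent.Lib.Helper17.PrimeDeg

/-!
# The affine branch for transitive groups of degree `p + 1`

A group of degree `p + 1` (with kernels of order `p` in the point stabilizers) having a regular
normal subgroup acts as a group of semi-affine maps on a field of order `2 ^ q`.
-/

set_option autoImplicit false
set_option linter.style.haveILetI false

namespace Cfsg.Agent.Lib.Helper17.AffinePrime

open MulAction Cfsg.Agent.Lib.Helper28 Cfsg.Agent.Lib.Helper17.PrimeDeg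

/-- ring automorphisms of a `ZMod p`-algebra are algebra automorphisms -/
noncomputable def ringAutEquivAlgAut (p : ℕ) [Fact p.Prime] (K : Type*) [Field K]
    [Algebra (ZMod p) K] : (K ≃+* K) ≃ (K ≃ₐ[ZMod p] K) where
  toFun f := AlgEquiv.ofRingEquiv (f := f) (by
    intro r
    haveI : NeZero p := ⟨(Fact.out : p.Prime).ne_zero⟩
    rw [← ZMod.natCast_zmod_val r, map_natCast, map_natCast])
  invFun g := g.toRingEquiv
  left_inv f := by ext x; rfl
  right_inv g := by ext x; rfl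

theorem card_ringAut_galoisField {q : ℕ} (hq : q ≠ 0) :
    Nat.card (GaloisField 2 q ≃+* GaloisField 2 q) = q := by
  rw [Nat.card_congr (ringAutEquivAlgAut 2 (GaloisField 2 q)), IsGalois.card_aut_eq_finrank,
    GaloisField.finrank 2 hq]

section main

variable {G Ω : Type*} [Group G] [Finite G] [MulAction G Ω] [Fintype Ω]

theorem affine_branch
    (hfaith : ∀ g : G, (∀ x : Ω, g • x = x) → g = 1)
    {p d : ℕ} (hp : p.Prime) (hp2 : p ≠ 2) (hΩ : Fintype.card Ω = p + 1)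
    {a : Ω} (F : Subgroup G) (hF : Kernel p a F)
    (hE : ∀ b : Ω, b ≠ a → Nat.card ↥(stabilizer G a ⊓ stabilizer G b : Subgroup G) = d)
    (N : Subgroup G) (hN : N.Normal) (hNreg : ∀ x y : Ω, ∃! n : N, (n : G) • x = y) :
    ∃ q : ℕ, q.Prime ∧ p + 1 = 2 ^ q ∧ (d = 1 ∨ d = q) ∧
      ∃ e : Ω ≃ GaloisField 2 q, ∀ g : G, ∃ (c : (GaloisField 2 q)ˣ) (t : GaloisField 2 q)
        (ψ : GaloisField 2 q ≃+* GaloisField 2 q),
        ∀ x, e (g • e.symm x) = (c : GaloisField 2 q) * ψ x + t := by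
  classical
  -- `N ≃ Ω`
  have hNinj : ∀ n m : N, (n : G) • a = (m : G) • a → n = m := by
    intro n m h
    obtain ⟨w, -, hw⟩ := hNreg a ((m : G) • a)
    exact (hw n h).trans (hw m rfl).symm
  have hNone : ∀ n ∈ N, n • a = a → n = 1 := by
    intro n hn h
    have h1 : ((⟨n, hn⟩ : N) : G) • a = ((1 : N) : G) • a := by
      rw [Subgroup.coe_one, one_smul]; exact h
    exact congrArg Subtype.val (hNinj ⟨n, hn⟩ 1 h1)
  let ι : N → Ω := fun n => (n : G) • a
  have hιbij : Function.Bijective ι := ⟨fun n m h => hNinj n m h, fun y => (hNreg a y).exists⟩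
  have hNcard : Nat.card N = p + 1 := by
    rw [Nat.card_eq_of_bijective ι hιbij, Nat.card_eq_fintype_card, hΩ]
  have hnorm : ∀ f ∈ F, ∀ n ∈ N, f * n * f⁻¹ ∈ N := fun f _ n hn => hN.conj_mem n hn f
  have hFa : ∀ f ∈ F, f • a = a := fun f hf => hF.smul_eq hf
  -- transitivity of `F` on `N \ {1}`
  have htr : ∀ n ∈ N, n ≠ 1 → ∀ m ∈ N, m ≠ 1 → ∃ f ∈ F, f * n * f⁻¹ = m := by
    intro n hn hn1 m hm hm1
    have hna : n • a ≠ a := fun h => hn1 (hNone n hn h)
    have hma : m • a ≠ a := fun h => hm1 (hNone m hm h)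
    obtain ⟨f, hf, -⟩ := hF.reg (n • a) (m • a) hna hma
    refine ⟨f, f.2, ?_⟩
    have h1 : ((f : G) * n * (f : G)⁻¹) • a = m • a := by
      rw [mul_smul, mul_smul, hFa _ (F.inv_mem f.2)]; exact hf
    exact congrArg Subtype.val (hNinj ⟨_, hnorm f f.2 n hn⟩ ⟨m, hm⟩ h1)
  -- an involution in `N`
  have h2dvd : 2 ∣ Nat.card N := by
    rw [hNcard]
    rcases hp.eq_two_or_odd with h | h
    · exact absurd h hp2
    · omega
  obtain ⟨⟨e₀, he₀N⟩, he₀ord⟩ := exists_prime_orderOf_dvd_card' 2 h2dvd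
  have he₀1 : e₀ ≠ 1 := by
    intro h
    have : (⟨e₀, he₀N⟩ : N) = 1 := Subtype.ext h
    rw [this, orderOf_one] at he₀ord
    omega
  have he₀sq : e₀ * e₀ = 1 := by
    have h1 := pow_orderOf_eq_one (⟨e₀, he₀N⟩ : N)
    rw [he₀ord, pow_two] at h1
    exact congrArg Subtype.val h1
  have hsq : ∀ m ∈ N, m * m = 1 := by
    intro m hm
    by_cases hm1 : m = 1
    · rw [hm1, mul_one]
    obtain ⟨f, -, hf⟩ := htr e₀ he₀N he₀1 m hm hm1
    rw [← hf]
    calc f * e₀ * f⁻¹ * (f * e₀ * f⁻¹) = f * (e₀ * e₀) * f⁻¹ := by group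
      _ = 1 := by rw [he₀sq]; group
  have hinvN : ∀ m ∈ N, m⁻¹ = m := fun m hm => inv_eq_of_mul_eq_one_left (hsq m hm)
  have hNcomm : ∀ x ∈ N, ∀ y ∈ N, x * y = y * x := by
    intro x hx y hy
    have := hinvN (x * y) (N.mul_mem hx hy)
    rw [mul_inv_rev, hinvN x hx, hinvN y hy] at this
    exact this.symm
  have hirr : ∀ M : Subgroup G, M ≤ N → (∀ f ∈ F, ∀ m ∈ M, f * m * f⁻¹ ∈ M) →
      M = ⊥ ∨ M = N := by
    intro M hMN hMF
    by_cases hMbot : M = ⊥
    · exact Or.inl hMbot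
    right
    obtain ⟨⟨m, hm⟩, hm1'⟩ := (Subgroup.ne_bot_iff_exists_ne_one (H := M)).mp hMbot
    have hm1 : m ≠ 1 := fun h => hm1' (Subtype.ext h)
    apply le_antisymm hMN
    intro t ht
    by_cases ht1 : t = 1
    · rw [ht1]; exact M.one_mem
    obtain ⟨f, hfF, hf⟩ := htr m (hMN hm) hm1 t ht ht1
    rw [← hf]
    exact hMF f hfF m hm
  haveI : Finite N := inferInstance
  obtain ⟨p', n, hp', φ, hn, hφbij, hadd, hφe, hmul⟩ :=
    exists_coord_schur N F hNcomm hF.comm hnorm e₀ he₀N he₀1 hirr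
  have hφ1 : φ 1 = 0 := by
    have := hadd 1 1
    rw [mul_one] at this
    exact left_eq_add.mp this
  -- characteristic two
  have h2F : (2 : GaloisField p' n) = 0 := by
    have h1 := hadd ⟨e₀, he₀N⟩ ⟨e₀, he₀N⟩
    have h2 : (⟨e₀, he₀N⟩ : N) * ⟨e₀, he₀N⟩ = 1 := Subtype.ext he₀sq
    rw [h2, hφ1, hφe] at h1
    rw [h1]; norm_num
  have hp'2 : p' = 2 := by
    have h1 : ((2 : ℕ) : GaloisField p' n) = 0 := by exact_mod_cast h2F
    have h2 := (CharP.cast_eq_zero_iff (GaloisField p' n) p' 2).mp h1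
    exact (Nat.prime_dvd_prime_iff_eq hp'.out Nat.prime_two).mp h2
  subst hp'2
  have hcardF : Nat.card (GaloisField 2 n) = 2 ^ n := GaloisField.card 2 n hn
  have hpn : p + 1 = 2 ^ n := by
    rw [← hcardF, ← Nat.card_eq_of_bijective φ hφbij, hNcard]
  have hnprime : n.Prime := by
    have hn1 : n ≠ 1 := by
      rintro rfl
      have := hp.two_le
      omega
    have hP : (2 ^ n - 1).Prime := by
      have : 2 ^ n - 1 = p := by omega
      rw [this]; exact hp
    exact (Nat.prime_of_pow_sub_one_prime hn1 hP).2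
  -- conjugation on `N`
  let cj : G → N → N := fun h m => ⟨h * (m : G) * h⁻¹, hN.conj_mem m m.2 h⟩
  have hcj_mul : ∀ (h : G) (m m' : N), cj h (m * m') = cj h m * cj h m' := by
    intro h m m'
    apply Subtype.ext
    show h * ((m : G) * (m' : G)) * h⁻¹ = (h * m * h⁻¹) * (h * m' * h⁻¹)
    group
  have hcj_comp : ∀ (h h' : G) (m : N), cj (h * h') m = cj h (cj h' m) := by
    intro h h' m
    apply Subtype.ext
    show (h * h') * (m : G) * (h * h')⁻¹ = h * (h' * m * h'⁻¹) * h⁻¹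
    group
  let χ : G → GaloisField 2 n := fun f => φ (cj f ⟨e₀, he₀N⟩)
  have hmul' : ∀ f ∈ F, ∀ m : N, φ (cj f m) = χ f * φ m := fun f hf m => hmul f hf m
  have hχsurj : ∀ s : GaloisField 2 n, s ≠ 0 → ∃ f ∈ F, χ f = s := by
    intro s hs
    obtain ⟨t, rfl⟩ := hφbij.2 s
    have ht1 : (t : G) ≠ 1 := by
      intro h
      apply hs
      have : t = 1 := Subtype.ext h
      rw [this, hφ1]
    obtain ⟨f, hfF, hf⟩ := htr e₀ he₀N he₀1 t t.2 ht1
    refine ⟨f, hfF, ?_⟩
    show φ (cj f ⟨e₀, he₀N⟩) = φ t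
    congr 1
    exact Subtype.ext hf
  -- the key lemma: conjugation by a point stabilizer element is semilinear
  have key : ∀ h : G, h • a = a → ∃ (c : GaloisField 2 n)
      (ψ : GaloisField 2 n ≃+* GaloisField 2 n), c ≠ 0 ∧ ∀ m : N, φ (cj h m) = c * ψ (φ m) := by
    intro h hha
    let Φ : N ≃ GaloisField 2 n := Equiv.ofBijective φ hφbij
    have hΦ : ∀ m, Φ m = φ m := fun m => rfl
    let θ : GaloisField 2 n → GaloisField 2 n := fun x => φ (cj h (Φ.symm x))
    have hθφ : ∀ m : N, θ (φ m) = φ (cj h m) := by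
      intro m
      show φ (cj h (Φ.symm (φ m))) = _
      rw [← hΦ m, Φ.symm_apply_apply]
    have hθadd : ∀ x y, θ (x + y) = θ x + θ y := by
      intro x y
      obtain ⟨m, rfl⟩ := hφbij.2 x
      obtain ⟨m', rfl⟩ := hφbij.2 y
      rw [← hadd, hθφ, hθφ, hθφ, hcj_mul, hadd]
    have hθmul : ∀ f ∈ F, ∀ x, θ (χ f * x) = χ (h * f * h⁻¹) * θ x := by
      intro f hf x
      obtain ⟨m, rfl⟩ := hφbij.2 x
      rw [← hmul' f hf, hθφ, hθφ, ← hmul' _ (hF.conj_mem hha hf), ← hcj_comp, ← hcj_comp]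
      have : h * f * h⁻¹ * h = h * f := by group
      rw [this]
    have hθ1 : θ 1 = φ (cj h ⟨e₀, he₀N⟩) := by rw [← hφe, hθφ]
    have hc0 : θ 1 ≠ 0 := by
      intro h0
      rw [hθ1, ← hφ1] at h0
      have h2 := hφbij.1 h0
      have h3 : h * e₀ * h⁻¹ = 1 := congrArg Subtype.val h2
      apply he₀1
      calc e₀ = h⁻¹ * (h * e₀ * h⁻¹) * h := by group
        _ = 1 := by rw [h3]; group
    let ψ₀ : GaloisField 2 n → GaloisField 2 n := fun x => (θ 1)⁻¹ * θ x
    have hψ1 : ψ₀ 1 = 1 := inv_mul_cancel₀ hc0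
    have hψadd : ∀ x y, ψ₀ (x + y) = ψ₀ x + ψ₀ y := by
      intro x y
      show (θ 1)⁻¹ * θ (x + y) = (θ 1)⁻¹ * θ x + (θ 1)⁻¹ * θ y
      rw [hθadd, mul_add]
    have hψ0 : ψ₀ 0 = 0 := by
      have := hψadd 0 0
      rw [add_zero] at this
      exact left_eq_add.mp this
    have hψχ : ∀ f ∈ F, ∀ x, ψ₀ (χ f * x) = χ (h * f * h⁻¹) * ψ₀ x := by
      intro f hf x
      show (θ 1)⁻¹ * θ (χ f * x) = χ (h * f * h⁻¹) * ((θ 1)⁻¹ * θ x)
      rw [hθmul f hf]; ring
    have hψmul : ∀ x y, ψ₀ (x * y) = ψ₀ x * ψ₀ y := by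
      intro x y
      by_cases hx : x = 0
      · rw [hx, zero_mul, hψ0, zero_mul]
      obtain ⟨f, hf, rfl⟩ := hχsurj x hx
      have h1 := hψχ f hf 1
      rw [mul_one, hψ1, mul_one] at h1
      rw [hψχ f hf y, h1]
    let ψh : GaloisField 2 n →+* GaloisField 2 n :=
      { toFun := ψ₀, map_one' := hψ1, map_mul' := hψmul, map_zero' := hψ0, map_add' := hψadd }
    have hψbij : Function.Bijective ψh :=
      ⟨ψh.injective, Finite.injective_iff_surjective.mp ψh.injective⟩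
    refine ⟨θ 1, RingEquiv.ofBijective ψh hψbij, hc0, ?_⟩
    intro m
    show φ (cj h m) = θ 1 * ((θ 1)⁻¹ * θ (φ m))
    rw [hθφ, mul_inv_cancel_left₀ hc0]
  -- the labelling
  let Φ : N ≃ GaloisField 2 n := Equiv.ofBijective φ hφbij
  let I : N ≃ Ω := Equiv.ofBijective ι hιbij
  let e : Ω ≃ GaloisField 2 n := I.symm.trans Φ
  have he_apply : ∀ m : N, e ((m : G) • a) = φ m := by
    intro m
    show Φ (I.symm ((m : G) • a)) = φ m
    have : I.symm ((m : G) • a) = m := I.symm_apply_eq.mpr rfl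
    rw [this]; rfl
  have he_symm : ∀ m : N, e.symm (φ m) = (m : G) • a := by
    intro m
    rw [Equiv.symm_apply_eq, he_apply]
  refine ⟨n, hnprime, hpn, ?_, ?_⟩
  · -- `d` divides `n`
    have hba : e₀ • a ≠ a := fun h => he₀1 (hNone e₀ he₀N h)
    have hd := hE (e₀ • a) hba
    have hEa : ∀ h ∈ (stabilizer G a ⊓ stabilizer G (e₀ • a) : Subgroup G), h • a = a :=
      fun h hh => mem_stabilizer_iff.mp (Subgroup.mem_inf.mp hh).1
    have hEb : ∀ h ∈ (stabilizer G a ⊓ stabilizer G (e₀ • a) : Subgroup G),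
        h • (e₀ • a) = e₀ • a :=
      fun h hh => mem_stabilizer_iff.mp (Subgroup.mem_inf.mp hh).2
    have hEe : ∀ h ∈ (stabilizer G a ⊓ stabilizer G (e₀ • a) : Subgroup G),
        cj h ⟨e₀, he₀N⟩ = ⟨e₀, he₀N⟩ := by
      intro h hh
      apply hNinj
      show (h * e₀ * h⁻¹) • a = e₀ • a
      have hhi : h⁻¹ • a = a := by rw [inv_smul_eq_iff, hEa h hh]
      rw [mul_smul, mul_smul, hhi, hEb h hh]
    choose! cc ψψ hcψ using key
    have hcc1 : ∀ h ∈ (stabilizer G a ⊓ stabilizer G (e₀ • a) : Subgroup G), cc h = 1 := by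
      intro h hh
      have h1 := (hcψ h (hEa h hh)).2 ⟨e₀, he₀N⟩
      rw [hEe h hh, hφe, map_one, mul_one] at h1
      exact h1.symm
    have hψφ : ∀ h ∈ (stabilizer G a ⊓ stabilizer G (e₀ • a) : Subgroup G), ∀ m : N,
        ψψ h (φ m) = φ (cj h m) := by
      intro h hh m
      have h1 := (hcψ h (hEa h hh)).2 m
      rw [hcc1 h hh, one_mul] at h1
      exact h1.symm
    let hom : ↥(stabilizer G a ⊓ stabilizer G (e₀ • a) : Subgroup G) →*
        RingAut (GaloisField 2 n) :=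
      MonoidHom.mk' (fun h => ψψ h.1) (by
        intro h h'
        apply RingEquiv.ext
        intro x
        obtain ⟨m, rfl⟩ := hφbij.2 x
        rw [RingAut.mul_apply, hψφ _ h'.2, hψφ _ h.2]
        show ψψ ((h : G) * (h' : G)) (φ m) = _
        rw [hψφ _ (Subgroup.mul_mem _ h.2 h'.2), hcj_comp])
    have hinj : Function.Injective hom := by
      rw [injective_iff_map_eq_one]
      intro h hh1
      apply Subtype.ext
      show (h : G) = 1
      apply hfaith
      intro y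
      obtain ⟨m, rfl⟩ := hιbij.2 y
      have h1 : ψψ h.1 (φ m) = φ m := by
        have : hom h = ψψ h.1 := rfl
        rw [← this, hh1]; rfl
      rw [hψφ _ h.2] at h1
      have h2 := hφbij.1 h1
      have h3 : (h : G) * (m : G) * (h : G)⁻¹ = (m : G) := congrArg Subtype.val h2
      show (h : G) • ((m : G) • a) = (m : G) • a
      have hhi : (h : G)⁻¹ • a = a := by rw [inv_smul_eq_iff, hEa _ h.2]
      calc (h : G) • ((m : G) • a) = ((h : G) * (m : G) * (h : G)⁻¹) • ((h : G) • a) := by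
            rw [← mul_smul, ← mul_smul]; congr 1; group
        _ = (m : G) • a := by rw [h3, hEa _ h.2]
    have hdvd := Subgroup.card_dvd_of_injective hom hinj
    rw [hd] at hdvd
    have hcardA : Nat.card (RingAut (GaloisField 2 n)) = n := card_ringAut_galoisField hn
    rw [hcardA] at hdvd
    exact (Nat.dvd_prime hnprime).mp hdvd
  · refine ⟨e, ?_⟩
    intro g
    obtain ⟨m, hm⟩ := hιbij.2 (g • a)
    have hm' : (m : G) • a = g • a := hm
    have hha : ((m : G)⁻¹ * g) • a = a := by rw [mul_smul, ← hm', inv_smul_smul]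
    obtain ⟨c, ψ, hc0, hcψ⟩ := key _ hha
    refine ⟨Units.mk0 c hc0, φ m, ψ, ?_⟩
    intro x
    obtain ⟨k, rfl⟩ := hφbij.2 x
    rw [he_symm]
    have hhi : ((m : G)⁻¹ * g)⁻¹ • a = a := by rw [inv_smul_eq_iff, hha]
    have h1 : g • ((k : G) • a) = ((m * cj ((m : G)⁻¹ * g) k : N) : G) • a := by
      show g • ((k : G) • a) =
        ((m : G) * (((m : G)⁻¹ * g) * (k : G) * ((m : G)⁻¹ * g)⁻¹)) • a
      rw [mul_smul, mul_smul, mul_smul, hhi, ← mul_smul (m : G), mul_inv_cancel_left]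
    rw [h1, he_apply, hadd, hcψ, Units.val_mk0, add_comm]

end main

end Cfsg.Agent.Lib.Helper17.AffinePrime
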