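import Mathlib

set_option autoImplicit false

namespace Cfsg.Agent.Lib.Helper17

open MulAction Subgroup

/-- The centraliser of a transitive permutation group is semiregular. -/
theorem eq_one_of_mem_centralizer_of_apply_eq {α : Type*} (K : Subgroup (Equiv.Perm α))
    [IsPretransitive K α] {c : Equiv.Perm α}
    (hc : c ∈ centralizer (K : Set (Equiv.Perm α))) {a : α} (hca : c a = a) : c = 1 := by
  ext b
  obtain ⟨g, rfl⟩ := exists_smul_eq K a b
  have h := hc (g : Equiv.Perm α) g.2
  have h2 : c (g • a) = ((c * (g : Equiv.Perm α)) a) := rfl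
  rw [h2, ← h]
  simp only [Equiv.Perm.coe_mul, Function.comp_apply, hca, Equiv.Perm.coe_one, id_eq]
  rfl

/-- A transitive subgroup of the centraliser of a transitive group is the whole centraliser. -/
theorem centralizer_eq_of_le_of_isPretransitive {α : Type*} (K T : Subgroup (Equiv.Perm α))
    [IsPretransitive K α] [IsPretransitive T α]
    (hT : T ≤ centralizer (K : Set (Equiv.Perm α))) :
    centralizer (K : Set (Equiv.Perm α)) = T := by
  apply le_antisymm _ hT
  intro c hc
  rcases isEmpty_or_nonempty α with hα | ⟨⟨a⟩⟩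
  · have : c = 1 := by ext x; exact (hα.false x).elim
    rw [this]; exact T.one_mem
  · obtain ⟨t, ht⟩ := exists_smul_eq T a (c a)
    have h1 : (t : Equiv.Perm α)⁻¹ * c ∈ centralizer (K : Set (Equiv.Perm α)) :=
      mul_mem (inv_mem (hT t.2)) hc
    have h2 : ((t : Equiv.Perm α)⁻¹ * c) a = a := by
      have ht' : (t : Equiv.Perm α) a = c a := ht
      rw [Equiv.Perm.coe_mul, Function.comp_apply, ← ht', Equiv.Perm.inv_def, Equiv.symm_apply_apply]
    have h3 := eq_one_of_mem_centralizer_of_apply_eq K h1 h2
    have : c = t := by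
      rw [inv_mul_eq_one] at h3
      exact h3.symm
    rw [this]; exact t.2

/-- stabilizers in a subgroup of a semiregular group are trivial -/
theorem stabilizer_eq_bot_of_map_le_centralizer {α : Type*} (G : Subgroup (Equiv.Perm α))
    (K : Subgroup (Equiv.Perm α)) [IsPretransitive K α] (M : Subgroup G)
    (hM : M.map G.subtype ≤ centralizer (K : Set (Equiv.Perm α))) (a : α) :
    stabilizer M a = ⊥ := by
  rw [Subgroup.eq_bot_iff_forall]
  intro m hm
  have h1 : ((m : G) : Equiv.Perm α) ∈ centralizer (K : Set (Equiv.Perm α)) :=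
    hM ⟨(m : G), m.2, rfl⟩
  have h2 : ((m : G) : Equiv.Perm α) a = a := hm
  have h3 := eq_one_of_mem_centralizer_of_apply_eq K h1 h2
  apply Subtype.ext
  apply Subtype.ext
  exact h3

/-- transport transitivity to the image in `Perm α` -/
theorem isPretransitive_map_subtype {α : Type*} (G : Subgroup (Equiv.Perm α)) (M : Subgroup G)
    [hM : IsPretransitive M α] : IsPretransitive (M.map G.subtype) α := by
  refine ⟨fun a b => ?_⟩
  obtain ⟨m, hm⟩ := exists_smul_eq M a b
  exact ⟨⟨((m : G) : Equiv.Perm α), ⟨(m : G), m.2, rfl⟩⟩, hm⟩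

/-- Normal subgroups with trivial intersection centralise each other (in `Perm α`). -/
theorem map_le_centralizer_map_of_disjoint {α : Type*} (G : Subgroup (Equiv.Perm α))
    (M L : Subgroup G) [hM : M.Normal] [hL : L.Normal] (hdis : M ⊓ L = ⊥) :
    L.map G.subtype ≤ centralizer ((M.map G.subtype : Subgroup (Equiv.Perm α)) :
      Set (Equiv.Perm α)) := by
  rintro _ ⟨l, hl, rfl⟩ _ ⟨m, hm, rfl⟩
  have := commute_of_normal_of_disjoint M L hM hL (disjoint_iff.mpr hdis) m l hm hl
  have h2 : m * l = l * m := this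
  exact congrArg (G.subtype) h2

/-- Two distinct minimal normal subgroups intersect trivially (only minimality of `L` and
`M` used in the form given). -/
theorem inf_eq_bot_of_minimal {H : Type*} [Group H] (L M : Subgroup H) [L.Normal] [M.Normal]
    (hL : L ≠ ⊥)
    (hLmin : ∀ L' : Subgroup H, L'.Normal → L' ≤ L → L' = ⊥ ∨ L' = L)
    (hMmin : ∀ L' : Subgroup H, L'.Normal → L' ≤ M → L' = ⊥ ∨ L' = M)
    (hne : L ≠ M) : M ⊓ L = ⊥ := by
  have hn : (M ⊓ L).Normal := inferInstance
  rcases hLmin (M ⊓ L) hn inf_le_right with h | h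
  · exact h
  · exfalso
    have hLM : L ≤ M := by rw [← h]; exact inf_le_left
    rcases hMmin L inferInstance hLM with h' | h'
    · exact hL h'
    · exact hne h'

theorem map_subtype_le_map_subtype_iff {H : Type*} [Group H] (G : Subgroup H) (L M : Subgroup G) :
    L.map G.subtype ≤ M.map G.subtype ↔ L ≤ M :=
  Subgroup.map_le_map_iff_of_injective G.subtype_injective

end Cfsg.Agent.Lib.Helper17
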