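import Mathlib
import Cfsg.Prelude.Def_Characters
import Cfsg.Agent.Lib.Helper83.Central
import Cfsg.Agent.Lib.Helper83.Decompose
import Cfsg.Agent.Lib.Helper83.SecondOrth
import Cfsg.Agent.Lib.Helper83.Linear
import Cfsg.Agent.Lib.Helper05.CharOrtho
import Cfsg.Agent.Lib.Helper05.CharBasic
import Cfsg.Agent.Lib.Helper84.Schur

set_option autoImplicit false

namespace Cfsg.Agent.Lib.Helper17

open Cfsg Cfsg.Agent.Lib.Helper83
open scoped ComplexConjugate

section Commutant

variable {G : Type*} [Group G] [Fintype G] {V : Type*} [AddCommGroup V] [Module ℂ V]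
  (ρ : Representation ℂ G V)

omit [Fintype G] in
theorem mem_invariants_linHom_iff (S : V →ₗ[ℂ] V) :
    S ∈ (ρ.linHom ρ).invariants ↔ ∀ g : G, ρ g * S = S * ρ g := by
  rw [Representation.mem_invariants]
  constructor
  · intro h g
    have h1 := h g
    rw [Representation.linHom_apply] at h1
    have h2 : ρ g * S * ρ g⁻¹ = S := h1
    calc ρ g * S = ρ g * S * (ρ g⁻¹ * ρ g) := by
          rw [← map_mul, inv_mul_cancel, map_one, mul_one]
      _ = (ρ g * S * ρ g⁻¹) * ρ g := by simp only [mul_assoc]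
      _ = S * ρ g := by rw [h2]
  · intro h g
    rw [Representation.linHom_apply]
    change ρ g * (S * ρ g⁻¹) = S
    rw [← mul_assoc, h g, mul_assoc, ← map_mul, mul_inv_cancel, map_one, mul_one]

/-- The operator of the central idempotent attached to `χ`. -/
noncomputable def eOp (χ : G → ℂ) : Module.End ℂ V :=
  (χ 1 / (Nat.card G : ℂ)) • ∑ g : G, conj (χ g) • ρ g

theorem rho_mul_eOp {χ : G → ℂ} (hχ : IsClassFunction G χ) (h : G) :
    ρ h * eOp ρ χ = eOp ρ χ * ρ h := by
  unfold eOp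
  rw [mul_smul_comm, smul_mul_assoc, Finset.mul_sum, Finset.sum_mul]
  congr 1
  rw [← Equiv.sum_comp (MulAut.conj h⁻¹).toEquiv]
  apply Finset.sum_congr rfl
  intro g _
  simp only [MulEquiv.toEquiv_eq_coe, EquivLike.coe_coe, MulAut.conj_apply, inv_inv]
  rw [mul_smul_comm, smul_mul_assoc, ← map_mul, ← map_mul]
  have h1 : χ (h⁻¹ * g * h) = χ g := by
    have := hχ g h⁻¹
    rwa [inv_inv] at this
  rw [h1]
  congr 2
  group

theorem comm_eOp (χ : G → ℂ) (S : Module.End ℂ V) (hS : ∀ g : G, ρ g * S = S * ρ g) :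
    S * eOp ρ χ = eOp ρ χ * S := by
  unfold eOp
  rw [mul_smul_comm, smul_mul_assoc, Finset.mul_sum, Finset.sum_mul]
  congr 1
  apply Finset.sum_congr rfl
  intro g _
  rw [mul_smul_comm, smul_mul_assoc, hS g]

theorem trace_eOp [FiniteDimensional ℂ V] (χ : G → ℂ) :
    LinearMap.trace ℂ V (eOp ρ χ) = χ 1 * classInner ρ.character χ := by
  unfold eOp classInner
  rw [map_smul, map_sum, smul_eq_mul, div_eq_mul_inv, mul_assoc]
  congr 2
  apply Finset.sum_congr rfl
  intro g _
  rw [map_smul, smul_eq_mul, mul_comm]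
  rfl

omit [Fintype G] in
theorem isClassFunction_conj_char [Finite G] {χ : G → ℂ} (hχ : IsCharacter G χ) :
    IsClassFunction G (fun g => conj (χ g)) := by
  intro g h
  simp only
  rw [char_isClassFunction hχ g h]

open Classical in
/-- Convolution orthogonality of irreducible characters. -/
theorem sum_conj_mul_irr (χ ψ : IrrCharacter G) (k : G) :
    ∑ g : G, conj ((χ : G → ℂ) g) * conj ((ψ : G → ℂ) (g⁻¹ * k)) =
      if χ = ψ then (Nat.card G : ℂ) / ((ψ : G → ℂ) 1) * conj ((ψ : G → ℂ) k) else 0 := by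
  have hχ := IrrCharacter_isCharacter χ
  have hψ := IrrCharacter_isCharacter ψ
  have h1 : ∑ g : G, (χ : G → ℂ) g * (ψ : G → ℂ) (g⁻¹ * k) =
      (ψ : G → ℂ) k * (∑ x : G, conj ((χ : G → ℂ) x) * (ψ : G → ℂ) x) / (ψ : G → ℂ) 1 := by
    rw [← irr_sum_classFunction_mul ψ (isClassFunction_conj_char hχ) k,
      ← Equiv.sum_comp (Equiv.inv G)]
    apply Finset.sum_congr rfl
    intro g _
    simp only [Equiv.inv_apply, inv_inv]
    rw [char_inv hχ, char_mul_comm hψ]
  have h2 : ∑ x : G, conj ((χ : G → ℂ) x) * (ψ : G → ℂ) x =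
      (Nat.card G : ℂ) * classInner (ψ : G → ℂ) (χ : G → ℂ) := by
    rw [classInner_def, ← mul_assoc, mul_inv_cancel₀ card_ne_zero_complex, one_mul]
    apply Finset.sum_congr rfl
    intro x _
    rw [mul_comm]
  have h3 : ∑ g : G, conj ((χ : G → ℂ) g) * conj ((ψ : G → ℂ) (g⁻¹ * k)) =
      conj (∑ g : G, (χ : G → ℂ) g * (ψ : G → ℂ) (g⁻¹ * k)) := by
    rw [map_sum]
    apply Finset.sum_congr rfl
    intro g _
    rw [map_mul]
  rw [h3, h1, h2, irr_orthonormal]
  by_cases h : χ = ψ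
  · rw [if_pos h, if_pos h.symm, map_div₀, map_mul, map_mul, Complex.conj_natCast, map_one,
      char_one_conj hψ]
    ring
  · rw [if_neg h, if_neg (Ne.symm h)]
    simp

open Classical in
theorem eOp_mul_eOp (χ ψ : IrrCharacter G) :
    eOp ρ (χ : G → ℂ) * eOp ρ (ψ : G → ℂ) = if χ = ψ then eOp ρ (χ : G → ℂ) else 0 := by
  have hexp : eOp ρ (χ : G → ℂ) * eOp ρ (ψ : G → ℂ) =
      (((χ : G → ℂ) 1 / (Nat.card G : ℂ)) * ((ψ : G → ℂ) 1 / (Nat.card G : ℂ))) •
        ∑ k : G, (∑ g : G, conj ((χ : G → ℂ) g) * conj ((ψ : G → ℂ) (g⁻¹ * k))) • ρ k := by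
    unfold eOp
    rw [smul_mul_smul_comm]
    congr 1
    rw [Finset.sum_mul_sum]
    have h1 : ∀ g : G, ∑ h : G, (conj ((χ : G → ℂ) g) • ρ g) * (conj ((ψ : G → ℂ) h) • ρ h) =
        ∑ k : G, (conj ((χ : G → ℂ) g) * conj ((ψ : G → ℂ) (g⁻¹ * k))) • ρ k := by
      intro g
      rw [← Equiv.sum_comp (Equiv.mulLeft g)
        (fun k => (conj ((χ : G → ℂ) g) * conj ((ψ : G → ℂ) (g⁻¹ * k))) • ρ k)]
      apply Finset.sum_congr rfl
      intro h _
      simp only [Equiv.coe_mulLeft]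
      rw [inv_mul_cancel_left, map_mul ρ g h, smul_mul_smul_comm]
    simp only [h1]
    rw [Finset.sum_comm]
    apply Finset.sum_congr rfl
    intro k _
    rw [Finset.sum_smul]
  rw [hexp]
  simp only [sum_conj_mul_irr]
  by_cases h : χ = ψ
  · simp only [if_pos h]
    subst h
    unfold eOp
    rw [Finset.smul_sum, Finset.smul_sum]
    apply Finset.sum_congr rfl
    intro k _
    rw [smul_smul, smul_smul]
    congr 1
    have h1 := irr_degree_ne_zero χ
    have h2 := card_ne_zero_complex (G := G)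
    field_simp
  · simp only [if_neg h, zero_smul, Finset.sum_const_zero, smul_zero]

theorem eOp_ne_zero [FiniteDimensional ℂ V] (χ : IrrCharacter G)
    (h1 : classInner ρ.character (χ : G → ℂ) = 1) : eOp ρ (χ : G → ℂ) ≠ 0 := by
  intro h
  have := trace_eOp ρ (χ : G → ℂ)
  rw [h, map_zero, h1, mul_one] at this
  exact irr_degree_ne_zero χ this.symm

/-- The multiplicity-free case: the commutant is commutative. -/
theorem commutative_of_multFree [FiniteDimensional ℂ V]
    (hmf : ∀ χ : G → ℂ, IsIrrCharacter G χ →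
      classInner ρ.character χ = 0 ∨ classInner ρ.character χ = 1)
    (S T : Module.End ℂ V) (hS : ∀ g : G, ρ g * S = S * ρ g) (hT : ∀ g : G, ρ g * T = T * ρ g) :
    S * T = T * S := by
  classical
  have : Fintype (IrrCharacter G) := Fintype.ofFinite _
  let v : {χ : IrrCharacter G // classInner ρ.character (χ : G → ℂ) = 1} →
      (ρ.linHom ρ).invariants := fun i =>
    ⟨eOp ρ (i.1 : G → ℂ), (mem_invariants_linHom_iff ρ _).mpr
      (fun g => rho_mul_eOp ρ (char_isClassFunction (IrrCharacter_isCharacter i.1)) g)⟩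
  have hli : LinearIndependent ℂ v := by
    apply LinearIndependent.of_comp ((ρ.linHom ρ).invariants.subtype)
    rw [linearIndependent_iff']
    intro s c hsum j hj
    have h1 := congrArg (fun X => eOp ρ (j.1 : G → ℂ) * X) hsum
    simp only [Function.comp_apply, Submodule.subtype_apply, mul_zero, Finset.mul_sum,
      mul_smul_comm] at h1
    have h2 : ∀ i ∈ s, c i • (eOp ρ (j.1 : G → ℂ) * (v i : Module.End ℂ V)) =
        if j = i then c j • eOp ρ (j.1 : G → ℂ) else 0 := by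
      intro i _
      change c i • (eOp ρ (j.1 : G → ℂ) * eOp ρ (i.1 : G → ℂ)) = _
      rw [eOp_mul_eOp]
      by_cases h : j = i
      · subst h
        rw [if_pos rfl, if_pos rfl]
      · rw [if_neg h, if_neg (fun h' => h (Subtype.ext h')), smul_zero]
    rw [Finset.sum_congr rfl h2, Finset.sum_ite_eq s j, if_pos hj] at h1
    rcases smul_eq_zero.mp h1 with h3 | h3
    · exact h3
    · exact absurd h3 (eOp_ne_zero ρ j.1 j.2)
  have hπ := Cfsg.Agent.Lib.Helper05.isCharacter_of_rep ρ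
  have hcard : Fintype.card {χ : IrrCharacter G // classInner ρ.character (χ : G → ℂ) = 1} =
      Module.finrank ℂ (ρ.linHom ρ).invariants := by
    have h1 : (Module.finrank ℂ (ρ.linHom ρ).invariants : ℂ) =
        classInner ρ.character ρ.character := by
      rw [(Representation.invariantsEquivIntertwiningMap ρ ρ).finrank_eq,
        Cfsg.Agent.Lib.Helper05.classInner_char_eq_finrank ρ ρ]
    have hdec := char_eq_sum_irrMult hπ
    have h2 : classInner ρ.character ρ.character =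
        ∑ ψ : IrrCharacter G, (irrMult ρ.character ψ : ℂ) * conj (irrMult ρ.character ψ : ℂ) := by
      conv_lhs => rw [hdec]
      exact classInner_sum_irr_self _
    have h3 : ∀ ψ : IrrCharacter G,
        (irrMult ρ.character ψ : ℂ) * conj (irrMult ρ.character ψ : ℂ) =
        if classInner ρ.character (ψ : G → ℂ) = 1 then 1 else 0 := by
      intro ψ
      rw [irrMult_cast hπ ψ]
      rcases hmf ψ.1 ψ.2 with h | h
      · rw [h, if_neg zero_ne_one, zero_mul]
      · rw [h, if_pos rfl, map_one, mul_one]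
    rw [h2, Finset.sum_congr rfl (fun ψ _ => h3 ψ), Finset.sum_boole] at h1
    rw [Fintype.card_subtype]
    exact_mod_cast h1.symm
  have hspan := hli.span_eq_top_of_card_eq_finrank' hcard
  have hTmem : (⟨T, (mem_invariants_linHom_iff ρ T).mpr hT⟩ : (ρ.linHom ρ).invariants) ∈
      Submodule.span ℂ (Set.range v) := by
    rw [hspan]
    exact Submodule.mem_top
  have key : ∀ X : (ρ.linHom ρ).invariants, X ∈ Submodule.span ℂ (Set.range v) →
      S * (X : Module.End ℂ V) = (X : Module.End ℂ V) * S := by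
    intro X hX
    induction hX using Submodule.span_induction with
    | mem x hx =>
      obtain ⟨i, rfl⟩ := hx
      exact comm_eOp ρ _ S hS
    | zero => simp
    | add x y _ _ hx hy =>
      rw [Submodule.coe_add, mul_add, add_mul, hx, hy]
    | smul a x _ hx =>
      rw [Submodule.coe_smul, mul_smul_comm, smul_mul_assoc, hx]
  exact key _ hTmem

/-- If an irreducible representation occurs at least twice in `ρ`, the commutant of `ρ` is not
commutative. -/
theorem exists_noncomm [FiniteDimensional ℂ V] {W : Type*} [AddCommGroup W] [Module ℂ W]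
    [FiniteDimensional ℂ W] (σ : Representation ℂ G W) [σ.IsIrreducible]
    (h2 : 2 ≤ Module.finrank ℂ (Representation.IntertwiningMap σ ρ)) :
    ∃ S T : Module.End ℂ V, (∀ g : G, ρ g * S = S * ρ g) ∧ (∀ g : G, ρ g * T = T * ρ g) ∧
      S * T ≠ T * S := by
  have hpos : 0 < Module.finrank ℂ (Representation.IntertwiningMap σ ρ) := by omega
  have h1lt : 1 < Module.finrank ℂ (Representation.IntertwiningMap σ ρ) := by omega
  have : Module.Finite ℂ (Representation.IntertwiningMap σ ρ) :=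
    Module.finite_of_finrank_pos hpos
  obtain ⟨φ₁, hφ₁⟩ : ∃ φ₁ : Representation.IntertwiningMap σ ρ, φ₁ ≠ 0 :=
    Module.finrank_pos_iff_exists_ne_zero.mp hpos
  obtain ⟨φ₂, hLI⟩ := exists_linearIndependent_pair_of_one_lt_finrank h1lt hφ₁
  rw [LinearIndependent.pair_iff' hφ₁] at hLI
  -- injectivity of φ₁
  have hirr := (Cfsg.Agent.Lib.Helper05.isIrreducible_iff σ).mp inferInstance
  have hker : LinearMap.ker φ₁.toLinearMap = ⊥ := by
    rcases hirr.2 (LinearMap.ker φ₁.toLinearMap) (by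
      intro g w hw
      rw [LinearMap.mem_ker] at hw ⊢
      have := LinearMap.congr_fun (φ₁.isIntertwining' g) w
      rw [LinearMap.comp_apply, LinearMap.comp_apply, hw, map_zero] at this
      exact this) with h | h
    · exact h
    · exfalso
      apply hφ₁
      apply Representation.IntertwiningMap.ext
      rw [Representation.IntertwiningMap.zero_toLinearMap]
      exact LinearMap.ker_eq_top.mp h
  obtain ⟨p₀, hp₀⟩ := LinearMap.exists_leftInverse_of_injective φ₁.toLinearMap hker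
  set f₁ : W →ₗ[ℂ] V := φ₁.toLinearMap with hf₁
  set f₂ : W →ₗ[ℂ] V := φ₂.toLinearMap with hf₂
  have hint₁ : ∀ g : G, f₁ ∘ₗ σ g = ρ g ∘ₗ f₁ := fun g => φ₁.isIntertwining' g
  have hint₂ : ∀ g : G, f₂ ∘ₗ σ g = ρ g ∘ₗ f₂ := fun g => φ₂.isIntertwining' g
  set p : V →ₗ[ℂ] W := ((Nat.card G : ℂ)⁻¹) • ∑ g : G, σ g ∘ₗ p₀ ∘ₗ ρ g⁻¹ with hp
  have hGne : (Nat.card G : ℂ) ≠ 0 := card_ne_zero_complex
  have hp_apply : ∀ v : V, p v = ((Nat.card G : ℂ)⁻¹) • ∑ g : G, σ g (p₀ (ρ g⁻¹ v)) := by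
    intro v
    rw [hp, LinearMap.smul_apply, LinearMap.sum_apply]
    rfl
  have hp_equiv : ∀ h : G, p ∘ₗ ρ h = σ h ∘ₗ p := by
    intro h
    ext v
    rw [LinearMap.comp_apply, LinearMap.comp_apply, hp_apply, hp_apply, map_smul, map_sum]
    congr 1
    rw [← Equiv.sum_comp (Equiv.mulLeft h)
      (fun g => σ g (p₀ (ρ g⁻¹ (ρ h v))))]
    apply Finset.sum_congr rfl
    intro g _
    simp only [Equiv.coe_mulLeft, mul_inv_rev, map_mul, Module.End.mul_apply]
    rw [← Module.End.mul_apply (ρ h⁻¹) (ρ h), ← map_mul, inv_mul_cancel, map_one,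
      Module.End.one_apply]
  have hp_left : p ∘ₗ f₁ = LinearMap.id := by
    ext w
    rw [LinearMap.comp_apply, hp_apply, LinearMap.id_apply]
    have h1 : ∀ g : G, σ g (p₀ (ρ g⁻¹ (f₁ w))) = w := by
      intro g
      have e1 : ρ g⁻¹ (f₁ w) = f₁ (σ g⁻¹ w) := (LinearMap.congr_fun (hint₁ g⁻¹) w).symm
      have e2 : p₀ (f₁ (σ g⁻¹ w)) = σ g⁻¹ w := LinearMap.congr_fun hp₀ (σ g⁻¹ w)
      rw [e1, e2, ← Module.End.mul_apply, ← map_mul, mul_inv_cancel, map_one,
        Module.End.one_apply]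
    rw [Finset.sum_congr rfl (fun g _ => h1 g), Finset.sum_const, Finset.card_univ,
      ← Nat.card_eq_fintype_card, ← Nat.cast_smul_eq_nsmul ℂ, smul_smul, inv_mul_cancel₀ hGne,
      one_smul]
  -- Schur
  have hschur := Cfsg.Agent.Lib.Helper84.schur_scalar σ (p ∘ₗ f₂) (by
    intro g
    rw [LinearMap.comp_assoc, hint₂ g, ← LinearMap.comp_assoc, hp_equiv g, LinearMap.comp_assoc])
  set c : ℂ := LinearMap.trace ℂ W (p ∘ₗ f₂) / (Module.finrank ℂ W : ℂ) with hc
  refine ⟨f₁ ∘ₗ p, f₂ ∘ₗ p, ?_, ?_, ?_⟩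
  · intro g
    change ρ g ∘ₗ (f₁ ∘ₗ p) = (f₁ ∘ₗ p) ∘ₗ ρ g
    rw [← LinearMap.comp_assoc, ← hint₁ g, LinearMap.comp_assoc, ← hp_equiv g,
      LinearMap.comp_assoc]
  · intro g
    change ρ g ∘ₗ (f₂ ∘ₗ p) = (f₂ ∘ₗ p) ∘ₗ ρ g
    rw [← LinearMap.comp_assoc, ← hint₂ g, LinearMap.comp_assoc, ← hp_equiv g,
      LinearMap.comp_assoc]
  · intro hcomm
    have h1 : (f₁ ∘ₗ p) ∘ₗ (f₂ ∘ₗ p) = (f₂ ∘ₗ p) ∘ₗ (f₁ ∘ₗ p) := hcomm
    have h2 : (f₁ ∘ₗ p) ∘ₗ (f₂ ∘ₗ p) = c • (f₁ ∘ₗ p) := by
      rw [LinearMap.comp_assoc, ← LinearMap.comp_assoc p f₂ p, hschur, LinearMap.smul_comp,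
        LinearMap.id_comp, LinearMap.comp_smul]
    have h3 : (f₂ ∘ₗ p) ∘ₗ (f₁ ∘ₗ p) = f₂ ∘ₗ p := by
      rw [LinearMap.comp_assoc, ← LinearMap.comp_assoc p f₁ p, hp_left, LinearMap.id_comp]
    rw [h2, h3] at h1
    have h4 := congrArg (fun X => X ∘ₗ f₁) h1
    simp only [LinearMap.smul_comp, LinearMap.comp_assoc, hp_left, LinearMap.comp_id] at h4
    apply hLI c
    apply Representation.IntertwiningMap.ext
    rw [Representation.IntertwiningMap.toLinearMap_smul]
    exact h4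

end Commutant

end Cfsg.Agent.Lib.Helper17
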