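import Mathlib

/-!
# Cyclotomic AM-GM lemma (keystone K82-A, for helper82)

An integer combination of `q`-th roots of unity all of whose Galois conjugates are non-zero has
conjugates of mean square at least `1`.
-/

set_option autoImplicit false
set_option linter.style.haveILetI false

namespace Cfsg.Agent.Lib.Helper17.CycAMGM

open Polynomial

/-- The product of the Galois conjugates of an integer combination of `q`-th roots of unity is a
rational integer. -/
theorem prod_conj_eq_int (q : ℕ) [NeZero q] {ι : Type*} [Fintype ι] (c : ι → ℤ)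
    (μ : ι → ℂ) (hμ : ∀ i, μ i ^ q = 1) :
    ∃ z : ℤ, ∏ j : (ZMod q)ˣ, ∑ i, (c i : ℂ) * μ i ^ (j : ZMod q).val = (z : ℂ) := by
  classical
  have hq : 0 < q := NeZero.pos q
  have hirr : Irreducible (cyclotomic q ℚ) := cyclotomic.irreducible_rat hq
  haveI : IsCyclotomicExtension {q} ℚ (CyclotomicField q ℚ) :=
    CyclotomicField.isCyclotomicExtension q ℚ
  have hζ : IsPrimitiveRoot (IsCyclotomicExtension.zeta q ℚ (CyclotomicField q ℚ)) q :=
    IsCyclotomicExtension.zeta_spec q ℚ (CyclotomicField q ℚ)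
  haveI : FiniteDimensional ℚ (CyclotomicField q ℚ) :=
    IsCyclotomicExtension.finiteDimensional {q} ℚ (CyclotomicField q ℚ)
  haveI : IsGalois ℚ (CyclotomicField q ℚ) :=
    IsCyclotomicExtension.isGalois {q} ℚ (CyclotomicField q ℚ)
  let φ : CyclotomicField q ℚ →+* ℂ :=
    (IsAlgClosed.lift (R := ℚ) (S := CyclotomicField q ℚ) (M := ℂ)).toRingHom
  have hφζ : IsPrimitiveRoot (φ (IsCyclotomicExtension.zeta q ℚ (CyclotomicField q ℚ))) q :=
    hζ.map_of_injective φ.injective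
  have ht : ∀ i, ∃ t : ℕ,
      (φ (IsCyclotomicExtension.zeta q ℚ (CyclotomicField q ℚ))) ^ t = μ i := fun i => by
    obtain ⟨t, -, h⟩ := hφζ.eq_pow_of_pow_eq_one (hμ i)
    exact ⟨t, h⟩
  choose t ht using ht
  let w : CyclotomicField q ℚ :=
    ∑ i, (c i : CyclotomicField q ℚ) * (IsCyclotomicExtension.zeta q ℚ (CyclotomicField q ℚ)) ^ t i
  have hwint : IsIntegral ℤ w := by
    apply IsIntegral.sum
    intro i _
    apply IsIntegral.mul
    · rw [← eq_intCast (algebraMap ℤ (CyclotomicField q ℚ)) (c i)]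
      exact isIntegral_algebraMap
    · exact (hζ.isIntegral hq).pow _
  obtain ⟨z, hz⟩ := IsIntegrallyClosed.isIntegral_iff.mp (Algebra.isIntegral_norm ℚ hwint)
  refine ⟨z, ?_⟩
  have hnorm := Algebra.norm_eq_prod_automorphisms ℚ w
  have h1 : φ (algebraMap ℚ (CyclotomicField q ℚ) (Algebra.norm ℚ w)) = (z : ℂ) := by
    rw [← hz]; simp
  rw [← h1, hnorm, map_prod]
  symm
  apply Fintype.prod_equiv (IsCyclotomicExtension.autEquivPow (CyclotomicField q ℚ) hirr).toEquiv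
  intro σ
  have hσ : σ (IsCyclotomicExtension.zeta q ℚ (CyclotomicField q ℚ)) =
      (IsCyclotomicExtension.zeta q ℚ (CyclotomicField q ℚ)) ^
        ((IsCyclotomicExtension.autEquivPow (CyclotomicField q ℚ) hirr σ : (ZMod q)ˣ) :
          ZMod q).val := by
    rw [IsCyclotomicExtension.autEquivPow_apply]
    exact (hζ.autToPow_spec ℚ σ).symm
  simp only [w, map_sum, map_mul, map_intCast, map_pow, hσ, MulEquiv.toEquiv_eq_coe,
    EquivLike.coe_coe]
  apply Finset.sum_congr rfl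
  intro i _
  rw [← ht i, ← pow_mul, ← pow_mul]
  ring

/-- **Cyclotomic AM-GM (Brauer–Feit / Cassels lemma).** -/
theorem card_units_le_sum_normSq_conj (q : ℕ) [NeZero q] {ι : Type*} [Fintype ι] (c : ι → ℤ)
    (μ : ι → ℂ) (hμ : ∀ i, μ i ^ q = 1)
    (hne : ∀ j : (ZMod q)ˣ, ∑ i, (c i : ℂ) * μ i ^ (j : ZMod q).val ≠ 0) :
    (Fintype.card (ZMod q)ˣ : ℝ) ≤
      ∑ j : (ZMod q)ˣ, Complex.normSq (∑ i, (c i : ℂ) * μ i ^ (j : ZMod q).val) := by
  classical
  obtain ⟨z, hz⟩ := prod_conj_eq_int q c μ hμ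
  have hz0 : z ≠ 0 := by
    rintro rfl
    rw [Int.cast_zero, Finset.prod_eq_zero_iff] at hz
    obtain ⟨j, -, hj⟩ := hz
    exact hne j hj
  have hprod : ∏ j : (ZMod q)ˣ, Complex.normSq (∑ i, (c i : ℂ) * μ i ^ (j : ZMod q).val) =
      ((z : ℝ)) ^ 2 := by
    rw [← map_prod, hz, Complex.normSq_intCast, sq]
  have hone : (1 : ℝ) ≤ ∏ j : (ZMod q)ˣ,
      Complex.normSq (∑ i, (c i : ℂ) * μ i ^ (j : ZMod q).val) := by
    rw [hprod]
    have h1 : (1 : ℤ) ≤ z ^ 2 := by
      have := sq_pos_of_ne_zero (a := z) hz0  -- 0 < z^2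
      omega
    exact_mod_cast h1
  have hN : 0 < Fintype.card (ZMod q)ˣ := Fintype.card_pos
  have hNr : (0 : ℝ) < (Fintype.card (ZMod q)ˣ : ℝ) := by exact_mod_cast hN
  have hamgm := Real.geom_mean_le_arith_mean_weighted (Finset.univ : Finset (ZMod q)ˣ)
    (fun _ => (Fintype.card (ZMod q)ˣ : ℝ)⁻¹)
    (fun j => Complex.normSq (∑ i, (c i : ℂ) * μ i ^ (j : ZMod q).val))
    (fun _ _ => (inv_pos.mpr hNr).le)
    (by rw [Finset.sum_const, Finset.card_univ, nsmul_eq_mul]; exact mul_inv_cancel₀ hNr.ne')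
    (fun j _ => Complex.normSq_nonneg _)
  rw [Real.finsetProd_rpow _ _ (fun j _ => Complex.normSq_nonneg _)] at hamgm
  have h2 : (1 : ℝ) ≤ (∏ j : (ZMod q)ˣ,
      Complex.normSq (∑ i, (c i : ℂ) * μ i ^ (j : ZMod q).val)) ^
        (Fintype.card (ZMod q)ˣ : ℝ)⁻¹ :=
    Real.one_le_rpow hone (inv_pos.mpr hNr).le
  have h3 := h2.trans hamgm
  rw [← Finset.mul_sum] at h3
  have h4 := mul_le_mul_of_nonneg_left h3 hNr.le
  rw [mul_one, ← mul_assoc, mul_inv_cancel₀ hNr.ne', one_mul] at h4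
  exact h4

end Cfsg.Agent.Lib.Helper17.CycAMGM
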