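import Mathlib
import Cfsg.Agent.Lib.Helper72.G42Defs
import Cfsg.Agent.Lib.Helper84.G42L4
import Cfsg.Agent.S0678

/-!
# K-G42 pack (S2553), leaf 255308 L7: `|Δ| = 7`
-/

set_option autoImplicit false

namespace Cfsg.Agent.Lib.Helper17.G42

open Cfsg.Agent.Lib.Helper72.G42 Equiv

/-- 255308 L7: `|Δ| = 7` => `K ≅ A_7` or `K` simple of order 168. -/
theorem case7 {K N : Subgroup (Equiv.Perm (Fin 8))} {Δ : Finset (Fin 8)} (h : Cfg K N Δ) (h7 : Δ.card = 7) :
    Nonempty (↥K ≃* ↥(alternatingGroup (Fin 7))) ∨ (IsSimpleGroup ↥K ∧ Nat.card ↥K = 168) := by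
  obtain ⟨hpres, hfaith⟩ := Cfsg.Agent.Lib.Helper84.G42.faithful_on h
  have hα : Fintype.card {x : Fin 8 // x ∈ Δ} = 7 := by
    rw [Fintype.card_coe]; exact h7
  -- `K` preserves `Δ` in both directions
  have hiff : ∀ k ∈ K, ∀ x, k x ∈ Δ ↔ x ∈ Δ := by
    intro k hk x
    constructor
    · intro hx
      have := hpres k⁻¹ (K.inv_mem hk) (k x) hx
      simpa using this
    · exact hpres k hk x
  -- points outside `Δ` are fixed by `K`
  have hcompl : (Δᶜ).card = 1 := by
    rw [Finset.card_compl, h7]; simp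
  have hfix : ∀ k ∈ K, ∀ x, k x ≠ x → x ∈ Δ := by
    intro k hk x hkx
    by_contra hx
    have hx' : x ∈ Δᶜ := Finset.mem_compl.mpr hx
    have hkx' : k x ∈ Δᶜ := Finset.mem_compl.mpr (fun hc => hx ((hiff k hk x).mp hc))
    exact hkx (Finset.card_le_one.mp (le_of_eq hcompl) _ hkx' _ hx')
  -- the restriction homomorphism
  let ψ : ↥K →* Equiv.Perm {x : Fin 8 // x ∈ Δ} :=
    { toFun := fun k => Equiv.Perm.subtypePerm (k : Equiv.Perm (Fin 8)) (fun x => hiff k k.2 x)
      map_one' := by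
        apply Equiv.ext; intro x; apply Subtype.ext; rfl
      map_mul' := by
        intro a b
        apply Equiv.ext; intro x; apply Subtype.ext; rfl }
  have hψapp : ∀ (k : ↥K) (x : {x : Fin 8 // x ∈ Δ}), ((ψ k) x : Fin 8) = (k : Equiv.Perm (Fin 8)) x := by
    intro k x; rfl
  have hψinj : Function.Injective ψ := by
    rw [injective_iff_map_eq_one]
    intro k hk
    have : (k : Equiv.Perm (Fin 8)) = 1 := by
      apply hfaith k k.2
      intro x hx
      have := hψapp k ⟨x, hx⟩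
      rw [hk] at this
      simpa using this.symm
    exact Subtype.ext this
  let e : ↥K ≃* ↥ψ.range := MonoidHom.ofInjective hψinj
  -- transitivity
  have htr : MulAction.IsPretransitive ↥ψ.range {x : Fin 8 // x ∈ Δ} := by
    refine ⟨fun x y => ?_⟩
    obtain ⟨n, hn, hnx⟩ := h.htrans x x.2 y y.2
    refine ⟨⟨ψ ⟨n, h.hNK hn⟩, ⟨_, rfl⟩⟩, ?_⟩
    apply Subtype.ext
    change ((ψ ⟨n, h.hNK hn⟩) x : Fin 8) = y
    rw [hψapp]; exact hnx
  -- not solvable
  have hKns : ¬ Group.IsSolvable ↥K := by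
    intro hs
    have hK : K = ⊥ := h.hsolv K le_rfl (fun k hk m hm => K.mul_mem (K.mul_mem hk hm) (K.inv_mem hk)) hs
    apply h.hN1
    rw [eq_bot_iff, ← hK]; exact h.hNK
  have hGns : ¬ Group.IsSolvable ↥ψ.range := by
    intro hs
    exact hKns (Group.isSolvable_of_isSolvable_injective (f := e.toMonoidHom) e.injective)
  by_cases hA : alternatingGroup {x : Fin 8 // x ∈ Δ} ≤ ψ.range
  · left
    have hle : ψ.range ≤ alternatingGroup {x : Fin 8 // x ∈ Δ} := by
      rintro _ ⟨k, rfl⟩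
      rw [Equiv.Perm.mem_alternatingGroup]
      have hsg := Equiv.Perm.sign_subtypePerm (k : Equiv.Perm (Fin 8)) (p := fun x => x ∈ Δ)
        (fun x => hiff k k.2 x) (hfix k k.2)
      have h1 : Equiv.Perm.sign (k : Equiv.Perm (Fin 8)) = 1 :=
        Equiv.Perm.mem_alternatingGroup.mp (h.hKA k.2)
      rw [h1] at hsg
      convert hsg
      rfl
    have heq : ψ.range = alternatingGroup {x : Fin 8 // x ∈ Δ} := le_antisymm hle hA
    exact ⟨(e.trans (MulEquiv.subgroupCongr heq)).trans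
      (Equiv.altCongrHom (Fintype.equivFinOfCardEq hα))⟩
  · right
    obtain ⟨hc, hs⟩ := Cfsg.Agent.S0678.result hα ψ.range hGns hA
    refine ⟨?_, ?_⟩
    · have := hs
      exact e.isSimpleGroup
    · rw [Nat.card_congr e.toEquiv]; exact hc

end Cfsg.Agent.Lib.Helper17.G42
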