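import Mathlib

set_option autoImplicit false

namespace Cfsg.Agent.Lib.Helper17

open MulAction SubMulAction

/-- Generous transitivity in "supported permutation" form: every permutation of `α` supported
on a `(k+1)`-set `s` is induced on `s` by a group element. -/
def GenProp (G α : Type*) [Group G] [MulAction G α] (k : ℕ) : Prop :=
  ∀ s : Finset α, s.card = k + 1 → ∀ σ : Equiv.Perm α, (∀ x, x ∉ s → σ x = x) →
    ∃ g : G, ∀ x ∈ s, g • x = σ x

theorem genProp_stabilizer {G α : Type*} [Group G] [MulAction G α] (k : ℕ)
    (h : GenProp G α (k + 1)) (a : α) : GenProp (stabilizer G a) (ofStabilizer G a) k := by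
  classical
  intro t ht σ hσ
  let s : Finset α := insert a (t.map ⟨Subtype.val, Subtype.val_injective⟩)
  have ha : a ∉ t.map ⟨Subtype.val, Subtype.val_injective⟩ := by
    intro hmem
    rw [Finset.mem_map] at hmem
    obtain ⟨x, _, hx⟩ := hmem
    exact (mem_ofStabilizer_iff G a).mp x.2 hx
  have hs : s.card = k + 1 + 1 := by
    rw [Finset.card_insert_of_notMem ha, Finset.card_map, ht]
  let σ' : Equiv.Perm α := Equiv.Perm.ofSubtype σ
  have hσ' : ∀ x, x ∉ s → σ' x = x := by
    intro x hx
    by_cases hxa : x ∈ ofStabilizer G a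
    · have hxt : (⟨x, hxa⟩ : ofStabilizer G a) ∉ t := by
        intro hmem
        apply hx
        apply Finset.mem_insert_of_mem
        rw [Finset.mem_map]
        exact ⟨⟨x, hxa⟩, hmem, rfl⟩
      have := hσ _ hxt
      change Equiv.Perm.ofSubtype σ x = x
      rw [Equiv.Perm.ofSubtype_apply_of_mem σ hxa, this]
    · exact Equiv.Perm.ofSubtype_apply_of_not_mem σ hxa
  obtain ⟨g, hg⟩ := h s hs σ' hσ'
  have hga : g • a = a := by
    rw [hg a (Finset.mem_insert_self _ _)]
    apply Equiv.Perm.ofSubtype_apply_of_not_mem σ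
    intro hmem
    exact (mem_ofStabilizer_iff G a).mp hmem rfl
  refine ⟨⟨g, hga⟩, ?_⟩
  intro x hx
  apply Subtype.ext
  have hxs : (x : α) ∈ s := by
    apply Finset.mem_insert_of_mem
    rw [Finset.mem_map]
    exact ⟨x, hx, rfl⟩
  have := hg x hxs
  change g • (x : α) = (σ x : α)
  rw [this]
  exact Equiv.Perm.ofSubtype_apply_coe σ x

theorem isPretransitive_of_genProp {G α : Type*} [Group G] [MulAction G α] [Finite α] (k : ℕ)
    (hk : k + 1 < Nat.card α) (h : GenProp G α (k + 1)) : IsPretransitive G α := by
  classical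
  have := Fintype.ofFinite α
  refine ⟨fun a b => ?_⟩
  by_cases hab : a = b
  · exact ⟨1, by rw [one_smul, hab]⟩
  · have hcard : ({a, b} : Finset α).card = 2 := Finset.card_pair hab
    have hle : ({a, b} : Finset α).card ≤ k + 1 + 1 := by omega
    have hle2 : k + 1 + 1 ≤ Fintype.card α := by
      rw [← Nat.card_eq_fintype_card]; omega
    obtain ⟨s, hsub, hs⟩ := Finset.exists_superset_card_eq hle hle2
    have hσ : ∀ x, x ∉ s → Equiv.swap a b x = x := by
      intro x hx
      apply Equiv.swap_apply_of_ne_of_ne
      · rintro rfl; exact hx (hsub (by simp))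
      · rintro rfl; exact hx (hsub (by simp))
    obtain ⟨g, hg⟩ := h s hs (Equiv.swap a b) hσ
    refine ⟨g, ?_⟩
    rw [hg a (hsub (by simp)), Equiv.swap_apply_left]

theorem isMultiplyPretransitive_of_genProp {G α : Type*} [Group G] [MulAction G α] [Finite α]
    (k : ℕ) (hk : k < Nat.card α) (h : GenProp G α k) : IsMultiplyPretransitive G α k := by
  induction k generalizing G α with
  | zero => exact is_zero_pretransitive'
  | succ k ih =>
    have hT : IsPretransitive G α := isPretransitive_of_genProp k hk h
    have hne : Nonempty α := by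
      rw [← Finite.card_pos_iff]; omega
    obtain ⟨a⟩ := hne
    rw [ofStabilizer.isMultiplyPretransitive (G := G) (a := a)]
    apply ih
    · have := nat_card_ofStabilizer_add_one_eq (G := G) a
      omega
    · exact genProp_stabilizer k h a

end Cfsg.Agent.Lib.Helper17
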