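import Mathlib
import Cfsg.Prelude.Def_Characters

set_option autoImplicit false

namespace Cfsg.Agent.Lib.Helper17

open MulAction Polynomial

section LinAlg

variable {V : Type*} [AddCommGroup V] [Module ℂ V] [FiniteDimensional ℂ V]

/-- The trace of an endomorphism (of a finite-dimensional complex space) which is integral over
`ℤ` is an algebraic integer. -/
theorem isIntegral_trace_of_isIntegral (f : Module.End ℂ V) (hf : IsIntegral ℤ f) :
    IsIntegral ℤ (LinearMap.trace ℂ V f) := by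
  obtain ⟨p, hp_monic, hp⟩ := hf
  rw [Module.End.trace_eq_sum_roots_charpoly_of_splits (IsAlgClosed.splits _)]
  apply IsIntegral.multiset_sum
  intro μ hμ
  have hroot : f.charpoly.IsRoot μ := (Polynomial.mem_roots'.mp hμ).2
  have hev : f.HasEigenvalue μ := (Module.End.hasEigenvalue_iff_isRoot_charpoly f μ).mpr hroot
  obtain ⟨v, hv⟩ := hev.exists_hasEigenvector
  have h1 : aeval f (p.map (algebraMap ℤ ℂ)) v = (p.map (algebraMap ℤ ℂ)).eval μ • v :=
    Module.End.aeval_apply_of_hasEigenvector hv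
  have h2 : aeval f (p.map (algebraMap ℤ ℂ)) = 0 := by
    rw [aeval_map_algebraMap]
    exact hp
  rw [h2, LinearMap.zero_apply] at h1
  have h3 : (p.map (algebraMap ℤ ℂ)).eval μ = 0 := by
    rcases smul_eq_zero.mp h1.symm with h | h
    · exact h
    · exact absurd h hv.2
  refine ⟨p, hp_monic, ?_⟩
  rw [← h3, eval_map]

end LinAlg

section Hecke

variable {G : Type*} [Group G] [Fintype G] {Ω : Type*} [Fintype Ω] [DecidableEq Ω]
  [MulAction G Ω] {V : Type*} [AddCommGroup V] [Module ℂ V] (ρ : Representation ℂ G V) (a : Ω)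

/-- `E y = |H|⁻¹ ∑_{g a = y} ρ g`, `H` the stabiliser of `a`. -/
noncomputable def heckeE (y : Ω) : Module.End ℂ V :=
  ((Nat.card (stabilizer G a) : ℂ)⁻¹) • ∑ g ∈ Finset.univ.filter (fun g : G => g • a = y), ρ g

omit [Fintype Ω] in
theorem rho_mul_heckeE (g : G) (y : Ω) : ρ g * heckeE ρ a y = heckeE ρ a (g • y) := by
  unfold heckeE
  rw [mul_smul_comm, Finset.mul_sum]
  congr 1
  apply Finset.sum_bij (fun g' _ => g * g')
  · intro g' hg'
    simp only [Finset.mem_filter, Finset.mem_univ, true_and] at hg' ⊢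
    rw [mul_smul, hg']
  · intro g₁ _ g₂ _ h
    exact mul_left_cancel h
  · intro g'' hg''
    simp only [Finset.mem_filter, Finset.mem_univ, true_and] at hg''
    refine ⟨g⁻¹ * g'', ?_, by group⟩
    simp only [Finset.mem_filter, Finset.mem_univ, true_and]
    rw [mul_smul, hg'', inv_smul_smul]
  · intro g' _
    rw [map_mul]

omit [Fintype Ω] in
theorem card_fiber [IsPretransitive G Ω] (y : Ω) :
    (Finset.univ.filter (fun g : G => g • a = y)).card = Nat.card (stabilizer G a) := by
  obtain ⟨g₀, hg₀⟩ := exists_smul_eq G a y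
  rw [Nat.card_eq_fintype_card, ← Finset.card_univ]
  symm
  apply Finset.card_bij (fun (h : stabilizer G a) _ => g₀ * (h : G))
  · intro h _
    simp only [Finset.mem_filter, Finset.mem_univ, true_and]
    rw [mul_smul, h.2, hg₀]
  · intro h₁ _ h₂ _ heq
    exact Subtype.ext (mul_left_cancel heq)
  · intro g hg
    simp only [Finset.mem_filter, Finset.mem_univ, true_and] at hg
    refine ⟨⟨g₀⁻¹ * g, ?_⟩, Finset.mem_univ _, by group⟩
    rw [mem_stabilizer_iff, mul_smul, hg, ← hg₀, inv_smul_smul]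

omit [Fintype Ω] [DecidableEq Ω] in
theorem card_stabilizer_ne_zero : (Nat.card (stabilizer G a) : ℂ) ≠ 0 := by
  rw [Nat.cast_ne_zero]
  exact Nat.card_pos.ne'

/-- Key identity: right multiplication by `T = ∑ A a w • E w` acts on the family `E x` through
the `G`-invariant integer matrix `A`. -/
theorem heckeE_mul_sum [IsPretransitive G Ω] (A : Matrix Ω Ω ℤ)
    (hA : ∀ (g : G) (y w : Ω), A (g • y) (g • w) = A y w) (x : Ω) :
    heckeE ρ a x * (∑ w, A a w • heckeE ρ a w) = ∑ w, A x w • heckeE ρ a w := by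
  have h1 : ∀ g : G, g • a = x →
      ρ g * (∑ w, A a w • heckeE ρ a w) = ∑ w, A x w • heckeE ρ a w := by
    intro g hg
    rw [Finset.mul_sum]
    have h2 : ∀ w, ρ g * (A a w • heckeE ρ a w) = A x (g • w) • heckeE ρ a (g • w) := by
      intro w
      rw [mul_smul_comm, rho_mul_heckeE, ← hg, hA]
    simp only [h2]
    exact Fintype.sum_equiv (MulAction.toPerm g) _ _ (fun w => rfl)
  conv_lhs => rw [heckeE]
  rw [smul_mul_assoc, Finset.sum_mul]
  rw [Finset.sum_congr rfl (fun g hg => h1 g (Finset.mem_filter.mp hg).2)]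
  rw [Finset.sum_const, card_fiber a x, ← Nat.cast_smul_eq_nsmul ℂ, smul_smul,
    inv_mul_cancel₀ (card_stabilizer_ne_zero a), one_smul]

/-- Polynomial version. -/
theorem heckeE_mul_aeval [IsPretransitive G Ω] (A : Matrix Ω Ω ℤ)
    (hA : ∀ (g : G) (y w : Ω), A (g • y) (g • w) = A y w) (q : ℤ[X]) (x : Ω) :
    heckeE ρ a x * aeval (∑ w, A a w • heckeE ρ a w) q =
      ∑ w, (aeval A q) x w • heckeE ρ a w := by
  induction q using Polynomial.induction_on generalizing x with
  | C c =>
    rw [aeval_C, aeval_C]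
    have h1 : ∀ w, (algebraMap ℤ (Matrix Ω Ω ℤ) c) x w • heckeE ρ a w =
        if x = w then c • heckeE ρ a w else 0 := by
      intro w
      rw [Matrix.algebraMap_matrix_apply]
      split_ifs with h
      · rfl
      · rw [zero_smul]
    simp only [h1]
    rw [Finset.sum_ite_eq Finset.univ x, if_pos (Finset.mem_univ x)]
    rw [Algebra.algebraMap_eq_smul_one, mul_smul_comm, mul_one]
  | add p q hp hq =>
    rw [map_add, mul_add, hp, hq, map_add, ← Finset.sum_add_distrib]
    apply Finset.sum_congr rfl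
    intro w _
    rw [Matrix.add_apply, add_smul]
  | monomial n c ih =>
    have e1 : aeval (∑ w, A a w • heckeE ρ a w) (C c * X ^ (n + 1)) =
        aeval (∑ w, A a w • heckeE ρ a w) (C c * X ^ n) * (∑ w, A a w • heckeE ρ a w) := by
      rw [pow_succ, ← mul_assoc, map_mul, aeval_X]
    have e2 : aeval A (C c * X ^ (n + 1)) = aeval A (C c * X ^ n) * A := by
      rw [pow_succ, ← mul_assoc, map_mul, aeval_X]
    rw [e1, e2, ← mul_assoc, ih, Finset.sum_mul]
    have h3 : ∀ w, ((aeval A) (C c * X ^ n) x w • heckeE ρ a w) * (∑ w', A a w' • heckeE ρ a w') =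
        ∑ w', ((aeval A) (C c * X ^ n) x w * A w w') • heckeE ρ a w' := by
      intro w
      rw [smul_mul_assoc, heckeE_mul_sum ρ a A hA w, Finset.smul_sum]
      apply Finset.sum_congr rfl
      intro w' _
      rw [smul_smul]
    simp only [h3]
    rw [Finset.sum_comm]
    apply Finset.sum_congr rfl
    intro w' _
    rw [← Finset.sum_smul, Matrix.mul_apply]

theorem heckeE_idem [IsPretransitive G Ω] :
    heckeE ρ a a * heckeE ρ a a = heckeE ρ a a := by
  conv_lhs => arg 1; rw [heckeE]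
  rw [smul_mul_assoc, Finset.sum_mul]
  have h1 : ∀ g ∈ Finset.univ.filter (fun g : G => g • a = a),
      ρ g * heckeE ρ a a = heckeE ρ a a := by
    intro g hg
    rw [rho_mul_heckeE, (Finset.mem_filter.mp hg).2]
  rw [Finset.sum_congr rfl h1, Finset.sum_const, card_fiber a a, ← Nat.cast_smul_eq_nsmul ℂ,
    smul_smul, inv_mul_cancel₀ (card_stabilizer_ne_zero a), one_smul]

omit [Fintype Ω] in
theorem trace_heckeE [FiniteDimensional ℂ V] (y : Ω) :
    LinearMap.trace ℂ V (heckeE ρ a y) =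
      (Nat.card (stabilizer G a) : ℂ)⁻¹ *
        ∑ g ∈ Finset.univ.filter (fun g : G => g • a = y), ρ.character g := by
  unfold heckeE
  rw [map_smul, map_sum, smul_eq_mul]
  rfl

/-- The "Hecke operator" attached to the `G`-invariant matrix `A`. -/
noncomputable def heckeT (A : Matrix Ω Ω ℤ) : Module.End ℂ V :=
  ∑ w, A a w • heckeE ρ a w

theorem heckeE_mul_heckeT [IsPretransitive G Ω] (A : Matrix Ω Ω ℤ)
    (hA : ∀ (g : G) (y w : Ω), A (g • y) (g • w) = A y w) :
    heckeE ρ a a * heckeT ρ a A = heckeT ρ a A :=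
  heckeE_mul_sum ρ a A hA a

theorem isIntegral_heckeT [IsPretransitive G Ω] (A : Matrix Ω Ω ℤ)
    (hA : ∀ (g : G) (y w : Ω), A (g • y) (g • w) = A y w) :
    IsIntegral ℤ (heckeT ρ a A) := by
  refine ⟨X * A.charpoly, Polynomial.Monic.mul monic_X (Matrix.charpoly_monic A), ?_⟩
  rw [← aeval_def, map_mul, aeval_X]
  have h1 : ∀ x, heckeE ρ a x * aeval (heckeT ρ a A) A.charpoly = 0 := by
    intro x
    rw [heckeT, heckeE_mul_aeval ρ a A hA, Matrix.aeval_self_charpoly]
    simp
  conv_lhs => rw [heckeT]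
  rw [Finset.sum_mul]
  apply Finset.sum_eq_zero
  intro w _
  rw [smul_mul_assoc, ← heckeT, h1, smul_zero]

theorem trace_heckeT [FiniteDimensional ℂ V] (A : Matrix Ω Ω ℤ) :
    LinearMap.trace ℂ V (heckeT ρ a A) =
      (Nat.card (stabilizer G a) : ℂ)⁻¹ * ∑ g : G, (A a (g • a) : ℂ) * ρ.character g := by
  unfold heckeT
  rw [map_sum]
  have h1 : ∀ w, LinearMap.trace ℂ V (A a w • heckeE ρ a w) =
      (Nat.card (stabilizer G a) : ℂ)⁻¹ *
        ∑ g ∈ Finset.univ.filter (fun g : G => g • a = w), (A a (g • a) : ℂ) * ρ.character g := by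
    intro w
    rw [map_zsmul, trace_heckeE, zsmul_eq_mul, mul_left_comm, Finset.mul_sum]
    congr 1
    apply Finset.sum_congr rfl
    intro g hg
    rw [(Finset.mem_filter.mp hg).2]
  simp only [h1]
  rw [← Finset.mul_sum]
  congr 1
  exact Finset.sum_fiberwise Finset.univ (fun g : G => g • a) _

/-- `τ = |H|⁻¹ ∑ A(a, g a) χ(g)` is an algebraic integer. -/
theorem isIntegral_tau [IsPretransitive G Ω] [FiniteDimensional ℂ V] (A : Matrix Ω Ω ℤ)
    (hA : ∀ (g : G) (y w : Ω), A (g • y) (g • w) = A y w) :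
    IsIntegral ℤ ((Nat.card (stabilizer G a) : ℂ)⁻¹ *
      ∑ g : G, (A a (g • a) : ℂ) * ρ.character g) := by
  rw [← trace_heckeT]
  exact isIntegral_trace_of_isIntegral _ (isIntegral_heckeT ρ a A hA)

/-- If the restriction to `H` has no trivial constituent then `τ = 0`. -/
theorem tau_eq_zero [IsPretransitive G Ω] [FiniteDimensional ℂ V] (A : Matrix Ω Ω ℤ)
    (hA : ∀ (g : G) (y w : Ω), A (g • y) (g • w) = A y w)
    (h0 : ∑ g ∈ Finset.univ.filter (fun g : G => g • a = a), ρ.character g = 0) :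
    (Nat.card (stabilizer G a) : ℂ)⁻¹ * ∑ g : G, (A a (g • a) : ℂ) * ρ.character g = 0 := by
  rw [← trace_heckeT]
  have h1 : heckeE ρ a a = 0 := by
    apply (LinearMap.IsIdempotentElem.eq_zero_of_trace_eq_zero (R := ℂ) (heckeE_idem ρ a))
    rw [trace_heckeE, h0, mul_zero]
  rw [← heckeE_mul_heckeT ρ a A hA, h1, zero_mul, map_zero]

end Hecke

end Cfsg.Agent.Lib.Helper17
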