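import Mathlib
import Cfsg.Prelude.Def_Characters
import Cfsg.Agent.Lib.Helper17.Hecke

set_option autoImplicit false

namespace Cfsg.Agent.Lib.Helper17

open MulAction Polynomial

section RankOne

variable {V : Type*} [AddCommGroup V] [Module ℂ V] [FiniteDimensional ℂ V]

/-- An operator absorbed on both sides by an idempotent of trace one is a multiple of it. -/
theorem eq_trace_smul_of_idem_trace_one (e S : Module.End ℂ V) (he : IsIdempotentElem e)
    (ht : LinearMap.trace ℂ V e = 1) (h1 : e * S = S) (h2 : S * e = S) :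
    S = LinearMap.trace ℂ V S • e := by
  have hproj := LinearMap.IsIdempotentElem.isProj_range e he
  have hfr : Module.finrank ℂ (LinearMap.range e) = 1 := by
    have := hproj.trace
    rw [ht] at this
    exact_mod_cast this.symm
  obtain ⟨v, hv0, hv⟩ := finrank_eq_one_iff'.mp hfr
  have hSv : S v.1 ∈ LinearMap.range e := ⟨S v.1, by rw [← Module.End.mul_apply, h1]⟩
  obtain ⟨c, hc⟩ := hv ⟨S v.1, hSv⟩
  have hc' : c • v.1 = S v.1 := congrArg Subtype.val hc
  have key : ∀ x, S x = (c • e) x := by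
    intro x
    obtain ⟨d, hd⟩ := hv ⟨e x, LinearMap.mem_range_self e x⟩
    have hd' : d • v.1 = e x := congrArg Subtype.val hd
    calc S x = S (e x) := by rw [← Module.End.mul_apply, h2]
      _ = d • S v.1 := by rw [← hd', map_smul]
      _ = d • c • v.1 := by rw [hc']
      _ = (c • e) x := by rw [LinearMap.smul_apply, ← hd', smul_comm]
  have hS : S = c • e := LinearMap.ext key
  rw [hS, map_smul, ht, smul_eq_mul, mul_one]

end RankOne

section Hecke2

variable {G : Type*} [Group G] [Fintype G] {Ω : Type*} [Fintype Ω] [DecidableEq Ω]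
  [MulAction G Ω] {V : Type*} [AddCommGroup V] [Module ℂ V] (ρ : Representation ℂ G V) (a : Ω)

omit [Fintype Ω] in
theorem heckeE_mul_rho (y : Ω) (k : G) :
    heckeE ρ a y * ρ k =
      ((Nat.card (stabilizer G a) : ℂ)⁻¹) •
        ∑ g ∈ Finset.univ.filter (fun g : G => g • a = y), ρ (g * k) := by
  unfold heckeE
  rw [smul_mul_assoc, Finset.sum_mul]
  congr 1
  apply Finset.sum_congr rfl
  intro g _
  rw [map_mul]

omit [Fintype Ω] in
theorem heckeE_mul_heckeE_self [IsPretransitive G Ω] (w : Ω) :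
    heckeE ρ a w * heckeE ρ a a = heckeE ρ a w := by
  conv_lhs => arg 2; rw [heckeE]
  rw [mul_smul_comm, Finset.mul_sum]
  have h1 : ∀ h ∈ Finset.univ.filter (fun g : G => g • a = a),
      heckeE ρ a w * ρ h = heckeE ρ a w := by
    intro h hh
    have hh' : h • a = a := (Finset.mem_filter.mp hh).2
    rw [heckeE_mul_rho]
    unfold heckeE
    congr 1
    apply Finset.sum_bij (fun g _ => g * h)
    · intro g hg
      simp only [Finset.mem_filter, Finset.mem_univ, true_and] at hg ⊢
      rw [mul_smul, hh', hg]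
    · intro g₁ _ g₂ _ h12
      exact mul_right_cancel h12
    · intro g hg
      simp only [Finset.mem_filter, Finset.mem_univ, true_and] at hg
      refine ⟨g * h⁻¹, ?_, by group⟩
      simp only [Finset.mem_filter, Finset.mem_univ, true_and]
      rw [mul_smul, inv_smul_eq_iff.mpr hh'.symm, hg]
    · intro g _
      rfl
  rw [Finset.sum_congr rfl h1, Finset.sum_const, card_fiber a a, ← Nat.cast_smul_eq_nsmul ℂ,
    smul_smul, inv_mul_cancel₀ (card_stabilizer_ne_zero a), one_smul]

theorem heckeT_mul_heckeE [IsPretransitive G Ω] (A : Matrix Ω Ω ℤ) :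
    heckeT ρ a A * heckeE ρ a a = heckeT ρ a A := by
  unfold heckeT
  rw [Finset.sum_mul]
  apply Finset.sum_congr rfl
  intro w _
  rw [smul_mul_assoc, heckeE_mul_heckeE_self]

theorem heckeT_eq_trace_smul [IsPretransitive G Ω] [FiniteDimensional ℂ V] (A : Matrix Ω Ω ℤ)
    (hA : ∀ (g : G) (y w : Ω), A (g • y) (g • w) = A y w)
    (h1 : LinearMap.trace ℂ V (heckeE ρ a a) = 1) :
    heckeT ρ a A = LinearMap.trace ℂ V (heckeT ρ a A) • heckeE ρ a a :=
  eq_trace_smul_of_idem_trace_one _ _ (heckeE_idem ρ a) h1 (heckeE_mul_heckeT ρ a A hA)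
    (heckeT_mul_heckeE ρ a A)

theorem heckeT_eq_zero_of_trace_zero [IsPretransitive G Ω] [FiniteDimensional ℂ V]
    (A : Matrix Ω Ω ℤ) (hA : ∀ (g : G) (y w : Ω), A (g • y) (g • w) = A y w)
    (h0 : LinearMap.trace ℂ V (heckeE ρ a a) = 0) : heckeT ρ a A = 0 := by
  have h1 : heckeE ρ a a = 0 :=
    LinearMap.IsIdempotentElem.eq_zero_of_trace_eq_zero (R := ℂ) (heckeE_idem ρ a) h0
  rw [← heckeE_mul_heckeT ρ a A hA, h1, zero_mul]

theorem trace_heckeT_mul_rho [FiniteDimensional ℂ V] (A : Matrix Ω Ω ℤ) (k : G) :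
    LinearMap.trace ℂ V (heckeT ρ a A * ρ k) =
      (Nat.card (stabilizer G a) : ℂ)⁻¹ *
        ∑ g : G, (A a (g • a) : ℂ) * ρ.character (g * k) := by
  unfold heckeT
  rw [Finset.sum_mul, map_sum]
  have h1 : ∀ w, LinearMap.trace ℂ V (A a w • heckeE ρ a w * ρ k) =
      (Nat.card (stabilizer G a) : ℂ)⁻¹ *
        ∑ g ∈ Finset.univ.filter (fun g : G => g • a = w),
          (A a (g • a) : ℂ) * ρ.character (g * k) := by
    intro w
    rw [smul_mul_assoc, map_zsmul, heckeE_mul_rho, map_smul, map_sum, zsmul_eq_mul, smul_eq_mul,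
      mul_left_comm, Finset.mul_sum]
    congr 1
    apply Finset.sum_congr rfl
    intro g hg
    rw [(Finset.mem_filter.mp hg).2]
    rfl
  simp only [h1]
  rw [← Finset.mul_sum]
  congr 1
  exact Finset.sum_fiberwise Finset.univ (fun g : G => g • a) _

end Hecke2

end Cfsg.Agent.Lib.Helper17
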