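import Mathlib
import Cfsg.Agent.Lib.Helper41.InvBDefs

/-!
# K-IB-11 (keystone 392816, pack for S3928): abelian minimal normal subgroup of odd prime exponent

`minNormal_abelian_odd`: `Drop a N ∧ |N| ≤ m ^ m`.
-/

set_option autoImplicit false

namespace Cfsg.Agent.Lib.Helper17.InvB

open Cfsg.Agent.Lib.Helper41.InvB

/-- the elements of the abelian subgroup `N` inverted by `d` -/
def negPart {Γ : Type*} [Group Γ] (N : Subgroup Γ) (hab : ∀ x ∈ N, ∀ y ∈ N, x * y = y * x)
    (d : Γ) : Subgroup Γ where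
  carrier := {n | n ∈ N ∧ d * n * d⁻¹ = n⁻¹}
  one_mem' := ⟨N.one_mem, by simp⟩
  mul_mem' := by
    rintro x y ⟨hx, hx'⟩ ⟨hy, hy'⟩
    refine ⟨N.mul_mem hx hy, ?_⟩
    have e : d * (x * y) * d⁻¹ = (d * x * d⁻¹) * (d * y * d⁻¹) := by group
    rw [e, hx', hy', mul_inv_rev, hab _ (N.inv_mem hx) _ (N.inv_mem hy)]
  inv_mem' := by
    rintro x ⟨hx, hx'⟩
    refine ⟨N.inv_mem hx, ?_⟩
    have e : d * x⁻¹ * d⁻¹ = (d * x * d⁻¹)⁻¹ := by group
    rw [e, hx']

theorem mem_negPart {Γ : Type*} [Group Γ] {N : Subgroup Γ}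
    {hab : ∀ x ∈ N, ∀ y ∈ N, x * y = y * x} {d n : Γ} :
    n ∈ negPart N hab d ↔ n ∈ N ∧ d * n * d⁻¹ = n⁻¹ := Iff.rfl

/-- `t * a` is conjugate to `a` by `h = t ^ ((o+1)/2)`. -/
theorem exists_conj_eq {Γ : Type*} [Group Γ] {a t : Γ} (haa : a * a = 1) (ht : t ∈ TG a) :
    ∃ h : Γ, h * a * h⁻¹ = t * a := by
  obtain ⟨k, hk⟩ := ht.1
  refine ⟨t ^ (k + 1), ?_⟩
  have hh : t ^ (k + 1) ∈ TG a := pow_mem_TG ht (k + 1)
  have h2 : t ^ (k + 1) * t ^ (k + 1) = t := by
    rw [← pow_add]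
    have e : k + 1 + (k + 1) = orderOf t + 1 := by omega
    rw [e, pow_succ, pow_orderOf_eq_one, one_mul]
  have hinv := hh.2
  have hainv : a⁻¹ = a := inv_eq_of_mul_eq_one_left haa
  rw [← hinv, hainv]
  calc t ^ (k + 1) * a * (a * t ^ (k + 1) * a)
      = t ^ (k + 1) * (a * a) * t ^ (k + 1) * a := by group
    _ = t * a := by rw [haa, mul_one, h2]

theorem conj_mem_TG {Γ : Type*} [Group Γ] {a h d n : Γ} {p : ℕ} (hp : p.Prime) (hp2 : p ≠ 2)
    (hh : h * a * h⁻¹ = d) (hn : d * n * d⁻¹ = n⁻¹) (hnp : n ^ p = 1) :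
    h⁻¹ * n * h ∈ TG a := by
  refine ⟨?_, ?_⟩
  · have e : (h⁻¹ * n * h) ^ p = 1 := by
      have := conj_pow (a := h⁻¹) (b := n) (i := p)
      rw [inv_inv] at this
      rw [this, hnp]; group
    have hd := orderOf_dvd_of_pow_eq_one e
    rcases (Nat.dvd_prime hp).mp hd with h1 | h1
    · rw [h1]; exact odd_one
    · rw [h1]; exact hp.odd_of_ne_two hp2
  · subst hh
    have e : a * (h⁻¹ * n * h) * a⁻¹ = h⁻¹ * ((h * a * h⁻¹) * n * (h * a * h⁻¹)⁻¹) * h := by group
    rw [e, hn]; group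

theorem minNormal_abelian_odd {Γ : Type*} [Group Γ] [Finite Γ] (a : Γ) (hg : Gen a)
    (hZ : Subgroup.center Γ = ⊥) (N : Subgroup Γ)
    (hN : IsMinNormal N) (hab : ∀ x ∈ N, ∀ y ∈ N, x * y = y * x) (p : ℕ) (hp : p.Prime)
    (hp2 : p ≠ 2)
    (hexp : ∀ x ∈ N, x ^ p = 1) (m : ℕ) (hm : Nat.card (TG a) ≤ m) :
    Drop a N ∧ Nat.card N ≤ m ^ m := by
  classical
  obtain ⟨haa, hgen⟩ := hg
  obtain ⟨hNn, hN1, hNmin⟩ := hN
  have hainv : a⁻¹ = a := inv_eq_of_mul_eq_one_left haa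
  have : Finite ↥(TG a) := Subtype.finite
  letI : Fintype ↥(TG a) := Fintype.ofFinite _
  have : Nonempty ↥(TG a) := ⟨⟨1, one_mem_TG a⟩⟩
  have hm1 : 1 ≤ m := le_trans Nat.card_pos hm
  let H : ↥(TG a) → Subgroup Γ := fun t => negPart N hab ((t : Γ) * a)
  have hHN : ∀ i, H i ≤ N := fun i x hx => hx.1
  have hcomm : Pairwise fun i j : ↥(TG a) => ∀ x y : Γ, x ∈ H i → y ∈ H j → Commute x y := by
    intro i j _ x y hx hy
    exact hab x (hHN i hx) y (hHN j hy)
  have hMN : (⨆ i, H i) ≤ N := iSup_le hHN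
  -- involutions
  have hdd : ∀ i : ↥(TG a), ((i : Γ) * a) * ((i : Γ) * a) = 1 := by
    intro i
    obtain ⟨h, hh⟩ := exists_conj_eq haa i.2
    rw [← hh]
    calc h * a * h⁻¹ * (h * a * h⁻¹) = h * (a * a) * h⁻¹ := by group
      _ = 1 := by rw [haa]; group
  -- the commutator trick
  have hcm : ∀ i : ↥(TG a), ∀ x ∈ N,
      ((i : Γ) * a) * x * ((i : Γ) * a)⁻¹ * x⁻¹ ∈ H i := by
    intro i x hxN
    have hd := hdd i
    set d := (i : Γ) * a with hd_def
    refine ⟨N.mul_mem (hNn.conj_mem x hxN d) (N.inv_mem hxN), ?_⟩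
    have e1 : d * (d * x * d⁻¹ * x⁻¹) * d⁻¹ = (d * d) * x * (d * d)⁻¹ * (d * x * d⁻¹)⁻¹ := by
      group
    rw [e1, hd]; group
  have hconjM : ∀ i : ↥(TG a), ∀ x ∈ (⨆ i, H i),
      ((i : Γ) * a) * x * ((i : Γ) * a)⁻¹ ∈ (⨆ i, H i) := by
    intro i x hx
    have hc := hcm i x (hMN hx)
    have e : ((i : Γ) * a) * x * ((i : Γ) * a)⁻¹
        = (((i : Γ) * a) * x * ((i : Γ) * a)⁻¹ * x⁻¹) * x := by group
    rw [e]
    exact (⨆ i, H i).mul_mem (le_iSup H i hc) hx
  have hconj_a : ∀ x ∈ (⨆ i, H i), a * x * a⁻¹ ∈ (⨆ i, H i) := by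
    intro x hx
    have := hconjM ⟨1, one_mem_TG a⟩ x hx
    simpa using this
  have hconj_t : ∀ t ∈ TG a, ∀ x ∈ (⨆ i, H i), t * x * t⁻¹ ∈ (⨆ i, H i) := by
    intro t ht x hx
    have h1 := hconj_a x hx
    have h2 := hconjM ⟨t, ht⟩ _ h1
    have e : (t * a) * (a * x * a⁻¹) * (t * a)⁻¹ = t * (a * a) * x * (a * a)⁻¹ * t⁻¹ := by group
    simp only at h2
    rw [e, haa] at h2
    simpa using h2
  have hMnormal : (⨆ i, H i).Normal := by
    refine ⟨fun x hx g => ?_⟩
    have hgtop : g ∈ Subgroup.closure (TG a ∪ {a}) := hgen ▸ Subgroup.mem_top g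
    suffices hsuff : (∀ x ∈ (⨆ i, H i), g * x * g⁻¹ ∈ (⨆ i, H i)) ∧
        (∀ x ∈ (⨆ i, H i), g⁻¹ * x * g ∈ (⨆ i, H i)) from hsuff.1 x hx
    induction hgtop using Subgroup.closure_induction with
    | mem y hy =>
      rcases hy with hy | hy
      · refine ⟨hconj_t y hy, fun x hx => ?_⟩
        have := hconj_t y⁻¹ (inv_mem_TG hy) x hx
        simpa using this
      · have hya : y = a := hy
        subst hya
        refine ⟨hconj_a, fun x hx => ?_⟩
        have := hconj_a x hx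
        rw [hainv] at this ⊢
        exact this
    | one => simp
    | mul y z _ _ ihy ihz =>
      refine ⟨fun x hx => ?_, fun x hx => ?_⟩
      · have := ihy.1 _ (ihz.1 x hx)
        have e : y * z * x * (y * z)⁻¹ = y * (z * x * z⁻¹) * y⁻¹ := by group
        rw [e]; exact this
      · have := ihz.2 _ (ihy.2 x hx)
        have e : (y * z)⁻¹ * x * (y * z) = z⁻¹ * (y⁻¹ * x * y) * z := by group
        rw [e]; exact this
    | inv y _ ihy =>
      refine ⟨fun x hx => ?_, fun x hx => ?_⟩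
      · have := ihy.2 x hx
        simpa using this
      · have := ihy.1 x hx
        simpa using this
  rcases hNmin _ hMnormal hMN with hM | hM
  · exfalso
    have hHbot : ∀ i, H i = ⊥ := fun i => le_bot_iff.mp (hM ▸ le_iSup H i)
    apply hN1
    rw [eq_bot_iff, ← hZ]
    intro n hn
    rw [Subgroup.mem_center_iff]
    have hda : ∀ i : ↥(TG a), ((i : Γ) * a) * n = n * ((i : Γ) * a) := by
      intro i
      have hc := hcm i n hn
      rw [hHbot i, Subgroup.mem_bot] at hc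
      have e : ((i : Γ) * a) * n = (((i : Γ) * a) * n * ((i : Γ) * a)⁻¹ * n⁻¹) * n * ((i : Γ) * a) := by
        group
      rw [e, hc, one_mul]
    have han : a * n = n * a := by
      have := hda ⟨1, one_mem_TG a⟩
      simpa using this
    have hle : Subgroup.closure (TG a ∪ {a}) ≤ Subgroup.centralizer {n} := by
      rw [Subgroup.closure_le]
      intro g hg
      rw [SetLike.mem_coe, Subgroup.mem_centralizer_iff]
      intro y hy
      rw [Set.mem_singleton_iff] at hy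
      subst hy
      rcases hg with hg | hg
      · have h1 := hda ⟨g, hg⟩
        simp only at h1
        -- g * a * y = y * (g * a), a * y = y * a
        have e : y * g = y * (g * a) * a⁻¹ := by group
        rw [e, ← h1]
        have e2 : g * a * y * a⁻¹ = g * (a * y) * a⁻¹ := by group
        rw [e2, han]; group
      · have hga : g = a := hg
        rw [hga]; exact han.symm
    intro g
    have hgc : g ∈ Subgroup.centralizer {n} := hle (hgen ▸ Subgroup.mem_top g)
    rw [Subgroup.mem_centralizer_iff] at hgc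
    exact (hgc n rfl).symm
  · -- M = N
    have hcardH : ∀ i, Nat.card (H i) ≤ m := by
      intro i
      obtain ⟨h, hh⟩ := exists_conj_eq haa i.2
      have hmem : ∀ n : H i, h⁻¹ * (n : Γ) * h ∈ TG a := fun n =>
        conj_mem_TG hp hp2 hh n.2.2 (hexp _ n.2.1)
      let f : H i → ↥(TG a) := fun n => ⟨h⁻¹ * (n : Γ) * h, hmem n⟩
      have hf : Function.Injective f := by
        intro n n' hnn
        have h1 : h⁻¹ * (n : Γ) * h = h⁻¹ * (n' : Γ) * h := congrArg Subtype.val hnn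
        exact Subtype.ext (mul_left_cancel (mul_right_cancel h1))
      exact le_trans (Nat.card_le_card_of_injective f hf) hm
    have hcardM : Nat.card ↥(⨆ i, H i) ≤ ∏ i : ↥(TG a), Nat.card (H i) := by
      have hr : (Subgroup.noncommPiCoprod hcomm).range = ⨆ i, H i :=
        Subgroup.noncommPiCoprod_range
      rw [← hr, ← Nat.card_pi]
      exact Nat.card_le_card_of_surjective _
        (MonoidHom.rangeRestrict_surjective (Subgroup.noncommPiCoprod hcomm))
    refine ⟨?_, ?_⟩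
    · -- Drop
      have hex : ∃ i, H i ≠ ⊥ := by
        by_contra hcon
        push Not at hcon
        apply hN1
        rw [← hM]
        exact iSup_eq_bot.mpr hcon
      obtain ⟨i, hi⟩ := hex
      obtain ⟨n, hn⟩ := (Subgroup.ne_bot_iff_exists_ne_one).mp hi
      obtain ⟨h, hh⟩ := exists_conj_eq haa i.2
      have hT : h⁻¹ * (n : Γ) * h ∈ TG a := conj_mem_TG hp hp2 hh n.2.2 (hexp _ n.2.1)
      have hne : h⁻¹ * (n : Γ) * h ≠ 1 := by
        intro h1
        apply hn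
        have : (n : Γ) = 1 := by
          have e : (n : Γ) = h * (h⁻¹ * (n : Γ) * h) * h⁻¹ := by group
          rw [e, h1]; group
        exact Subtype.ext this
      have hinN : h⁻¹ * (n : Γ) * h ∈ N := by
        have := hNn.conj_mem (n : Γ) n.2.1 h⁻¹
        simpa using this
      exact ⟨1, one_mem_TG a, _, hT, fun h1 => hne h1.symm, by simpa using hinN⟩
    · calc Nat.card N = Nat.card ↥(⨆ i, H i) := by rw [hM]
        _ ≤ ∏ i : ↥(TG a), Nat.card (H i) := hcardM
        _ ≤ ∏ _i : ↥(TG a), m := Finset.prod_le_prod (fun _ _ => Nat.zero_le _)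
            (fun i _ => hcardH i)
        _ = m ^ Nat.card ↥(TG a) := by
            rw [Finset.prod_const, Finset.card_univ, Nat.card_eq_fintype_card]
        _ ≤ m ^ m := Nat.pow_le_pow_right hm1 hm

end Cfsg.Agent.Lib.Helper17.InvB
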