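import Mathlib
import Cfsg.Agent.Lib.Helper41.InvBDefs

/-!
# K-IB-12 (keystone 392817, pack for S3928): abelian minimal normal subgroup of exponent 2

`minNormal_abelian_two`: `Drop a N ∧ |N| ≤ m ^ (2 * m)`.
-/

set_option autoImplicit false

namespace Cfsg.Agent.Lib.Helper17.InvB

open Cfsg.Agent.Lib.Helper41.InvB

section
variable {Γ : Type*} [Group Γ]

/-- `N` is a normal abelian subgroup of exponent 2. -/
structure E2 (N : Subgroup Γ) : Prop where
  normal : N.Normal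
  comm : ∀ x ∈ N, ∀ y ∈ N, x * y = y * x
  sq : ∀ x ∈ N, x * x = 1

theorem E2.inv_eq {N : Subgroup Γ} (h : E2 N) {x : Γ} (hx : x ∈ N) : x⁻¹ = x :=
  inv_eq_of_mul_eq_one_left (h.sq x hx)

theorem E2.conj_mem {N : Subgroup Γ} (h : E2 N) {x : Γ} (hx : x ∈ N) (g : Γ) :
    g * x * g⁻¹ ∈ N :=
  h.normal.conj_mem x hx g

/-- `W_t = [N, t]`, written without inverses. -/
def commSub {N : Subgroup Γ} (h : E2 N) (t : Γ) : Subgroup Γ where
  carrier := {w | ∃ n ∈ N, w = n * (t * n * t⁻¹)}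
  one_mem' := ⟨1, N.one_mem, by simp⟩
  mul_mem' := by
    rintro _ _ ⟨n, hn, rfl⟩ ⟨n', hn', rfl⟩
    refine ⟨n * n', N.mul_mem hn hn', ?_⟩
    have c := h.comm _ (h.conj_mem hn t) _ hn'
    calc n * (t * n * t⁻¹) * (n' * (t * n' * t⁻¹))
        = n * ((t * n * t⁻¹) * n') * (t * n' * t⁻¹) := by group
      _ = n * (n' * (t * n * t⁻¹)) * (t * n' * t⁻¹) := by rw [c]
      _ = n * n' * (t * (n * n') * t⁻¹) := by group
  inv_mem' := by
    rintro _ ⟨n, hn, rfl⟩
    exact ⟨n, hn, h.inv_eq (N.mul_mem hn (h.conj_mem hn t))⟩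

theorem mem_commSub {N : Subgroup Γ} {h : E2 N} {t w : Γ} :
    w ∈ commSub h t ↔ ∃ n ∈ N, w = n * (t * n * t⁻¹) := Iff.rfl

theorem commSub_le {N : Subgroup Γ} (h : E2 N) (t : Γ) : commSub h t ≤ N := by
  rintro _ ⟨n, hn, rfl⟩
  exact N.mul_mem hn (h.conj_mem hn t)

theorem conj_eq_mul {N : Subgroup Γ} (h : E2 N) {x : Γ} (hx : x ∈ N) (s : Γ) :
    s * x * s⁻¹ = (x * (s * x * s⁻¹)) * x := by
  have c := h.comm _ hx _ (h.conj_mem hx s)
  rw [c, mul_assoc (s * x * s⁻¹) x x, h.sq x hx, mul_one]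

theorem conj_mem_commSub {N : Subgroup Γ} (h : E2 N) {t g w : Γ} (hg : g * t * g⁻¹ = t⁻¹)
    (hw : w ∈ commSub h t) : g * w * g⁻¹ ∈ commSub h t := by
  obtain ⟨n, hn, rfl⟩ := hw
  have hn' : g * n * g⁻¹ ∈ N := h.conj_mem hn g
  have hy : t⁻¹ * (g * n * g⁻¹) * t ∈ N := by simpa using h.conj_mem hn' t⁻¹
  refine ⟨t⁻¹ * (g * n * g⁻¹) * t, hy, ?_⟩
  have hg' : g * t⁻¹ * g⁻¹ = t := by
    have e : g * t⁻¹ * g⁻¹ = (g * t * g⁻¹)⁻¹ := by group
    rw [e, hg, inv_inv]
  have e1 : g * (n * (t * n * t⁻¹)) * g⁻¹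
      = (g * n * g⁻¹) * ((g * t * g⁻¹) * (g * n * g⁻¹) * (g * t⁻¹ * g⁻¹)) := by group
  rw [e1, hg, hg']
  have e2 : t⁻¹ * (g * n * g⁻¹) * t * (t * (t⁻¹ * (g * n * g⁻¹) * t) * t⁻¹)
      = (t⁻¹ * (g * n * g⁻¹) * t) * (g * n * g⁻¹) := by group
  rw [e2]
  exact h.comm _ hn' _ hy

theorem mul_mem_TG {N : Subgroup Γ} (h : E2 N) {a t w : Γ} (ht : t ∈ TG a)
    (hw : w ∈ commSub h t) (hfix : (t * a) * w * (t * a)⁻¹ = w) : w * t ∈ TG a := by
  have hwN : w ∈ N := commSub_le h t hw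
  have hw2 : w⁻¹ = w := h.inv_eq hwN
  refine ⟨?_, ?_⟩
  · obtain ⟨n, hn, rfl⟩ := hw
    have hninv := h.inv_eq hn
    have e : n * (t * n * t⁻¹) * t = (MulAut.conj n) t := by
      rw [MulAut.conj_apply, hninv]; group
    rw [e, MulEquiv.orderOf_eq]
    exact ht.1
  · have h1 : a * w * a⁻¹ = t⁻¹ * w * t := by
      have e : a * w * a⁻¹ = t⁻¹ * ((t * a) * w * (t * a)⁻¹) * t := by group
      rw [e, hfix]
    calc a * (w * t) * a⁻¹ = (a * w * a⁻¹) * (a * t * a⁻¹) := by group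
      _ = (t⁻¹ * w * t) * t⁻¹ := by rw [h1, ht.2]
      _ = t⁻¹ * w⁻¹ := by rw [hw2]; group
      _ = (w * t)⁻¹ := by group

theorem ta_sq {a t : Γ} (haa : a * a = 1) (ht : t ∈ TG a) : (t * a) * (t * a) = 1 := by
  have h2 := ht.2
  calc t * a * (t * a) = t * (a * t * a⁻¹) * (a * a) := by group
    _ = 1 := by rw [h2, haa]; group

theorem ta_conj {a t : Γ} (ht : t ∈ TG a) : (t * a) * t * (t * a)⁻¹ = t⁻¹ := by
  have h2 := ht.2
  calc t * a * t * (t * a)⁻¹ = t * (a * t * a⁻¹) * t⁻¹ := by group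
    _ = t⁻¹ := by rw [h2]; group

/-- the averaging map `w ↦ w * (d w d⁻¹)` on `W_t`, `d = t a`. -/
def psiHom {N : Subgroup Γ} (h : E2 N) {a t : Γ} (ht : t ∈ TG a) :
    ↥(commSub h t) →* ↥(commSub h t) where
  toFun w := ⟨(w : Γ) * ((t * a) * (w : Γ) * (t * a)⁻¹),
    (commSub h t).mul_mem w.2 (conj_mem_commSub h (ta_conj ht) w.2)⟩
  map_one' := Subtype.ext (by simp)
  map_mul' := by
    intro w w'
    apply Subtype.ext
    have hwN : ((t * a) * (w : Γ) * (t * a)⁻¹) ∈ N :=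
      h.conj_mem (commSub_le h t w.2) _
    have hw'N : (w' : Γ) ∈ N := commSub_le h t w'.2
    have c := h.comm _ hw'N _ hwN
    simp only [Subgroup.coe_mul]
    calc (w : Γ) * (w' : Γ) * ((t * a) * ((w : Γ) * (w' : Γ)) * (t * a)⁻¹)
        = (w : Γ) * ((w' : Γ) * ((t * a) * (w : Γ) * (t * a)⁻¹)) *
            ((t * a) * (w' : Γ) * (t * a)⁻¹) := by group
      _ = (w : Γ) * (((t * a) * (w : Γ) * (t * a)⁻¹) * (w' : Γ)) *
            ((t * a) * (w' : Γ) * (t * a)⁻¹) := by rw [c]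
      _ = (w : Γ) * ((t * a) * (w : Γ) * (t * a)⁻¹) *
            ((w' : Γ) * ((t * a) * (w' : Γ) * (t * a)⁻¹)) := by group

theorem psiHom_fix {N : Subgroup Γ} (h : E2 N) {a t : Γ} (haa : a * a = 1) (ht : t ∈ TG a)
    (w : ↥(commSub h t)) :
    (t * a) * ((psiHom h ht w : ↥(commSub h t)) : Γ) * (t * a)⁻¹ = (psiHom h ht w : Γ) := by
  have hdd := ta_sq haa ht
  have hwN : (w : Γ) ∈ N := commSub_le h t w.2
  have hcN : ((t * a) * (w : Γ) * (t * a)⁻¹) ∈ N := h.conj_mem hwN _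
  show (t * a) * ((w : Γ) * ((t * a) * (w : Γ) * (t * a)⁻¹)) * (t * a)⁻¹
    = (w : Γ) * ((t * a) * (w : Γ) * (t * a)⁻¹)
  have e : (t * a) * ((w : Γ) * ((t * a) * (w : Γ) * (t * a)⁻¹)) * (t * a)⁻¹
      = ((t * a) * (w : Γ) * (t * a)⁻¹) * (((t * a) * (t * a)) * (w : Γ) * ((t * a) * (t * a))⁻¹) := by
    group
  rw [e, hdd]
  simp only [one_mul, inv_one, mul_one]
  exact h.comm _ hcN _ hwN

theorem ker_fix {N : Subgroup Γ} (h : E2 N) {a t : Γ} (ht : t ∈ TG a)
    (w : ↥(commSub h t)) (hw : psiHom h ht w = 1) :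
    (t * a) * (w : Γ) * (t * a)⁻¹ = (w : Γ) := by
  have hwN : (w : Γ) ∈ N := commSub_le h t w.2
  have h1 : (w : Γ) * ((t * a) * (w : Γ) * (t * a)⁻¹) = 1 := congrArg Subtype.val hw
  have h2 : ((t * a) * (w : Γ) * (t * a)⁻¹) = (w : Γ)⁻¹ := (inv_eq_of_mul_eq_one_right h1).symm
  rw [h2, h.inv_eq hwN]

theorem card_commSub_le [Finite Γ] {N : Subgroup Γ} (h : E2 N) {a t : Γ} (haa : a * a = 1)
    (ht : t ∈ TG a) {m : ℕ} (hm : Nat.card (TG a) ≤ m) : Nat.card (commSub h t) ≤ m * m := by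
  have : Finite ↥(TG a) := Subtype.finite
  have hker : Nat.card (psiHom h ht).ker ≤ m := by
    let f : (psiHom h ht).ker → ↥(TG a) := fun w =>
      ⟨((w : ↥(commSub h t)) : Γ) * t, mul_mem_TG h ht (w : ↥(commSub h t)).2
        (ker_fix h ht _ ((MonoidHom.mem_ker).mp w.2))⟩
    have hf : Function.Injective f := by
      intro w w' hww
      have h1 : ((w : ↥(commSub h t)) : Γ) * t = ((w' : ↥(commSub h t)) : Γ) * t :=
        congrArg Subtype.val hww
      exact Subtype.ext (Subtype.ext (mul_right_cancel h1))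
    exact le_trans (Nat.card_le_card_of_injective f hf) hm
  have hrange : Nat.card (psiHom h ht).range ≤ m := by
    have hfix : ∀ w : (psiHom h ht).range,
        (t * a) * ((w : ↥(commSub h t)) : Γ) * (t * a)⁻¹ = ((w : ↥(commSub h t)) : Γ) := by
      rintro ⟨w, w', rfl⟩
      exact psiHom_fix h haa ht w'
    let f : (psiHom h ht).range → ↥(TG a) := fun w =>
      ⟨((w : ↥(commSub h t)) : Γ) * t, mul_mem_TG h ht (w : ↥(commSub h t)).2 (hfix w)⟩
    have hf : Function.Injective f := by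
      intro w w' hww
      have h1 : ((w : ↥(commSub h t)) : Γ) * t = ((w' : ↥(commSub h t)) : Γ) * t :=
        congrArg Subtype.val hww
      exact Subtype.ext (Subtype.ext (mul_right_cancel h1))
    exact le_trans (Nat.card_le_card_of_injective f hf) hm
  rw [← Subgroup.card_mul_index (psiHom h ht).ker, Subgroup.index_ker]
  exact Nat.mul_le_mul hker hrange

/-- a nontrivial `W_t` contains a nontrivial element fixed by `t a`. -/
theorem exists_fixed_ne_one {N : Subgroup Γ} (h : E2 N) {a t : Γ} (haa : a * a = 1)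
    (ht : t ∈ TG a) (hne : commSub h t ≠ ⊥) :
    ∃ w ∈ commSub h t, w ≠ 1 ∧ (t * a) * w * (t * a)⁻¹ = w := by
  obtain ⟨w0, hw0⟩ := (Subgroup.ne_bot_iff_exists_ne_one).mp hne
  by_cases hc : psiHom h ht w0 = 1
  · exact ⟨w0, w0.2, fun h1 => hw0 (Subtype.ext h1), ker_fix h ht w0 hc⟩
  · exact ⟨psiHom h ht w0, (psiHom h ht w0).2, fun h1 => hc (Subtype.ext h1),
      psiHom_fix h haa ht w0⟩

end

theorem minNormal_abelian_two {Γ : Type*} [Group Γ] [Finite Γ] (a : Γ) (hg : Gen a)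
    (hZ : Subgroup.center Γ = ⊥) (N : Subgroup Γ)
    (hN : IsMinNormal N) (hab : ∀ x ∈ N, ∀ y ∈ N, x * y = y * x)
    (hexp : ∀ x ∈ N, x ^ 2 = 1) (m : ℕ) (hm : Nat.card (TG a) ≤ m) :
    Drop a N ∧ Nat.card N ≤ m ^ (2 * m) := by
  classical
  obtain ⟨haa, hgen⟩ := hg
  obtain ⟨hNn, hN1, hNmin⟩ := hN
  have h : E2 N := ⟨hNn, hab, fun x hx => by rw [← pow_two]; exact hexp x hx⟩
  have hainv : a⁻¹ = a := inv_eq_of_mul_eq_one_left haa
  have : Finite ↥(TG a) := Subtype.finite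
  letI : Fintype ↥(TG a) := Fintype.ofFinite _
  have : Nonempty ↥(TG a) := ⟨⟨1, one_mem_TG a⟩⟩
  have hm1 : 1 ≤ m := le_trans Nat.card_pos hm
  let H : ↥(TG a) → Subgroup Γ := fun t => commSub h (t : Γ)
  have hHN : ∀ i, H i ≤ N := fun i => commSub_le h _
  have hcomm : Pairwise fun i j : ↥(TG a) => ∀ x y : Γ, x ∈ H i → y ∈ H j → Commute x y := by
    intro i j _ x y hx hy
    exact hab x (hHN i hx) y (hHN j hy)
  have hMN : (⨆ i, H i) ≤ N := iSup_le hHN
  -- conjugation by members of `TG a`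
  have hconj_t : ∀ t ∈ TG a, ∀ x ∈ (⨆ i, H i), t * x * t⁻¹ ∈ (⨆ i, H i) := by
    intro t ht x hx
    have hxN := hMN hx
    rw [conj_eq_mul h hxN t]
    exact (⨆ i, H i).mul_mem (le_iSup H ⟨t, ht⟩ ⟨x, hxN, rfl⟩) hx
  -- conjugation by `a`
  have hconj_a : ∀ x ∈ (⨆ i, H i), a * x * a⁻¹ ∈ (⨆ i, H i) := by
    intro x hx
    refine Subgroup.iSup_induction H (C := fun x => a * x * a⁻¹ ∈ (⨆ i, H i)) hx
      (fun i y hy => ?_) ?_ (fun y z ihy ihz => ?_)
    · exact le_iSup H i (conj_mem_commSub h i.2.2 hy)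
    · simp
    · have e : a * (y * z) * a⁻¹ = (a * y * a⁻¹) * (a * z * a⁻¹) := by group
      rw [e]; exact (⨆ i, H i).mul_mem ihy ihz
  have hMnormal : (⨆ i, H i).Normal := by
    refine ⟨fun x hx g => ?_⟩
    have hgtop : g ∈ Subgroup.closure (TG a ∪ {a}) := hgen ▸ Subgroup.mem_top g
    suffices hsuff : (∀ x ∈ (⨆ i, H i), g * x * g⁻¹ ∈ (⨆ i, H i)) ∧
        (∀ x ∈ (⨆ i, H i), g⁻¹ * x * g ∈ (⨆ i, H i)) from hsuff.1 x hx
    induction hgtop using Subgroup.closure_induction with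
    | mem y hy =>
      rcases hy with hy | hy
      · refine ⟨hconj_t y hy, fun x hx => ?_⟩
        have := hconj_t y⁻¹ (inv_mem_TG hy) x hx
        simpa using this
      · have hya : y = a := hy
        subst hya
        refine ⟨hconj_a, fun x hx => ?_⟩
        have := hconj_a x hx
        rw [hainv] at this ⊢
        exact this
    | one => simp
    | mul y z _ _ ihy ihz =>
      refine ⟨fun x hx => ?_, fun x hx => ?_⟩
      · have := ihy.1 _ (ihz.1 x hx)
        have e : y * z * x * (y * z)⁻¹ = y * (z * x * z⁻¹) * y⁻¹ := by group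
        rw [e]; exact this
      · have := ihz.2 _ (ihy.2 x hx)
        have e : (y * z)⁻¹ * x * (y * z) = z⁻¹ * (y⁻¹ * x * y) * z := by group
        rw [e]; exact this
    | inv y _ ihy =>
      refine ⟨fun x hx => ?_, fun x hx => ?_⟩
      · have := ihy.2 x hx
        simpa using this
      · have := ihy.1 x hx
        simpa using this
  -- a central-element criterion
  have hcentral : ∀ z ∈ N, a * z = z * a → (∀ t ∈ TG a, t * z = z * t) → z = 1 := by
    intro z _ hza hzt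
    have hle : Subgroup.closure (TG a ∪ {a}) ≤ Subgroup.centralizer {z} := by
      rw [Subgroup.closure_le]
      intro g hg
      rw [SetLike.mem_coe, Subgroup.mem_centralizer_iff]
      intro y hy
      rw [Set.mem_singleton_iff] at hy
      subst hy
      rcases hg with hg | hg
      · exact (hzt g hg).symm
      · have hga : g = a := hg
        rw [hga]; exact hza.symm
    have hzc : z ∈ Subgroup.center Γ := by
      rw [Subgroup.mem_center_iff]
      intro g
      have hgc : g ∈ Subgroup.centralizer {z} := hle (hgen ▸ Subgroup.mem_top g)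
      rw [Subgroup.mem_centralizer_iff] at hgc
      exact (hgc z rfl).symm
    rw [hZ, Subgroup.mem_bot] at hzc
    exact hzc
  rcases hNmin _ hMnormal hMN with hM | hM
  · exfalso
    have hHbot : ∀ i, H i = ⊥ := fun i => le_bot_iff.mp (hM ▸ le_iSup H i)
    -- `TG a` centralises `N`
    have hTc : ∀ n ∈ N, ∀ t ∈ TG a, t * n = n * t := by
      intro n hn t ht
      have hw : n * (t * n * t⁻¹) ∈ H ⟨t, ht⟩ := ⟨n, hn, rfl⟩
      rw [hHbot ⟨t, ht⟩, Subgroup.mem_bot] at hw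
      have h2 : t * n * t⁻¹ = n⁻¹ := (inv_eq_of_mul_eq_one_right hw).symm
      rw [h.inv_eq hn] at h2
      calc t * n = (t * n * t⁻¹) * t := by group
        _ = n * t := by rw [h2]
    obtain ⟨n, hnN, hn1⟩ : ∃ n ∈ N, n ≠ 1 := by
      by_contra hcon
      push Not at hcon
      apply hN1
      rw [eq_bot_iff]
      intro x hx
      rw [Subgroup.mem_bot]
      exact hcon x hx
    by_cases hc : a * n * a⁻¹ = n
    · apply hn1
      apply hcentral n hnN _ (hTc n hnN)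
      calc a * n = (a * n * a⁻¹) * a := by group
        _ = n * a := by rw [hc]
    · have hzN : n * (a * n * a⁻¹) ∈ N := N.mul_mem hnN (h.conj_mem hnN a)
      have hz1 : n * (a * n * a⁻¹) = 1 := by
        apply hcentral _ hzN _ (hTc _ hzN)
        have hcm := h.comm _ hnN _ (h.conj_mem hnN a)
        calc a * (n * (a * n * a⁻¹)) = (a * n * a⁻¹) * ((a * a) * n * (a * a)⁻¹) * a := by group
          _ = (a * n * a⁻¹) * n * a := by rw [haa]; group
          _ = n * (a * n * a⁻¹) * a := by rw [hcm]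
      apply hc
      have h2 : a * n * a⁻¹ = n⁻¹ := (inv_eq_of_mul_eq_one_right hz1).symm
      rw [h2, h.inv_eq hnN]
  · have hcardH : ∀ i, Nat.card (H i) ≤ m * m := fun i => card_commSub_le h haa i.2 hm
    have hcardM : Nat.card ↥(⨆ i, H i) ≤ ∏ i : ↥(TG a), Nat.card (H i) := by
      have hr : (Subgroup.noncommPiCoprod hcomm).range = ⨆ i, H i :=
        Subgroup.noncommPiCoprod_range
      rw [← hr, ← Nat.card_pi]
      exact Nat.card_le_card_of_surjective _
        (MonoidHom.rangeRestrict_surjective (Subgroup.noncommPiCoprod hcomm))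
    refine ⟨?_, ?_⟩
    · have hex : ∃ i, H i ≠ ⊥ := by
        by_contra hcon
        push Not at hcon
        apply hN1
        rw [← hM]
        exact iSup_eq_bot.mpr hcon
      obtain ⟨i, hi⟩ := hex
      obtain ⟨w, hw, hw1, hwfix⟩ := exists_fixed_ne_one h haa i.2 hi
      have hT : w * (i : Γ) ∈ TG a := mul_mem_TG h i.2 hw hwfix
      refine ⟨(i : Γ), i.2, w * (i : Γ), hT, ?_, ?_⟩
      · intro h1
        apply hw1
        have : w * (i : Γ) = 1 * (i : Γ) := by rw [one_mul]; exact h1.symm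
        exact mul_right_cancel this
      · have := h.conj_mem (commSub_le h _ hw) (i : Γ)⁻¹
        simpa [mul_assoc] using this
    · calc Nat.card N = Nat.card ↥(⨆ i, H i) := by rw [hM]
        _ ≤ ∏ i : ↥(TG a), Nat.card (H i) := hcardM
        _ ≤ ∏ _i : ↥(TG a), (m * m) := Finset.prod_le_prod (fun _ _ => Nat.zero_le _)
            (fun i _ => hcardH i)
        _ = (m * m) ^ Nat.card ↥(TG a) := by
            rw [Finset.prod_const, Finset.card_univ, Nat.card_eq_fintype_card]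
        _ ≤ (m * m) ^ m := Nat.pow_le_pow_right (Nat.mul_pos hm1 hm1) hm
        _ = m ^ (2 * m) := by rw [← pow_two, ← pow_mul]

end Cfsg.Agent.Lib.Helper17.InvB
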