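import Mathlib

/-!
# The norm trick (ring level)

`φ : H →* R` a multiplicative map from a group to a ring (think: `H` acting on an abelian group
`V`, `R = End V`).  If the "norm" `∑ i < o(g), φ g ^ i` vanishes for all `g` of the prime orders
`r'` resp. `r`, then `(r' : R) = 0` as soon as `H` contains either a Frobenius group
`⟨x⟩ ⋊ ⟨δ⟩` of order `r' r` or an elementary abelian group of order `r' ^ 2`.
-/

set_option autoImplicit false

namespace Cfsg.Agent.Lib.Helper17.NormTrick

open Finset

variable {H R : Type*} [Group H] [Ring R]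

/-- Frobenius version. -/
theorem natCast_eq_zero_of_frob (φ : H →* R) {r r' : ℕ} (hr' : r'.Prime)
    (f1 : ∀ g : H, orderOf g = r' → ∑ i ∈ range r', φ g ^ i = 0)
    (f2 : ∀ d : H, orderOf d = r → ∑ j ∈ range r, φ d ^ j = 0)
    (x δ : H) (hx : orderOf x = r') (hδ : orderOf δ = r) (hr0 : 0 < r)
    (hnorm : δ ∈ Subgroup.normalizer (Subgroup.zpowers x : Set H))
    (hnc : ∀ j, 0 < j → j < r → δ ^ j * x * (δ ^ j)⁻¹ ≠ x) : (r' : R) = 0 := by
  have h0 : ∑ i ∈ range r', ∑ j ∈ range r, φ (x ^ i * δ * (x ^ i)⁻¹) ^ j = 0 := by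
    apply Finset.sum_eq_zero
    intro i _
    apply f2
    rw [← hδ]
    exact (MulAut.conj (x ^ i)).orderOf_eq δ
  rw [Finset.sum_comm] at h0
  rw [Finset.sum_eq_single 0] at h0
  · simpa using h0
  · intro j hj hj0
    rw [Finset.mem_range] at hj
    set D := δ ^ j with hD
    have hDn : D ∈ Subgroup.normalizer (Subgroup.zpowers x : Set H) := pow_mem hnorm j
    have hy : D * x * D⁻¹ ∈ Subgroup.zpowers x :=
      (Subgroup.mem_normalizer_iff.1 hDn x).1 (Subgroup.mem_zpowers x)
    set y := D * x * D⁻¹ with hydef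
    have hxy : Commute x y := by
      obtain ⟨k, hk⟩ := Subgroup.mem_zpowers_iff.1 hy
      rw [← hk]
      exact (Commute.refl x).zpow_right k
    set g := x * y⁻¹ with hg
    have hgz : g ∈ Subgroup.zpowers x :=
      Subgroup.mul_mem _ (Subgroup.mem_zpowers x) (Subgroup.inv_mem _ hy)
    have hg1 : g ≠ 1 := by
      intro h
      have : x = y := by
        have := mul_inv_eq_one.1 h
        exact this
      exact hnc j (Nat.pos_of_ne_zero hj0) hj this.symm
    have hgo : orderOf g = r' := by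
      have h1 : orderOf g ∣ r' := hx ▸ orderOf_dvd_of_mem_zpowers hgz
      rcases (Nat.dvd_prime hr').1 h1 with h | h
      · exact absurd (orderOf_eq_one_iff.1 h) hg1
      · exact h
    have key : ∀ i : ℕ, x ^ i * D * (x ^ i)⁻¹ = g ^ i * D := by
      intro i
      have h1 : g ^ i = x ^ i * (y⁻¹) ^ i := (hxy.inv_right).mul_pow i
      have h2 : (y⁻¹) ^ i = D * (x ^ i)⁻¹ * D⁻¹ := by
        rw [inv_pow, hydef, conj_pow, mul_inv_rev, mul_inv_rev, inv_inv, mul_assoc]
      rw [h1, h2]
      group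
    have : ∀ i ∈ range r', φ (x ^ i * δ * (x ^ i)⁻¹) ^ j = φ g ^ i * φ D := by
      intro i _
      rw [← map_pow, conj_pow, key i, map_mul, map_pow]
    rw [Finset.sum_congr rfl this, ← Finset.sum_mul, f1 g hgo, zero_mul]
  · intro h
    exact absurd (Finset.mem_range.2 hr0) h

/-- Rank two version. -/
theorem natCast_eq_zero_of_rank_two (φ : H →* R) {r' : ℕ} (hr' : r'.Prime)
    (f1 : ∀ g : H, orderOf g = r' → ∑ i ∈ range r', φ g ^ i = 0)
    (y z : H) (hyz : Commute y z) (hy : orderOf y = r') (hz : orderOf z = r')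
    (hnot : y ∉ Subgroup.zpowers z) : (r' : R) = 0 := by
  have hord : ∀ i : ℕ, orderOf (y * z ^ i) = r' := by
    intro i
    have h1 : (y * z ^ i) ^ r' = 1 := by
      rw [(hyz.pow_right i).mul_pow, ← hy, pow_orderOf_eq_one, one_mul, ← pow_mul, mul_comm,
        pow_mul, hy, ← hz, pow_orderOf_eq_one, one_pow]
    have h2 : orderOf (y * z ^ i) ∣ r' := orderOf_dvd_of_pow_eq_one h1
    rcases (Nat.dvd_prime hr').1 h2 with h | h
    · exfalso
      have := orderOf_eq_one_iff.1 h
      apply hnot
      have hy' : y = (z ^ i)⁻¹ := eq_inv_of_mul_eq_one_left this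
      rw [hy']
      exact Subgroup.inv_mem _ (Subgroup.pow_mem _ (Subgroup.mem_zpowers z) i)
    · exact h
  have h0 : ∑ i ∈ range r', ∑ j ∈ range r', φ (y * z ^ i) ^ j = 0 := by
    apply Finset.sum_eq_zero
    intro i _
    exact f1 _ (hord i)
  rw [Finset.sum_comm] at h0
  rw [Finset.sum_eq_single 0] at h0
  · simpa using h0
  · intro j hj hj0
    rw [Finset.mem_range] at hj
    have hzo : orderOf (z ^ j) = r' := by
      rw [orderOf_pow' z hj0, hz]
      have : Nat.gcd r' j = 1 := by
        have := (Nat.Prime.coprime_iff_not_dvd hr').2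
          (fun h => absurd (Nat.le_of_dvd (Nat.pos_of_ne_zero hj0) h) (not_le.2 hj))
        exact this
      rw [this, Nat.div_one]
    have : ∀ i ∈ range r', φ (y * z ^ i) ^ j = φ y ^ j * φ (z ^ j) ^ i := by
      intro i _
      rw [← map_pow, (hyz.pow_right i).mul_pow, map_mul, map_pow, ← pow_mul, mul_comm i j,
        pow_mul, map_pow]
    rw [Finset.sum_congr rfl this, ← Finset.mul_sum, f1 _ hzo, mul_zero]
  · intro h
    exact absurd (Finset.mem_range.2 hr'.pos) h

end Cfsg.Agent.Lib.Helper17.NormTrick
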