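import Mathlib
import Cfsg.Agent.Lib.Helper17.NormTrick

/-!
# The norm trick (group level)

`V` an abelian normal subgroup of exponent `r` of a group `G`, `r' ≠ r` a prime, such that `G` has
no element of order `r * r'`.  Then
* `G` has no non-cyclic subgroup `⟨y, z⟩` of type `(r', r')` (unless `V = ⊥`);
* if moreover `G` has no element of order `r ^ 2`, no element of order `r` normalizes a subgroup
  of order `r'` (unless `V = ⊥`).
-/

set_option autoImplicit false

namespace Cfsg.Agent.Lib.Helper17.NormTrick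

open Finset

section abstract

variable {H A : Type*} [Group H] [CommGroup A]

/-- an action by automorphisms on an abelian group, as a map into the endomorphism ring. -/
noncomputable def actEnd (ρ : H →* MulAut A) : H →* AddMonoid.End (Additive A) where
  toFun := fun g => MonoidHom.toAdditive ((ρ g).toMonoidHom)
  map_one' := by
    ext v
    rw [map_one]
    rfl
  map_mul' := by
    intro g h
    ext v
    rw [map_mul]
    rfl

theorem actEnd_apply (ρ : H →* MulAut A) (g : H) (v : Additive A) :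
    actEnd ρ g v = Additive.ofMul (ρ g v.toMul) := rfl

theorem actEnd_pow_apply (ρ : H →* MulAut A) (g : H) (i : ℕ) (v : Additive A) :
    (actEnd ρ g ^ i) v = Additive.ofMul (ρ (g ^ i) v.toMul) := by
  rw [← map_pow, actEnd_apply]

/-- the norm of a fixed-point-free element vanishes. -/
theorem norm_eq_zero_of_fpf (ρ : H →* MulAut A) (g : H) (n : ℕ) (hn : g ^ n = 1)
    (hfix : ∀ a : A, ρ g a = a → a = 1) :
    ∑ i ∈ range n, actEnd ρ g ^ i = 0 := by
  ext v
  set w : Additive A := (∑ i ∈ range n, actEnd ρ g ^ i) v with hw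
  have h1 : actEnd ρ g w = w := by
    have e1 : actEnd ρ g w = (actEnd ρ g * ∑ i ∈ range n, actEnd ρ g ^ i) v := rfl
    rw [e1, Finset.mul_sum]
    have e2 : ∀ i ∈ range n, actEnd ρ g * actEnd ρ g ^ i = actEnd ρ g ^ (i + 1) := by
      intro i _
      rw [pow_succ']
    rw [Finset.sum_congr rfl e2]
    have e3 : actEnd ρ g ^ n = actEnd ρ g ^ 0 := by
      rw [← map_pow, hn, map_one, pow_zero]
    have e4 : ∑ x ∈ range n, actEnd ρ g ^ (x + 1) = ∑ x ∈ range n, actEnd ρ g ^ x := by
      have h1 := Finset.sum_range_succ' (fun i => actEnd ρ g ^ i) n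
      have h2 := Finset.sum_range_succ (fun i => actEnd ρ g ^ i) n
      rw [h1, e3] at h2
      exact add_right_cancel h2
    rw [e4]
  have h2 : ρ g w.toMul = w.toMul := by
    have := congrArg Additive.toMul h1
    rwa [actEnd_apply] at this
  have h3 := hfix _ h2
  change w = 0
  exact Additive.toMul.injective h3

end abstract

section concrete

variable {G : Type*} [Group G]

/-- from a vanishing natural number in the endomorphism ring to `V = ⊥`. -/
theorem eq_bot_of_natCast_eq_zero {A : Type*} [CommGroup A] {r r' : ℕ} (hr : r.Prime)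
    (hr' : r'.Prime) (hrr' : r ≠ r') (hA : ∀ a : A, a ^ r = 1)
    (h0 : ((r' : ℕ) : AddMonoid.End (Additive A)) = 0) (a : A) : a = 1 := by
  have h1 : ((r' : ℕ) : AddMonoid.End (Additive A)) (Additive.ofMul a) = 0 := by
    rw [h0]; rfl
  rw [AddMonoid.End.natCast_apply] at h1
  have h2 : a ^ r' = 1 := by
    have := congrArg Additive.toMul h1
    simpa using this
  have h3 : orderOf a ∣ Nat.gcd r r' :=
    Nat.dvd_gcd (orderOf_dvd_of_pow_eq_one (hA a)) (orderOf_dvd_of_pow_eq_one h2)
  rw [(Nat.coprime_primes hr hr').2 hrr'] at h3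
  exact orderOf_eq_one_iff.1 (Nat.dvd_one.1 h3)

theorem fpf_of_no_mixed (V : Subgroup G) [V.Normal] {r r' : ℕ} (hr : r.Prime) (hr' : r'.Prime)
    (hrr' : r ≠ r') (hV : ∀ v ∈ V, v ^ r = 1) (hmix : ∀ g : G, orderOf g ≠ r * r')
    (g : G) (hg : orderOf g = r') (a : V) (ha : MulAut.conjNormal g a = a) : a = 1 := by
  by_contra hne
  have hne' : (a : G) ≠ 1 := fun h => hne (Subtype.ext h)
  have hoa : orderOf (a : G) = r := orderOf_eq_prime (hp := ⟨hr⟩) (hV a a.2) hne'
  have hc : Commute g (a : G) := by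
    have := congrArg Subtype.val ha
    rw [MulAut.conjNormal_apply] at this
    have h2 : g * a = a * g := by
      calc g * a = g * a * g⁻¹ * g := by group
        _ = a * g := by rw [this]
    exact h2
  have := hc.orderOf_mul_eq_mul_orderOf_of_coprime
    (by rw [hg, hoa]; exact (Nat.coprime_primes hr' hr).2 (Ne.symm hrr'))
  rw [hg, hoa, mul_comm] at this
  exact hmix _ this

/-- abelian subgroups as commutative groups. -/
@[reducible] def commGroupOfFact (V : Subgroup G)
    [h : Fact (∀ a ∈ V, ∀ b ∈ V, a * b = b * a)] : CommGroup V :=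
  { (inferInstance : Group V) with
    mul_comm := fun a b => Subtype.ext (h.out a.1 a.2 b.1 b.2) }

attribute [local instance] commGroupOfFact

/-- `(v d)^k = (∏_{j<k} d^j v d^-j) d^k`, written with the endomorphism ring. -/
theorem coe_sum_mul_pow (V : Subgroup G) [V.Normal] [Fact (∀ a ∈ V, ∀ b ∈ V, a * b = b * a)]
    (d : G) (v : V) (k : ℕ) :
    ((Additive.toMul ((∑ j ∈ range k, actEnd (MulAut.conjNormal : G →* MulAut V) d ^ j)
      (Additive.ofMul v)) : V) : G) * d ^ k = ((v : G) * d) ^ k := by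
  induction k with
  | zero =>
    rw [Finset.range_zero, Finset.sum_empty, pow_zero, pow_zero, mul_one]
    rfl
  | succ k ih =>
    have e0 : ∀ (f g : AddMonoid.End (Additive V)) (x : Additive V), (f + g) x = f x + g x :=
      fun _ _ _ => rfl
    rw [Finset.sum_range_succ, e0, toMul_add, actEnd_pow_apply]
    rw [pow_succ ((v : G) * d), ← ih]
    simp only [toMul_ofMul]
    have e1 : ((MulAut.conjNormal (d ^ k) v : V) : G) = d ^ k * v * (d ^ k)⁻¹ :=
      MulAut.conjNormal_apply _ _
    set P : V := Additive.toMul ((∑ j ∈ range k, actEnd (MulAut.conjNormal : G →* MulAut V) d ^ j)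
      (Additive.ofMul v)) with hP
    have e2 : ((P * MulAut.conjNormal (d ^ k) v : V) : G)
        = (P : G) * (d ^ k * v * (d ^ k)⁻¹) := by
      rw [← e1]; rfl
    rw [e2, pow_succ]
    group

/-- NORM TRICK 1: no `C_r' × C_r'` acts on `V` without mixed-order elements. -/
theorem eq_bot_of_rank_two (V : Subgroup G) [V.Normal] (hVc : ∀ a ∈ V, ∀ b ∈ V, a * b = b * a)
    {r r' : ℕ} (hr : r.Prime) (hr' : r'.Prime) (hrr' : r ≠ r') (hV : ∀ v ∈ V, v ^ r = 1)
    (hmix : ∀ g : G, orderOf g ≠ r * r')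
    (y z : G) (hyz : Commute y z) (hy : orderOf y = r') (hz : orderOf z = r')
    (hnot : y ∉ Subgroup.zpowers z) : V = ⊥ := by
  have : Fact (∀ a ∈ V, ∀ b ∈ V, a * b = b * a) := ⟨hVc⟩
  have f1 : ∀ g : G, orderOf g = r' →
      ∑ i ∈ range r', actEnd (MulAut.conjNormal : G →* MulAut V) g ^ i = 0 := fun g hg =>
    norm_eq_zero_of_fpf _ g r' (hg ▸ pow_orderOf_eq_one g)
      (fun a ha => fpf_of_no_mixed V hr hr' hrr' hV hmix g hg a ha)
  have h0 := natCast_eq_zero_of_rank_two (actEnd (MulAut.conjNormal : G →* MulAut V)) hr' f1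
    y z hyz hy hz hnot
  rw [Subgroup.eq_bot_iff_forall]
  intro v hv
  have hV' : ∀ a : V, a ^ r = 1 := fun a => Subtype.ext (by simpa using hV a a.2)
  have := eq_bot_of_natCast_eq_zero hr hr' hrr' hV' h0 ⟨v, hv⟩
  exact congrArg Subtype.val this

/-- NORM TRICK 2: no element of order `r` normalizes a subgroup of order `r'`. -/
theorem eq_bot_of_frob (V : Subgroup G) [V.Normal] (hVc : ∀ a ∈ V, ∀ b ∈ V, a * b = b * a)
    {r r' : ℕ} (hr : r.Prime) (hr' : r'.Prime) (hrr' : r ≠ r') (hV : ∀ v ∈ V, v ^ r = 1)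
    (hmix : ∀ g : G, orderOf g ≠ r * r') (hsq : ∀ g : G, orderOf g ≠ r ^ 2)
    (x δ : G) (hx : orderOf x = r') (hδ : orderOf δ = r)
    (hnorm : δ ∈ Subgroup.normalizer (Subgroup.zpowers x : Set G)) : V = ⊥ := by
  have : Fact (∀ a ∈ V, ∀ b ∈ V, a * b = b * a) := ⟨hVc⟩
  have f1 : ∀ g : G, orderOf g = r' →
      ∑ i ∈ range r', actEnd (MulAut.conjNormal : G →* MulAut V) g ^ i = 0 := fun g hg =>
    norm_eq_zero_of_fpf _ g r' (hg ▸ pow_orderOf_eq_one g)
      (fun a ha => fpf_of_no_mixed V hr hr' hrr' hV hmix g hg a ha)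
  have f2 : ∀ d : G, orderOf d = r →
      ∑ j ∈ range r, actEnd (MulAut.conjNormal : G →* MulAut V) d ^ j = 0 := by
    intro d hd
    ext v
    have h1 := coe_sum_mul_pow V d (Additive.toMul v) r
    rw [← hd, pow_orderOf_eq_one, mul_one, hd] at h1
    set P : V := Additive.toMul ((∑ j ∈ range r, actEnd (MulAut.conjNormal : G →* MulAut V) d ^ j)
      (Additive.ofMul (Additive.toMul v))) with hP
    -- the element `u = v d` satisfies `u ^ r = P ∈ V`
    set u : G := ((Additive.toMul v : V) : G) * d with hu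
    have h2 : u ^ (r ^ 2) = 1 := by
      rw [pow_two, pow_mul, ← h1]
      exact hV _ P.2
    have h3 : orderOf u ∣ r ^ 2 := orderOf_dvd_of_pow_eq_one h2
    obtain ⟨m, hm, hmo⟩ := (Nat.dvd_prime_pow hr).1 h3
    have h4 : u ^ r = 1 := by
      interval_cases m
      · rw [pow_zero] at hmo
        rw [orderOf_eq_one_iff.1 hmo, one_pow]
      · rw [pow_one] at hmo
        rw [← hmo, pow_orderOf_eq_one]
      · exact absurd hmo (hsq u)
    rw [h4] at h1
    have h5 : P = 1 := Subtype.ext h1
    have h7 : ((Additive.toMul ((0 : AddMonoid.End (Additive V)) v) : V) : G) = 1 := rfl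
    rw [h7]
    exact congrArg Subtype.val h5
  have hnc : ∀ j, 0 < j → j < r → δ ^ j * x * (δ ^ j)⁻¹ ≠ x := by
    intro j hj0 hjr hcomm
    have hc : Commute (δ ^ j) x := by
      have h2 : δ ^ j * x = x * δ ^ j := by
        calc δ ^ j * x = δ ^ j * x * (δ ^ j)⁻¹ * δ ^ j := by group
          _ = x * δ ^ j := by rw [hcomm]
      exact h2
    have hoj : orderOf (δ ^ j) = r := by
      rw [orderOf_pow' δ hj0.ne', hδ]
      have : Nat.gcd r j = 1 := (Nat.Prime.coprime_iff_not_dvd hr).2
        (fun h => absurd (Nat.le_of_dvd hj0 h) (not_le.2 hjr))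
      rw [this, Nat.div_one]
    have := hc.orderOf_mul_eq_mul_orderOf_of_coprime
      (by rw [hoj, hx]; exact (Nat.coprime_primes hr hr').2 hrr')
    rw [hoj, hx] at this
    exact hmix _ this
  have h0 := natCast_eq_zero_of_frob (actEnd (MulAut.conjNormal : G →* MulAut V)) hr' f1 f2
    x δ hx hδ hr.pos hnorm hnc
  rw [Subgroup.eq_bot_iff_forall]
  intro v hv
  have hV' : ∀ a : V, a ^ r = 1 := fun a => Subtype.ext (by simpa using hV a a.2)
  have := eq_bot_of_natCast_eq_zero hr hr' hrr' hV' h0 ⟨v, hv⟩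
  exact congrArg Subtype.val this

end concrete

end Cfsg.Agent.Lib.Helper17.NormTrick
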