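import Mathlib
import Cfsg.Agent.Lib.Helper17.NormTrickGrp

/-!
K-N3 leaf C4c (S4004): `N(⟨c⟩) ≤ ⟨c⟩` by the norm trick (ring-level version in
`Cfsg.Agent.Lib.Helper17.NormTrick`).
-/

set_option autoImplicit false

namespace Cfsg.Agent.Lib.Helper17.N3

open Cfsg.Agent.Lib.Helper17.NormTrick

theorem pow_eq_one_of_hord {G : Type*} [Group G] (r r' : ℕ) (hr : r.Prime) (hr' : r'.Prime)
    (hrr : r ≠ r')
    (hord : ∀ g : G, orderOf g = 1 ∨ orderOf g = r ∨ orderOf g = r')
    (V : Subgroup G) (hVr : IsPGroup r V) : ∀ v ∈ V, v ^ r = 1 := by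
  intro v hv
  rcases hord v with h | h | h
  · rw [orderOf_eq_one_iff.1 h, one_pow]
  · rw [← h, pow_orderOf_eq_one]
  · exfalso
    obtain ⟨k, hk⟩ := hVr ⟨v, hv⟩
    have hk' : v ^ (r ^ k) = 1 := by
      have := congrArg Subtype.val hk
      simpa using this
    have h1 : r' ∣ r ^ k := h ▸ orderOf_dvd_of_pow_eq_one hk'
    have h2 : r' ∣ r := hr'.dvd_of_dvd_pow h1
    exact hrr ((Nat.prime_dvd_prime_iff_eq hr' hr).1 h2).symm

theorem no_mixed_of_hord {G : Type*} [Group G] (r r' : ℕ) (hr : r.Prime) (hr' : r'.Prime)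
    (hord : ∀ g : G, orderOf g = 1 ∨ orderOf g = r ∨ orderOf g = r') :
    ∀ g : G, orderOf g ≠ r * r' := by
  intro g hg
  have h2 := hr.two_le
  have h2' := hr'.two_le
  rcases hord g with h | h | h
  · rw [hg] at h; nlinarith
  · rw [hg] at h; nlinarith
  · rw [hg] at h; nlinarith

theorem no_sq_of_hord {G : Type*} [Group G] (r r' : ℕ) (hr : r.Prime) (hr' : r'.Prime)
    (hrr : r ≠ r')
    (hord : ∀ g : G, orderOf g = 1 ∨ orderOf g = r ∨ orderOf g = r') :
    ∀ g : G, orderOf g ≠ r ^ 2 := by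
  intro g hg
  have h2 := hr.two_le
  rcases hord g with h | h | h
  · rw [hg] at h; nlinarith
  · rw [hg] at h; nlinarith
  · rw [hg] at h
    have : r ∣ r' := ⟨r, by rw [← h, pow_two]⟩
    exact hrr ((Nat.prime_dvd_prime_iff_eq hr hr').1 this)

theorem normalizer_zpowers_le {G : Type*} [Group G] [Finite G] (r r' : ℕ) (hr : r.Prime) [Fact r'.Prime] (hrr : r ≠ r')
    (hord : ∀ g : G, orderOf g = 1 ∨ orderOf g = r ∨ orderOf g = r')
    (V : Subgroup G) (hVn : V.Normal) (hV : V ≠ ⊥) (hVr : IsPGroup r V) (hVc : ∀ a ∈ V, ∀ b ∈ V, a * b = b * a)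
    (hQ : ∀ Q : Sylow r' G, Nat.card Q = r') (c : G) (hc : orderOf c = r') :
    Subgroup.normalizer ((Subgroup.zpowers c : Subgroup G) : Set G) ≤ Subgroup.zpowers c := by
  have hr' : r'.Prime := Fact.out
  intro g hg
  rcases hord g with h | h | h
  · rw [orderOf_eq_one_iff.1 h]
    exact Subgroup.one_mem _
  · -- order `r`: norm trick
    exfalso
    have := hVn
    exact hV (eq_bot_of_frob V hVc hr hr' hrr (pow_eq_one_of_hord r r' hr hr' hrr hord V hVr)
      (no_mixed_of_hord r r' hr hr' hord) (no_sq_of_hord r r' hr hr' hrr hord) c g hc h hg)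
  · -- order `r'`: `⟨c⟩` is a Sylow subgroup
    have hcp : IsPGroup r' (Subgroup.zpowers c) := by
      apply IsPGroup.of_card (n := 1)
      rw [Nat.card_zpowers, hc, pow_one]
    obtain ⟨Q, hQc⟩ := hcp.exists_le_sylow
    have hQeq : Subgroup.zpowers c = (Q : Subgroup G) := by
      apply Subgroup.eq_of_le_of_card_ge hQc
      rw [hQ Q, Nat.card_zpowers, hc]
    have hgp : IsPGroup r' (Subgroup.zpowers g) := by
      apply IsPGroup.of_card (n := 1)
      rw [Nat.card_zpowers, h, pow_one]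
    have h1 := hgp.inf_normalizer_sylow Q
    have h2 : g ∈ Subgroup.zpowers g ⊓ Subgroup.normalizer ((Q : Subgroup G) : Set G) := by
      refine ⟨Subgroup.mem_zpowers g, ?_⟩
      rw [← hQeq]
      exact hg
    have h3 : g ∈ Subgroup.zpowers g ⊓ (Q : Subgroup G) := by
      rw [← h1]
      exact h2
    rw [hQeq]
    exact h3.2

end Cfsg.Agent.Lib.Helper17.N3
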