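import Mathlib

set_option autoImplicit false

namespace Cfsg.Agent.Lib.Helper17

open MulAction SubMulAction
open scoped Pointwise

variable {G : Type*} [Group G] {X : Type*} [MulAction G X]

/-- injectivity of `n ↦ n • x₀` on a subgroup with trivial stabiliser -/
theorem smul_inj_of_stabilizer_eq_bot (N : Subgroup G) (x₀ : X)
    (hreg : stabilizer N x₀ = ⊥) {n m : G} (hn : n ∈ N) (hm : m ∈ N)
    (h : n • x₀ = m • x₀) : n = m := by
  have h1 : (⟨m⁻¹ * n, N.mul_mem (N.inv_mem hm) hn⟩ : N) ∈ stabilizer N x₀ := by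
    rw [mem_stabilizer_iff]
    change (m⁻¹ * n) • x₀ = x₀
    rw [mul_smul, h, inv_smul_smul]
  rw [hreg, Subgroup.mem_bot] at h1
  have h2 : m⁻¹ * n = 1 := congrArg Subtype.val h1
  exact (inv_mul_eq_one.mp h2).symm

/-- `g • n • x₀ = (g n g⁻¹) • x₀` for `g` in the stabiliser of `x₀` -/
theorem smul_smul_eq_conj_smul (x₀ : X) {g : G} (hg : g • x₀ = x₀) (n : G) :
    g • n • x₀ = (g * n * g⁻¹) • x₀ := by
  have hg' : g⁻¹ • x₀ = x₀ := by rw [inv_smul_eq_iff, hg]
  rw [mul_smul, mul_smul, hg']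

/-- the pair `{n x₀, n⁻¹ x₀}` -/
def invPair (x₀ : X) (n : G) : Set X := {n • x₀, n⁻¹ • x₀}

theorem smul_invPair (x₀ : X) {g : G} (hg : g • x₀ = x₀) (n : G) :
    g • invPair x₀ n = invPair x₀ (g * n * g⁻¹) := by
  unfold invPair
  rw [Set.smul_set_insert, Set.smul_set_singleton, smul_smul_eq_conj_smul x₀ hg,
    smul_smul_eq_conj_smul x₀ hg]
  congr 2
  group

theorem invPair_inv (x₀ : X) (n : G) : invPair x₀ n⁻¹ = invPair x₀ n := by
  unfold invPair
  rw [inv_inv, Set.pair_comm]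

/-- The pair `{n x₀, n⁻¹ x₀}` is a block for the stabiliser of `x₀`, when `N` is a regular
normal subgroup. -/
theorem isBlock_invPair (N : Subgroup G) [hN : N.Normal] (x₀ : X)
    (hreg : stabilizer N x₀ = ⊥) {n : G} (hn : n ∈ N) :
    IsBlock (stabilizer G x₀) (invPair x₀ n) := by
  rw [isBlock_iff_smul_eq_of_mem]
  intro g a ha hga
  have hg : (g : G) • x₀ = x₀ := g.2
  have hsm : g • invPair x₀ n = invPair x₀ ((g : G) * n * (g : G)⁻¹) := smul_invPair x₀ hg n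
  rw [hsm]
  have hn' : (g : G) * n * (g : G)⁻¹ ∈ N := hN.conj_mem n hn g
  have hgn : ∀ m : G, g • (m • x₀) = ((g : G) * m * (g : G)⁻¹) • x₀ :=
    fun m => smul_smul_eq_conj_smul x₀ hg m
  have hinv : ((g : G) * n * (g : G)⁻¹)⁻¹ = (g : G) * n⁻¹ * (g : G)⁻¹ := by group
  rcases ha with rfl | rfl
  · rw [hgn] at hga
    rcases hga with h | h
    · have := smul_inj_of_stabilizer_eq_bot N x₀ hreg hn' hn h
      rw [this]
    · have := smul_inj_of_stabilizer_eq_bot N x₀ hreg hn' (N.inv_mem hn) h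
      rw [this, invPair_inv]
  · rw [hgn] at hga
    have hn'' : (g : G) * n⁻¹ * (g : G)⁻¹ ∈ N := hN.conj_mem n⁻¹ (N.inv_mem hn) g
    rcases hga with h | h
    · have := smul_inj_of_stabilizer_eq_bot N x₀ hreg hn'' hn h
      rw [← invPair_inv, hinv, this]
    · have := smul_inj_of_stabilizer_eq_bot N x₀ hreg hn'' (N.inv_mem hn) h
      rw [← invPair_inv, hinv, this, invPair_inv]

end Cfsg.Agent.Lib.Helper17

namespace Cfsg.Agent.Lib.Helper17

open MulAction SubMulAction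
open scoped Pointwise

variable {G : Type*} [Group G] {X : Type*} [MulAction G X]

/-- the pair `{n x₀, n n₁ x₀}` -/
def mulPair (x₀ : X) (n₁ n : G) : Set X := {n • x₀, (n * n₁) • x₀}

theorem mulPair_mul (x₀ : X) {n₁ : G} (h1 : n₁ * n₁ = 1) (n : G) :
    mulPair x₀ n₁ (n * n₁) = mulPair x₀ n₁ n := by
  unfold mulPair
  rw [mul_assoc, h1, mul_one, Set.pair_comm]

/-- The pair `{n x₀, n n₁ x₀}` is a block for the two-point stabiliser of `x₀, n₁ x₀`, when `N`
is a regular normal subgroup and `n₁` an involution of `N`. -/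
theorem isBlock_mulPair (N : Subgroup G) [hN : N.Normal] (x₀ : X)
    (hreg : stabilizer N x₀ = ⊥) {n₁ : G} (hn₁ : n₁ ∈ N) (h1 : n₁ * n₁ = 1) {n : G} (hn : n ∈ N) :
    IsBlock (fixingSubgroup G ({x₀, n₁ • x₀} : Set X)) (mulPair x₀ n₁ n) := by
  rw [isBlock_iff_smul_eq_of_mem]
  intro g a ha hga
  have hgmem := (mem_fixingSubgroup_iff G).mp g.2
  have hg : (g : G) • x₀ = x₀ := hgmem x₀ (by simp)
  have hgy : (g : G) • n₁ • x₀ = n₁ • x₀ := hgmem (n₁ • x₀) (by simp)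
  have hconj1 : (g : G) * n₁ * (g : G)⁻¹ = n₁ := by
    apply smul_inj_of_stabilizer_eq_bot N x₀ hreg (hN.conj_mem n₁ hn₁ g) hn₁
    rw [← smul_smul_eq_conj_smul x₀ hg, hgy]
  have hgn : ∀ m : G, g • (m • x₀) = ((g : G) * m * (g : G)⁻¹) • x₀ :=
    fun m => smul_smul_eq_conj_smul x₀ hg m
  have hmul : ∀ m : G, (g : G) * (m * n₁) * (g : G)⁻¹ = ((g : G) * m * (g : G)⁻¹) * n₁ := by
    intro m
    calc (g : G) * (m * n₁) * (g : G)⁻¹
        = ((g : G) * m * (g : G)⁻¹) * ((g : G) * n₁ * (g : G)⁻¹) := by group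
      _ = ((g : G) * m * (g : G)⁻¹) * n₁ := by rw [hconj1]
  have hsm : g • mulPair x₀ n₁ n = mulPair x₀ n₁ ((g : G) * n * (g : G)⁻¹) := by
    unfold mulPair
    rw [Set.smul_set_insert, Set.smul_set_singleton, hgn, hgn, hmul]
  rw [hsm]
  have hn' : (g : G) * n * (g : G)⁻¹ ∈ N := hN.conj_mem n hn g
  have hinv1 : n₁⁻¹ = n₁ := inv_eq_of_mul_eq_one_left h1
  rcases ha with rfl | rfl
  · rw [hgn] at hga
    rcases hga with h | h
    · have := smul_inj_of_stabilizer_eq_bot N x₀ hreg hn' hn h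
      rw [this]
    · have := smul_inj_of_stabilizer_eq_bot N x₀ hreg hn' (N.mul_mem hn hn₁) h
      rw [this, mulPair_mul x₀ h1]
  · rw [hgn, hmul] at hga
    rcases hga with h | h
    · have := smul_inj_of_stabilizer_eq_bot N x₀ hreg (N.mul_mem hn' hn₁) hn h
      have h2 : (g : G) * n * (g : G)⁻¹ = n * n₁ := by
        calc (g : G) * n * (g : G)⁻¹
            = ((g : G) * n * (g : G)⁻¹ * n₁) * n₁ := by rw [mul_assoc _ n₁ n₁, h1, mul_one]
          _ = n * n₁ := by rw [this]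
      rw [h2, mulPair_mul x₀ h1]
    · have := smul_inj_of_stabilizer_eq_bot N x₀ hreg (N.mul_mem hn' hn₁) (N.mul_mem hn hn₁) h
      rw [mul_right_cancel this]

end Cfsg.Agent.Lib.Helper17
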