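import Mathlib
import Cfsg.Agent.Lib.Helper17.MultTrans
import Cfsg.Agent.S0695

set_option autoImplicit false

namespace Cfsg.Agent.Lib.Helper17

open MulAction SubMulAction

variable {G α : Type*} [Group G] [MulAction G α]

/-- `N ∩ G_(s)` is transitive off `s`. -/
def TransOff (N : Subgroup G) (s : Set α) : Prop :=
  ∀ x y, x ∉ s → y ∉ s → ∃ n ∈ N, (∀ z ∈ s, n • z = z) ∧ n • x = y

theorem isPretransitive_fixingSubgroup_of_transOff (N : Subgroup G) (s : Set α)
    (h : TransOff N s) : IsPretransitive (fixingSubgroup N s) (ofFixingSubgroup N s) := by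
  constructor
  intro x y
  obtain ⟨n, hn, hfix, hxy⟩ := h x.1 y.1 (not_mem_of_mem_ofFixingSubgroup x)
    (not_mem_of_mem_ofFixingSubgroup y)
  refine ⟨⟨⟨n, hn⟩, ?_⟩, ?_⟩
  · rw [mem_fixingSubgroup_iff]
    intro z hz
    exact hfix z hz
  · apply Subtype.ext
    exact hxy

/-- Lemma A: transitivity of `N ∩ G_(s)` off `s` for all small `s` gives multiple
transitivity of `N`. -/
theorem isMultiplyPretransitive_of_transOff [Finite α] (N : Subgroup G) (m : ℕ)
    (h : ∀ s : Set α, s.ncard < m → TransOff N s) : IsMultiplyPretransitive N α m := by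
  induction m with
  | zero => exact is_zero_pretransitive'
  | succ m ih =>
    have hm : IsMultiplyPretransitive N α m := ih (fun s hs => h s (by omega))
    by_cases hcard : m ≤ Nat.card α
    · obtain ⟨s, -, hs⟩ : ∃ s ⊆ (Set.univ : Set α), s.ncard = m :=
        Set.exists_subset_card_eq (by rw [Set.ncard_univ]; exact hcard)
      have h1 : IsMultiplyPretransitive (fixingSubgroup N s) (ofFixingSubgroup N s) 1 := by
        rw [is_one_pretransitive_iff]
        exact isPretransitive_fixingSubgroup_of_transOff N s (h s (by omega))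
      exact isMultiplyPretransitive_add_of_fixingSubgroup m 1 s hs hm h1
    · constructor
      intro x
      exfalso
      have := Nat.card_le_card_of_injective x x.injective
      rw [Nat.card_eq_fintype_card, Fintype.card_fin] at this
      omega

/-- Lemma B: a normal subgroup acting non-trivially off `s` is transitive off `s` when
`G_(s)` is primitive on the complement. -/
theorem transOff_of_isPreprimitive (N : Subgroup G) [N.Normal] (s : Set α)
    (hprim : IsPreprimitive (fixingSubgroup G s) (ofFixingSubgroup G s))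
    (hne : ∃ n ∈ N, (∀ z ∈ s, n • z = z) ∧ ∃ x : α, n • x ≠ x) : TransOff N s := by
  have hfp : fixedPoints (N.subgroupOf (fixingSubgroup G s)) (ofFixingSubgroup G s) ≠ .univ := by
    obtain ⟨n, hn, hfix, x, hx⟩ := hne
    intro htop
    have hxs : x ∉ s := fun hxs => hx (hfix x hxs)
    have h1 : (⟨x, hxs⟩ : ofFixingSubgroup G s) ∈
        fixedPoints (N.subgroupOf (fixingSubgroup G s)) (ofFixingSubgroup G s) := by
      rw [htop]; trivial
    have h2 := h1 ⟨⟨n, (mem_fixingSubgroup_iff G).mpr hfix⟩, Subgroup.mem_subgroupOf.mpr hn⟩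
    exact hx (congrArg Subtype.val h2)
  have htr : IsPretransitive (N.subgroupOf (fixingSubgroup G s)) (ofFixingSubgroup G s) :=
    IsQuasiPreprimitive.isPretransitive_of_normal hfp
  intro x y hx hy
  obtain ⟨g, hg⟩ := htr.exists_smul_eq ⟨x, hx⟩ ⟨y, hy⟩
  exact ⟨g.1.1, Subgroup.mem_subgroupOf.mp g.2,
    fun z hz => (mem_fixingSubgroup_iff G).mp g.1.2 z hz, congrArg Subtype.val hg⟩

/-- Lemma D: in a `k`-transitive action the pointwise stabiliser of fewer than `k` points is
transitive on the remaining points. -/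
theorem transOff_top_of_isMultiplyPretransitive [Finite α] {k : ℕ}
    (hk : IsMultiplyPretransitive G α k) (hkα : k ≤ Nat.card α) (S : Set α)
    (hS : S.ncard < k) : TransOff (⊤ : Subgroup G) S := by
  have hkα' : (k : ENat) ≤ ENat.card α := by
    have := Fintype.ofFinite α
    rw [ENat.card_eq_coe_fintype_card, ← Nat.card_eq_fintype_card]
    exact_mod_cast hkα
  have h1 := ofFixingSubgroup.isMultiplyPretransitive' (G := G) (m := 1) (n := k) S
    (by omega) hkα'
  rw [is_one_pretransitive_iff] at h1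
  intro x y hx hy
  obtain ⟨g, hg⟩ := h1.exists_smul_eq ⟨x, hx⟩ ⟨y, hy⟩
  exact ⟨g.1, trivial, fun z hz => (mem_fixingSubgroup_iff G).mp g.2 z hz,
    congrArg Subtype.val hg⟩

theorem card_ofFixingSubgroup [Finite α] (s : Set α) :
    Nat.card (ofFixingSubgroup G s) + s.ncard = Nat.card α := by
  have h1 : Nat.card (ofFixingSubgroup G s) = (sᶜ : Set α).ncard := by
    rw [← _root_.Nat.card_coe_set_eq]
    rfl
  rw [h1, add_comm]
  exact Set.ncard_add_ncard_compl s

/-- Lemma C: the regular case, via S0695. -/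
theorem regular_cases [Finite α] (N : Subgroup G) [N.Normal] (s : Set α)
    (h2 : IsMultiplyPreprimitive (fixingSubgroup G s) (ofFixingSubgroup G s) 2)
    (hcard : s.ncard + 2 ≤ Nat.card α) (htr : TransOff N s)
    (hreg : ∀ n ∈ N, (∀ z ∈ s, n • z = z) → ∀ x : α, x ∉ s → n • x = x → n = 1) :
    Nat.card α = s.ncard + 3 ∨
      ((∀ n ∈ N, (∀ z ∈ s, n • z = z) → n ^ 2 = 1) ∧ ∃ m : ℕ, Nat.card α = s.ncard + 2 ^ m) := by
  haveI : Fintype (ofFixingSubgroup G s) := Fintype.ofFinite _
  have hc := card_ofFixingSubgroup (G := G) s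
  rw [Nat.card_eq_fintype_card] at hc
  have hX : 2 ≤ Fintype.card (ofFixingSubgroup G s) := by omega
  have htrans : IsPretransitive (N.subgroupOf (fixingSubgroup G s)) (ofFixingSubgroup G s) := by
    constructor
    intro x y
    obtain ⟨n, hn, hfix, hxy⟩ := htr x.1 y.1 (not_mem_of_mem_ofFixingSubgroup x)
      (not_mem_of_mem_ofFixingSubgroup y)
    refine ⟨⟨⟨n, (mem_fixingSubgroup_iff G).mpr hfix⟩, Subgroup.mem_subgroupOf.mpr hn⟩, ?_⟩
    apply Subtype.ext
    exact hxy
  have hreg' : ∀ x : ofFixingSubgroup G s,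
      stabilizer (N.subgroupOf (fixingSubgroup G s)) x = ⊥ := by
    intro x
    rw [eq_bot_iff]
    intro n hn
    rw [Subgroup.mem_bot]
    have hn1 : n.1.1 = 1 := by
      apply hreg n.1.1 (Subgroup.mem_subgroupOf.mp n.2)
        (fun z hz => (mem_fixingSubgroup_iff G).mp n.1.2 z hz) x.1
        (not_mem_of_mem_ofFixingSubgroup x)
      exact congrArg Subtype.val (mem_stabilizer_iff.mp hn)
    apply Subtype.ext
    apply Subtype.ext
    exact hn1
  rcases Cfsg.Agent.S0695.result hX h2 (N.subgroupOf (fixingSubgroup G s)) htrans hreg' with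
    h | ⟨-, hsq, m, hm⟩
  · left; omega
  · right
    refine ⟨?_, m, by omega⟩
    intro n hn hfix
    have := hsq ⟨n, (mem_fixingSubgroup_iff G).mpr hfix⟩ (Subgroup.mem_subgroupOf.mpr hn)
    exact congrArg Subtype.val this

end Cfsg.Agent.Lib.Helper17
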