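import Mathlib
import Cfsg.Agent.S3995
import Cfsg.Agent.S0497

/-!
# K-NSE pack (S3431), leaf 343115 D6: recognition of `A_6`
-/

set_option autoImplicit false
set_option linter.unusedSectionVars false

namespace Cfsg.Agent.Lib.Helper17.Nse

open Cfsg.Agent.S3995 (s)

variable {G : Type*} [Group G] [Finite G]

/-- all element orders are at most 5 -/
theorem d6_orderOf_le (hsp : ∀ m, s G m ≠ 0 → m ≤ 5) (g : G) : orderOf g ≤ 5 :=
  hsp _ ((Cfsg.Agent.S3995.s_ne_zero_iff _).mpr ⟨g, rfl⟩)

/-- an element of order 5 commutes with no nontrivial element of order prime to 5 -/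
theorem d6_no_comm (hsp : ∀ m, s G m ≠ 0 → m ≤ 5) {y t : G} (hy : orderOf y = 5)
    (ht : (orderOf t).Coprime 5) (hcomm : Commute y t) : t = 1 := by
  by_contra ht1
  have hord : orderOf (y * t) = orderOf y * orderOf t :=
    hcomm.orderOf_mul_eq_mul_orderOf_of_coprime (by rw [hy]; exact ht.symm)
  have hle := d6_orderOf_le hsp (y * t)
  rw [hord, hy] at hle
  have h2 : 2 ≤ orderOf t := by
    have hpos : 0 < orderOf t := orderOf_pos t
    have hne : orderOf t ≠ 1 := fun h => ht1 (orderOf_eq_one_iff.mp h)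
    omega
  omega

/-- if the index of the normal subgroup `K` is prime to `orderOf g` then `g ∈ K` -/
theorem d6_mem_of_coprime (K : Subgroup G) [K.Normal] (g : G) (h : (orderOf g).Coprime K.index) :
    g ∈ K := by
  rw [← QuotientGroup.eq_one_iff, ← orderOf_eq_one_iff]
  have h1 : orderOf (g : G ⧸ K) ∣ orderOf g := orderOf_map_dvd (QuotientGroup.mk' K) g
  have h2 : orderOf (g : G ⧸ K) ∣ K.index := by
    rw [Subgroup.index_eq_card]; exact orderOf_dvd_natCard _
  exact Nat.eq_one_of_dvd_coprimes h h1 h2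

theorem d6_ncard (m : ℕ) : Set.ncard {g : G | orderOf g = m} = s G m := by
  unfold Cfsg.Agent.S3995.s
  rw [← Nat.card_coe_set_eq]
  rfl

/-- case `5 ∣ |K|` -/
theorem d6_caseA (hN : Nat.card G = 360) (h3 : s G 3 = 80) (h5 : s G 5 = 144)
    (K : Subgroup G) [K.Normal] (hK5 : 5 ∣ Nat.card K) (hKtop : K ≠ ⊤) : False := by
  have hci := K.card_mul_index
  rw [hN] at hci
  have hidx1 : K.index ≠ 1 := fun h => hKtop (Subgroup.index_eq_one.mp h)
  have hidx0 : K.index ≠ 0 := Subgroup.index_ne_zero_of_finite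
  -- 5 does not divide the index
  have h5idx : ¬ 5 ∣ K.index := by
    intro h
    obtain ⟨a, ha⟩ := hK5
    obtain ⟨b, hb⟩ := h
    rw [ha, hb] at hci
    have : 25 * (a * b) = 360 := by nlinarith
    omega
  -- elements of order 5 are in K
  have hS5 : {g : G | orderOf g = 5} ⊆ (K : Set G) := by
    intro g hg
    apply d6_mem_of_coprime K g
    rw [Set.mem_ofPred_eq.mp hg]
    exact (Nat.Prime.coprime_iff_not_dvd (by norm_num)).mpr h5idx
  have h1K : (1 : G) ∈ (K : Set G) := K.one_mem
  have hcardK : Set.ncard (K : Set G) = Nat.card K := by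
    rw [← Nat.card_coe_set_eq]; rfl
  have hfinK : (K : Set G).Finite := Set.toFinite _
  have h145 : 145 ≤ Nat.card K := by
    have hsub : insert (1 : G) {g : G | orderOf g = 5} ⊆ (K : Set G) :=
      Set.insert_subset h1K hS5
    have hle := Set.ncard_le_ncard hsub hfinK
    rw [Set.ncard_insert_of_notMem (by
      intro h; rw [Set.mem_ofPred_eq, orderOf_one] at h; omega) (Set.toFinite _),
      d6_ncard, h5, hcardK] at hle
    omega
  have hidx2 : K.index = 2 := by
    have hle : K.index ≤ 2 := by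
      by_contra hc
      have : 3 ≤ K.index := by omega
      nlinarith
    have : 1 ≤ K.index := Nat.one_le_iff_ne_zero.mpr hidx0
    omega
  have hK180 : Nat.card K = 180 := by rw [hidx2] at hci; omega
  have hS3 : {g : G | orderOf g = 3} ⊆ (K : Set G) := by
    intro g hg
    apply d6_mem_of_coprime K g
    rw [Set.mem_ofPred_eq.mp hg, hidx2]
    norm_num
  have hdisj : Disjoint {g : G | orderOf g = 3} {g : G | orderOf g = 5} := by
    rw [Set.disjoint_left]
    intro g h3' h5'
    rw [Set.mem_ofPred_eq] at h3' h5'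
    omega
  have hsub : {g : G | orderOf g = 3} ∪ {g : G | orderOf g = 5} ⊆ (K : Set G) :=
    Set.union_subset hS3 hS5
  have hle := Set.ncard_le_ncard hsub hfinK
  rw [Set.ncard_union_eq hdisj (Set.toFinite _) (Set.toFinite _), d6_ncard, d6_ncard, h3, h5, hcardK,
    hK180] at hle
  omega

/-- case `5 ∤ |K|` -/
theorem d6_caseB (hN : Nat.card G = 360) (hsp : ∀ m, s G m ≠ 0 → m ≤ 5)
    (K : Subgroup G) [K.Normal] (hK5 : ¬ 5 ∣ Nat.card K) (hKbot : K ≠ ⊥) : False := by
  classical
  have hci := K.card_mul_index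
  rw [hN] at hci
  have hKcard : Nat.card K ∣ 360 := Dvd.intro _ hci
  have h5idx : 5 ∣ K.index := by
    have h5 : (5 : ℕ) ∣ Nat.card K * K.index := by rw [hci]; norm_num
    exact ((Nat.Prime.dvd_mul (by norm_num)).mp h5).resolve_left hK5
  -- a prime divisor `r` of `|K|`
  have hK1 : Nat.card K ≠ 1 := by
    intro h
    exact hKbot (Subgroup.card_eq_one.mp h)
  obtain ⟨r, hr, hrK⟩ := Nat.exists_prime_and_dvd hK1
  have : Fact r.Prime := ⟨hr⟩
  have hr5 : r ≠ 5 := fun h => hK5 (h ▸ hrK)
  -- Sylow `r`-subgroup of `K`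
  obtain ⟨P⟩ : Nonempty (Sylow r K) := inferInstance
  have hfrat := Sylow.normalizer_sup_eq_top P
  set T : Subgroup G := (P : Subgroup K).map K.subtype with hT
  -- |T| = r ^ j, j ≥ 1, r ^ j ∣ |K|
  have hTcard : Nat.card T = Nat.card (P : Subgroup K) :=
    Nat.card_congr ((P : Subgroup K).equivMapOfInjective K.subtype K.subtype_injective).symm.toEquiv
  have hPdvd : Nat.card (P : Subgroup K) ∣ Nat.card K := Subgroup.card_subgroup_dvd_card _
  have hrP : r ∣ Nat.card (P : Subgroup K) := P.dvd_card_of_dvd_card hrK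
  obtain ⟨j, hj⟩ := IsPGroup.iff_card.mp P.isPGroup'
  -- the normalizer of `T` has order divisible by 5
  set M : Subgroup G := Subgroup.normalizer (T : Set G) with hM
  have hsurj : Function.Surjective ((QuotientGroup.mk' K).comp M.subtype) := by
    intro q
    obtain ⟨g, rfl⟩ := QuotientGroup.mk_surjective q
    have hg : g ∈ M ⊔ K := by rw [hfrat]; exact Subgroup.mem_top g
    rw [← SetLike.mem_coe, Subgroup.mul_normal] at hg
    obtain ⟨m, hm, k, hk, rfl⟩ := Set.mem_mul.mp hg
    refine ⟨⟨m, hm⟩, ?_⟩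
    change ((m : G) : G ⧸ K) = ((m * k : G) : G ⧸ K)
    rw [QuotientGroup.mk_mul, (QuotientGroup.eq_one_iff k).mpr hk, mul_one]
  have h5M : 5 ∣ Nat.card M := by
    have := Subgroup.card_dvd_of_surjective _ hsurj
    rw [← Subgroup.index_eq_card] at this
    exact dvd_trans h5idx this
  have : Fact (Nat.Prime 5) := ⟨by norm_num⟩
  obtain ⟨y, hy⟩ := exists_prime_orderOf_dvd_card' 5 h5M
  have hyG : orderOf (y : G) = 5 := by rw [Subgroup.orderOf_coe]; exact hy
  -- conjugation by `y` on `T`
  have hyT : ∀ t : G, t ∈ T → (y : G) * t * (y : G)⁻¹ ∈ T := by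
    intro t ht
    have hyM : (y : G) ∈ Subgroup.normalizer (T : Set G) := y.2
    rw [Subgroup.mem_normalizer_iff] at hyM
    exact (hyM t).mp ht
  let f : Function.End ↥T := fun t => ⟨(y : G) * t * (y : G)⁻¹, hyT t t.2⟩
  have hfpow : ∀ n : ℕ, ∀ t : ↥T, (((f ^ n) t : ↥T) : G) = (y : G) ^ n * t * ((y : G) ^ n)⁻¹ := by
    intro n
    induction n with
    | zero =>
      intro t
      rw [pow_zero, pow_zero]
      change (t : G) = _
      simp
    | succ n ih =>
      intro t
      have hstep : ((f ^ (n + 1)) t) = f ((f ^ n) t) := by rw [pow_succ']; rfl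
      rw [hstep]
      change (y : G) * (((f ^ n) t : ↥T) : G) * (y : G)⁻¹ = _
      rw [ih t, pow_succ']
      group
  have hf5 : f ^ 5 ^ 1 = 1 := by
    funext t
    apply Subtype.ext
    change (((f ^ 5 ^ 1) t : ↥T) : G) = (t : G)
    rw [pow_one, hfpow 5 t, ← hyG, pow_orderOf_eq_one]
    simp
  letI : Fintype ↥T := Fintype.ofFinite _
  letI : Fintype (Function.fixedPoints f) := Fintype.ofFinite _
  have hmod := Equiv.Perm.card_fixedPoints_modEq (p := 5) (n := 1) hf5
  rw [Fintype.card_eq_nat_card, Fintype.card_eq_nat_card] at hmod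
  -- the number of fixed points is not 1
  have hTcard' : Nat.card ↥T = r ^ j := by
    rw [hTcard, hj]
  have hj1 : j ≠ 0 := by
    intro h0
    rw [hj, h0, pow_zero] at hrP
    exact hr.one_lt.ne' (Nat.dvd_one.mp hrP)
  have hrj360 : r ^ j ∣ 360 := by rw [← hj]; exact dvd_trans hPdvd hKcard
  have hnot1 : r ^ j % 5 ≠ 1 := by
    have hr360 : r ∣ 360 := dvd_trans (dvd_pow_self r hj1) hrj360
    have hrle : r ≤ 360 := Nat.le_of_dvd (by norm_num) hr360
    have hr235 : r = 2 ∨ r = 3 := by
      have h360 : (360 : ℕ) = 2 ^ 3 * 3 ^ 2 * 5 := by norm_num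
      rw [h360] at hr360
      rcases (Nat.Prime.dvd_mul hr).mp hr360 with h | h
      · rcases (Nat.Prime.dvd_mul hr).mp h with h | h
        · left; exact (Nat.prime_dvd_prime_iff_eq hr (by norm_num)).mp (hr.dvd_of_dvd_pow h)
        · right; exact (Nat.prime_dvd_prime_iff_eq hr (by norm_num)).mp (hr.dvd_of_dvd_pow h)
      · exact absurd ((Nat.prime_dvd_prime_iff_eq hr (by norm_num)).mp h) hr5
    rcases hr235 with rfl | rfl
    · have hj3 : j ≤ 3 := by
        by_contra hc
        have : 2 ^ 4 ∣ 360 := dvd_trans (pow_dvd_pow 2 (by omega)) hrj360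
        omega
      interval_cases j <;> simp_all
    · have hj2 : j ≤ 2 := by
        by_contra hc
        have : 3 ^ 3 ∣ 360 := dvd_trans (pow_dvd_pow 3 (by omega)) hrj360
        omega
      interval_cases j <;> simp_all
  -- so there is a nontrivial fixed point
  have hfix : ∃ t : ↥T, t ∈ Function.fixedPoints f ∧ t ≠ 1 := by
    by_contra hc
    have hall : ∀ t : ↥T, t ∈ Function.fixedPoints f → t = 1 := by
      intro t ht
      by_contra h1
      exact hc ⟨t, ht, h1⟩
    have h1fix : (1 : ↥T) ∈ Function.fixedPoints f := by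
      change f 1 = 1
      apply Subtype.ext
      change (y : G) * ((1 : ↥T) : G) * (y : G)⁻¹ = ((1 : ↥T) : G)
      simp
    have hcard1 : Nat.card (Function.fixedPoints f) = 1 := by
      rw [Nat.card_eq_one_iff_exists]
      exact ⟨⟨1, h1fix⟩, fun t => Subtype.ext (hall t.1 t.2)⟩
    rw [hcard1, hTcard'] at hmod
    exact hnot1 hmod
  obtain ⟨t, htfix, ht1⟩ := hfix
  have hcomm : Commute (y : G) (t : G) := by
    have : f t = t := htfix
    have h2 : (y : G) * t * (y : G)⁻¹ = t := congrArg Subtype.val this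
    have : (y : G) * t = t * y := by
      calc (y : G) * t = (y : G) * t * (y : G)⁻¹ * y := by group
        _ = t * y := by rw [h2]
    exact this
  have htord : (orderOf (t : G)).Coprime 5 := by
    have h1 : orderOf (t : G) ∣ r ^ j := by
      rw [← hTcard', Subgroup.orderOf_coe]
      exact orderOf_dvd_natCard t
    have h2 : (r ^ j).Coprime 5 := by
      apply Nat.Coprime.pow_left
      exact (Nat.coprime_primes hr (by norm_num)).mpr hr5
    exact Nat.Coprime.coprime_dvd_left h1 h2
  have := d6_no_comm hsp hyG htord hcomm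
  exact ht1 (Subtype.ext this)

/-- 343115 D6: recognition of `A_6`. -/
theorem recog_A6 {G : Type*} [Group G] [Finite G] (hN : Nat.card G = 360) (h3 : Cfsg.Agent.S3995.s G 3 = 80)
    (h5 : Cfsg.Agent.S3995.s G 5 = 144) (hsp : ∀ m, Cfsg.Agent.S3995.s G m ≠ 0 → m ≤ 5) :
    Nonempty (G ≃* ↥(alternatingGroup (Fin 6))) := by
  have : Nontrivial G := by
    apply (Finite.one_lt_card_iff_nontrivial).mp
    rw [hN]; norm_num
  have : IsSimpleGroup G := by
    refine ⟨fun K hK => ?_⟩
    have := hK
    by_contra hc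
    push Not at hc
    by_cases hK5 : 5 ∣ Nat.card K
    · exact d6_caseA hN h3 h5 K hK5 hc.2
    · exact d6_caseB hN hsp K hK5 hc.1
  exact Cfsg.Agent.S0497.result hN

end Cfsg.Agent.Lib.Helper17.Nse
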