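import Mathlib
import Cfsg.Agent.Lib.Helper17.Centralizer

set_option autoImplicit false

namespace Cfsg.Agent.Lib.Helper17

open MulAction Subgroup

/-- If every element of odd order of `A` is mapped by the surjection `π` into a solvable subgroup
`D₀` of `Q`, then `Q` is solvable. -/
theorem solvable_of_odd_in_solvable {A Q : Type*} [Group A] [Finite A] [Group Q]
    (π : A →* Q) (hπ : Function.Surjective π) (D₀ : Subgroup Q) [hD₀ : Group.IsSolvable D₀]
    (h : ∀ β : A, Odd (orderOf β) → π β ∈ D₀) : Group.IsSolvable Q := by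
  classical
  have : Finite Q := Finite.of_surjective π hπ
  let S : Set Q := {q | ∃ β : A, Odd (orderOf β) ∧ π β = q}
  have hDle : Subgroup.normalClosure S ≤ D₀ := by
    show Subgroup.closure (Group.conjugatesOfSet S) ≤ D₀
    rw [Subgroup.closure_le]
    intro x hx
    rw [Group.mem_conjugatesOfSet_iff] at hx
    obtain ⟨a, ⟨β, hβ, rfl⟩, hconj⟩ := hx
    rw [isConj_iff] at hconj
    obtain ⟨c, hc⟩ := hconj
    obtain ⟨γ, rfl⟩ := hπ c
    have h1 : x = π (MulAut.conj γ β) := by
      rw [MulAut.conj_apply, map_mul, map_mul, map_inv]; exact hc.symm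
    rw [h1]
    apply h
    rw [MulEquiv.orderOf_eq]; exact hβ
  have hDsolv : Group.IsSolvable (Subgroup.normalClosure S) :=
    Group.isSolvable_of_isSolvable_injective (f := Subgroup.inclusion hDle)
      (Subgroup.inclusion_injective hDle)
  have hP : IsPGroup 2 (Q ⧸ Subgroup.normalClosure S) := by
    intro x
    induction x using QuotientGroup.induction_on with
    | H q =>
      obtain ⟨β, rfl⟩ := hπ q
      have hne : orderOf β ≠ 0 := (orderOf_pos β).ne'
      obtain ⟨k, m, hm, hkm⟩ := Nat.exists_eq_two_pow_mul_odd hne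
      refine ⟨k, ?_⟩
      have h2 : orderOf (β ^ (2 ^ k)) = m := by
        rw [orderOf_pow_of_dvd (pow_ne_zero k two_ne_zero) ⟨m, hkm⟩, hkm,
          Nat.mul_div_cancel_left _ (pow_pos two_pos k)]
      have h3 : π (β ^ (2 ^ k)) ∈ Subgroup.normalClosure S :=
        Subgroup.subset_normalClosure ⟨β ^ (2 ^ k), by rw [h2]; exact hm, rfl⟩
      rw [← QuotientGroup.mk_pow, QuotientGroup.eq_one_iff, ← map_pow]
      exact h3
  have : Fact (Nat.Prime 2) := ⟨Nat.prime_two⟩
  have : Group.IsNilpotent (Q ⧸ Subgroup.normalClosure S) := hP.isNilpotent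
  have : Group.IsSolvable (Q ⧸ Subgroup.normalClosure S) := IsNilpotent.to_isSolvable
  exact Group.isSolvable_of_ker_le_range (Subgroup.normalClosure S).subtype
    (QuotientGroup.mk' (Subgroup.normalClosure S)) (by simp)

/-- `p ^ 2` does not divide `p !` for a prime `p`. -/
theorem not_sq_dvd_factorial {p : ℕ} (hp : p.Prime) : ¬ p ^ 2 ∣ p.factorial := by
  intro h
  rw [← Nat.mul_factorial_pred hp.ne_zero, pow_two] at h
  have h2 : p ∣ (p - 1).factorial := (Nat.mul_dvd_mul_iff_left hp.pos).mp h
  have h3 := (Nat.Prime.dvd_factorial hp).mp h2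
  have := hp.two_le
  omega

/-- A nontrivial `p`-subgroup of the symmetric group of prime degree `p` has order `p`. -/
theorem card_eq_of_isPGroup_perm {Ω : Type*} [Fintype Ω] {p : ℕ} [hp : Fact p.Prime]
    (hΩ : Fintype.card Ω = p) (P : Subgroup (Equiv.Perm Ω)) (hP : IsPGroup p P) (hne : P ≠ ⊥) :
    Nat.card P = p := by
  classical
  obtain ⟨k, hk⟩ := (IsPGroup.iff_card).mp hP
  have hdvd : Nat.card P ∣ p.factorial := by
    have := Subgroup.card_subgroup_dvd_card P
    rw [Nat.card_perm, Nat.card_eq_fintype_card (α := Ω), hΩ] at this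
    exact this
  have hk1 : k ≠ 0 := by
    rintro rfl
    apply hne
    rw [pow_zero] at hk
    exact Subgroup.card_eq_one.mp hk
  have hk2 : k < 2 := by
    by_contra hcon
    push Not at hcon
    apply not_sq_dvd_factorial hp.out
    exact (pow_dvd_pow p hcon).trans (hk ▸ hdvd)
  have : k = 1 := by omega
  rw [hk, this, pow_one]

/-- A subgroup of prime order `p` of the symmetric group of degree `p` is transitive. -/
theorem isPretransitive_of_card_eq {Ω : Type*} [Fintype Ω] {p : ℕ} [hp : Fact p.Prime]
    (hΩ : Fintype.card Ω = p) (P : Subgroup (Equiv.Perm Ω)) (hP : Nat.card P = p) :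
    IsPretransitive P Ω := by
  classical
  -- some orbit is nontrivial
  have hex : ∃ x : Ω, (orbit P x).ncard ≠ 1 := by
    by_contra hcon
    push Not at hcon
    have hbot : P = ⊥ := by
      rw [Subgroup.eq_bot_iff_forall]
      intro g hg
      ext x
      have h1 := hcon x
      rw [Set.ncard_eq_one] at h1
      obtain ⟨a, ha⟩ := h1
      have h2 : (⟨g, hg⟩ : P) • x ∈ orbit P x := mem_orbit x _
      have h3 : x ∈ orbit P x := mem_orbit_self x
      rw [ha, Set.mem_singleton_iff] at h2 h3
      have h4 : (⟨g, hg⟩ : P) • x = x := h2.trans h3.symm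
      simpa using h4
    rw [hbot, Subgroup.card_bot] at hP
    exact hp.out.one_lt.ne hP
  obtain ⟨x, hx⟩ := hex
  have hdvd : (orbit P x).ncard ∣ p := by
    rw [← index_stabilizer, ← hP]
    exact Subgroup.index_dvd_card _
  have hcard : (orbit P x).ncard = p := by
    rcases (Nat.dvd_prime hp.out).mp hdvd with h | h
    · exact absurd h hx
    · exact h
  have huniv : orbit P x = Set.univ := by
    apply Set.eq_of_subset_of_ncard_le (Set.subset_univ _)
    rw [Set.ncard_univ, Nat.card_eq_fintype_card, hΩ, hcard]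
  exact (isPretransitive_iff_orbit_eq_univ x).mpr huniv

/-- The normaliser of a subgroup of prime order `p` in the symmetric group of degree `p` is
solvable. -/
theorem normalizer_isSolvable_of_card_eq {Ω : Type*} [Fintype Ω] {p : ℕ} [hp : Fact p.Prime]
    (hΩ : Fintype.card Ω = p) (P : Subgroup (Equiv.Perm Ω)) (hP : Nat.card P = p) :
    Group.IsSolvable (normalizer (P : Set (Equiv.Perm Ω))) := by
  classical
  have : IsPretransitive P Ω := isPretransitive_of_card_eq hΩ P hP
  have hcyc : IsCyclic P := isCyclic_of_prime_card hP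
  have hcomm : ∀ a b : P, a * b = b * a := fun a b => (IsCyclic.commGroup (α := P)).mul_comm a b
  have hle : P ≤ centralizer (P : Set (Equiv.Perm Ω)) := by
    intro x hx y hy
    have := hcomm ⟨y, hy⟩ ⟨x, hx⟩
    exact congrArg Subtype.val this
  have hC : centralizer (P : Set (Equiv.Perm Ω)) = P :=
    centralizer_eq_of_le_of_isPretransitive P P hle
  have hker : (normalizerMonoidHom P).ker = P.subgroupOf (normalizer (P : Set (Equiv.Perm Ω))) := by
    rw [normalizerMonoidHom_ker, hC]
  have h1 : Group.IsSolvable (P.subgroupOf (normalizer (P : Set (Equiv.Perm Ω)))) := by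
    apply Group.isSolvable_of_comm
    intro a b
    apply Subtype.ext
    apply Subtype.ext
    have := hcomm ⟨(a : normalizer (P : Set (Equiv.Perm Ω))), a.2⟩ ⟨(b : normalizer (P : Set (Equiv.Perm Ω))), b.2⟩
    have h3 := congrArg Subtype.val this
    simpa using h3
  have h2 : Group.IsSolvable (MulAut P) := by
    apply Group.isSolvable_of_comm
    intro a b
    apply (IsCyclic.mulAutMulEquiv P).injective
    rw [map_mul, map_mul, mul_comm]
  exact Group.isSolvable_of_ker_le_range
    (P.subgroupOf (normalizer (P : Set (Equiv.Perm Ω)))).subtype (normalizerMonoidHom P)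
    (by rw [hker]; simp)

end Cfsg.Agent.Lib.Helper17
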