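import Mathlib
import Cfsg.Agent.Lib.Helper17.PG7920Defs
import Cfsg.Agent.Lib.Helper62.PG7920_GEN
import Cfsg.Agent.Lib.Helper04.BurnsidePQ

/-!
# K-PG-STAR (backup by helper17)
-/

set_option autoImplicit false

namespace Cfsg.Agent.Lib.Helper17.PG7920
open Cfsg.Agent.Lib.Helper62.PG7920

theorem star_edge {G : Type*} [Group G] [Finite G] (N : Subgroup G)
    (y : G) (r : ℕ) (hr : r.Prime) (hy : orderOf y = r) (hyN : ∀ x ∈ N, x * y = y * x)
    (s : ℕ) (hs : s.Prime) (hsN : s ∣ Nat.card N) (hsr : s ≠ r) : Edge G r s := by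
  have : Fact s.Prime := ⟨hs⟩
  obtain ⟨z, hz⟩ := exists_prime_orderOf_dvd_card' s hsN
  have hz' : orderOf (z : G) = s := by rw [Subgroup.orderOf_coe, hz]
  have hcomm : Commute y (z : G) := (hyN z z.2).symm
  refine ⟨y * z, ?_⟩
  rw [hcomm.orderOf_mul_eq_mul_orderOf_of_coprime, hy, hz']
  rw [hy, hz']
  exact (Nat.coprime_primes hr hs).mpr (Ne.symm hsr)

theorem star_solvable_of_dvd {G : Type*} [Group G] [Finite G] (N : Subgroup G) (p q a b : ℕ)
    (hp : p.Prime) (hq : q.Prime) (h : Nat.card N ∣ p ^ a * q ^ b) : Group.IsSolvable N := by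
  obtain ⟨k₁, k₂, h1, h2, h3⟩ := (Nat.dvd_mul).mp h
  obtain ⟨a', -, rfl⟩ := (Nat.dvd_prime_pow hp).mp h1
  obtain ⟨b', -, rfl⟩ := (Nat.dvd_prime_pow hq).mp h2
  exact Cfsg.Agent.Lib.Helper04.burnside_paqb p q a' b' hp hq h3.symm

theorem star_dvd_of_coprime {n m k : ℕ} (h : n ∣ m * k) (hc : Nat.Coprime n m) : n ∣ k :=
  hc.dvd_of_dvd_mul_left h

set_option maxHeartbeats 3200000 in
/-- keystone 249009. -/
theorem pgConn_of_centralizing {G : Type*} [Group G] [Finite G] (hord : Nat.card G = 7920)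
    (N : Subgroup G) [N.Normal] (h11 : 11 ∣ Nat.card N) (hns : ¬ Group.IsSolvable N)
    (y : G) (r : ℕ) (hr : r.Prime) (hy : orderOf y = r) (hyN : ∀ x ∈ N, x * y = y * x) :
    PGConn G := by
  have hNd : Nat.card N ∣ 7920 := hord ▸ Subgroup.card_subgroup_dvd_card N
  have hp2 : Nat.Prime 2 := Nat.prime_two
  have hp3 : Nat.Prime 3 := Nat.prime_three
  have hp5 : Nat.Prime 5 := Nat.prime_five
  have hp11 : Nat.Prime 11 := by norm_num
  have hstar := star_edge N y r hr hy hyN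
  -- at least two of 2, 3, 5 divide |N|
  have h35 : 3 ∣ Nat.card N ∨ 5 ∣ Nat.card N := by
    by_contra hcon
    push Not at hcon
    apply hns
    have hc : Nat.Coprime (Nat.card N) 45 := by
      have : (45 : ℕ) = 3 ^ 2 * 5 := by norm_num
      rw [this]
      exact Nat.Coprime.mul_right
        (Nat.Coprime.pow_right 2 ((Nat.Prime.coprime_iff_not_dvd hp3).mpr hcon.1).symm)
        ((Nat.Prime.coprime_iff_not_dvd hp5).mpr hcon.2).symm
    have h1 : Nat.card N ∣ 45 * (2 ^ 4 * 11 ^ 1) := by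
      have : (45 : ℕ) * (2 ^ 4 * 11 ^ 1) = 7920 := by norm_num
      rw [this]; exact hNd
    exact star_solvable_of_dvd N 2 11 4 1 hp2 hp11 (star_dvd_of_coprime h1 hc)
  have h25 : 2 ∣ Nat.card N ∨ 5 ∣ Nat.card N := by
    by_contra hcon
    push Not at hcon
    apply hns
    have hc : Nat.Coprime (Nat.card N) 80 := by
      have : (80 : ℕ) = 2 ^ 4 * 5 := by norm_num
      rw [this]
      exact Nat.Coprime.mul_right
        (Nat.Coprime.pow_right 4 ((Nat.Prime.coprime_iff_not_dvd hp2).mpr hcon.1).symm)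
        ((Nat.Prime.coprime_iff_not_dvd hp5).mpr hcon.2).symm
    have h1 : Nat.card N ∣ 80 * (3 ^ 2 * 11 ^ 1) := by
      have : (80 : ℕ) * (3 ^ 2 * 11 ^ 1) = 7920 := by norm_num
      rw [this]; exact hNd
    exact star_solvable_of_dvd N 3 11 2 1 hp3 hp11 (star_dvd_of_coprime h1 hc)
  have h23 : 2 ∣ Nat.card N ∨ 3 ∣ Nat.card N := by
    by_contra hcon
    push Not at hcon
    apply hns
    have hc : Nat.Coprime (Nat.card N) 144 := by
      have : (144 : ℕ) = 2 ^ 4 * 3 ^ 2 := by norm_num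
      rw [this]
      exact Nat.Coprime.mul_right
        (Nat.Coprime.pow_right 4 ((Nat.Prime.coprime_iff_not_dvd hp2).mpr hcon.1).symm)
        (Nat.Coprime.pow_right 2 ((Nat.Prime.coprime_iff_not_dvd hp3).mpr hcon.2).symm)
    have h1 : Nat.card N ∣ 144 * (5 ^ 1 * 11 ^ 1) := by
      have : (144 : ℕ) * (5 ^ 1 * 11 ^ 1) = 7920 := by norm_num
      rw [this]; exact hNd
    exact star_solvable_of_dvd N 5 11 1 1 hp5 hp11 (star_dvd_of_coprime h1 hc)
  have h121 : ¬ 11 ^ (1 + 1) ∣ Nat.card N := by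
    intro h
    have := h.trans hNd
    norm_num at this
  -- GEN edges
  have hg2 : ¬ 2 ∣ Nat.card N → Edge G 2 11 := fun h =>
    exists_orderOf_eq_mul_of_normal N 2 11 4 1 hp2 hp11 h (by rw [hord]; norm_num) (by norm_num)
      (by simpa using h11) h121 (by norm_num)
  have hg3 : ¬ 3 ∣ Nat.card N → Edge G 3 11 := fun h =>
    exists_orderOf_eq_mul_of_normal N 3 11 2 1 hp3 hp11 h (by rw [hord]; norm_num) (by norm_num)
      (by simpa using h11) h121 (by norm_num)
  have hg5 : ¬ 5 ∣ Nat.card N → 3 ∣ Nat.card N → Edge G 5 3 := by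
    intro h h3
    have h27 : ¬ 3 ^ (2 + 1) ∣ Nat.card N := by
      intro h'
      have := h'.trans hNd
      norm_num at this
    by_cases h9 : 3 ^ 2 ∣ Nat.card N
    · exact exists_orderOf_eq_mul_of_normal N 5 3 1 2 hp5 hp3 h (by rw [hord]; norm_num)
        (by norm_num) h9 h27 (by norm_num)
    · exact exists_orderOf_eq_mul_of_normal N 5 3 1 1 hp5 hp3 h (by rw [hord]; norm_num)
        (by norm_num) (by simpa using h3) h9 (by norm_num)
  -- r ∈ {2,3,5,11}
  have hrG : r ∣ 7920 := by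
    rw [← hord, ← hy]; exact orderOf_dvd_natCard y
  have hr4 : r = 2 ∨ r = 3 ∨ r = 5 ∨ r = 11 := by
    have h1 : (7920 : ℕ) = 2 ^ 4 * 3 ^ 2 * 5 * 11 := by norm_num
    rw [h1] at hrG
    rcases (Nat.Prime.dvd_mul hr).mp hrG with h2 | h2
    · rcases (Nat.Prime.dvd_mul hr).mp h2 with h3 | h3
      · rcases (Nat.Prime.dvd_mul hr).mp h3 with h4 | h4
        · left
          exact (Nat.prime_dvd_prime_iff_eq hr hp2).mp (hr.dvd_of_dvd_pow h4)
        · right; left
          exact (Nat.prime_dvd_prime_iff_eq hr hp3).mp (hr.dvd_of_dvd_pow h4)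
      · right; right; left
        exact (Nat.prime_dvd_prime_iff_eq hr hp5).mp h3
    · right; right; right
      exact (Nat.prime_dvd_prime_iff_eq hr hp11).mp h2
  intro c hc
  have e2 : 2 ∣ Nat.card N → 2 ≠ r → (c r ↔ c 2) := fun h hne => by
    have hrm : r ∈ ({2, 3, 5, 11} : Finset ℕ) := by
      rcases hr4 with rfl | rfl | rfl | rfl <;> decide
    exact hc r 2 hrm (by decide) (hstar 2 hp2 h hne)
  have e3 : 3 ∣ Nat.card N → 3 ≠ r → (c r ↔ c 3) := fun h hne => by
    have hrm : r ∈ ({2, 3, 5, 11} : Finset ℕ) := by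
      rcases hr4 with rfl | rfl | rfl | rfl <;> decide
    exact hc r 3 hrm (by decide) (hstar 3 hp3 h hne)
  have e5 : 5 ∣ Nat.card N → 5 ≠ r → (c r ↔ c 5) := fun h hne => by
    have hrm : r ∈ ({2, 3, 5, 11} : Finset ℕ) := by
      rcases hr4 with rfl | rfl | rfl | rfl <;> decide
    exact hc r 5 hrm (by decide) (hstar 5 hp5 h hne)
  have e11 : 11 ≠ r → (c r ↔ c 11) := fun hne => by
    have hrm : r ∈ ({2, 3, 5, 11} : Finset ℕ) := by
      rcases hr4 with rfl | rfl | rfl | rfl <;> decide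
    exact hc r 11 hrm (by decide) (hstar 11 hp11 h11 hne)
  have g2 : ¬ 2 ∣ Nat.card N → (c 2 ↔ c 11) := fun h =>
    hc 2 11 (by decide) (by decide) (hg2 h)
  have g3 : ¬ 3 ∣ Nat.card N → (c 3 ↔ c 11) := fun h =>
    hc 3 11 (by decide) (by decide) (hg3 h)
  have g5 : ¬ 5 ∣ Nat.card N → 3 ∣ Nat.card N → (c 5 ↔ c 3) := fun h h3 =>
    hc 5 3 (by decide) (by decide) (hg5 h h3)
  by_cases d2 : 2 ∣ Nat.card N <;> by_cases d3 : 3 ∣ Nat.card N <;>
    by_cases d5 : 5 ∣ Nat.card N <;>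
    rcases hr4 with rfl | rfl | rfl | rfl <;>
    simp only [d2, d3, d5, not_true_eq_false, not_false_eq_true, true_or, or_true, or_self,
      forall_const, IsEmpty.forall_iff, ne_eq] at e2 e3 e5 e11 g2 g3 g5 h35 h25 h23 <;>
    norm_num at e2 e3 e5 e11 <;>
    tauto

end Cfsg.Agent.Lib.Helper17.PG7920
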