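import Cfsg.Agent.Lib.Helper17.Small1092Tests
import Cfsg.Agent.S0499

/-! Generated case split for S0496: orders 2..100. -/

set_option autoImplicit false
set_option maxHeartbeats 4000000
set_option maxRecDepth 100000

namespace Cfsg.Agent.Lib.Helper17.Small1092

theorem chunk0 {G : Type*} [Group G] [Finite G] [IsSimpleGroup G] (hG : ¬ IsMulCommutative G)
    (n : ℕ) (hn : Nat.card G = n) (hlo : 2 ≤ n) (hhi : n ≤ 100) (h60 : n ≠ 60) : False := by
  interval_cases n
  · exact Cfsg.Agent.Lib.Helper12.false_of_sylow_test hG 2 2 1 1 hn (by norm_num) (by norm_num) (by norm_num) (by norm_num) (by decide)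
  · exact Cfsg.Agent.Lib.Helper12.false_of_sylow_test hG 3 3 1 1 hn (by norm_num) (by norm_num) (by norm_num) (by norm_num) (by decide)
  · exact Cfsg.Agent.Lib.Helper12.false_of_sylow_test hG 4 2 2 1 hn (by norm_num) (by norm_num) (by norm_num) (by norm_num) (by decide)
  · exact Cfsg.Agent.Lib.Helper12.false_of_sylow_test hG 5 5 1 1 hn (by norm_num) (by norm_num) (by norm_num) (by norm_num) (by decide)
  · exact Cfsg.Agent.Lib.Helper12.false_of_sylow_test hG 6 3 1 2 hn (by norm_num) (by norm_num) (by norm_num) (by norm_num) (by decide)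
  · exact Cfsg.Agent.Lib.Helper12.false_of_sylow_test hG 7 7 1 1 hn (by norm_num) (by norm_num) (by norm_num) (by norm_num) (by decide)
  · exact Cfsg.Agent.Lib.Helper12.false_of_sylow_test hG 8 2 3 1 hn (by norm_num) (by norm_num) (by norm_num) (by norm_num) (by decide)
  · exact Cfsg.Agent.Lib.Helper12.false_of_sylow_test hG 9 3 2 1 hn (by norm_num) (by norm_num) (by norm_num) (by norm_num) (by decide)
  · exact Cfsg.Agent.Lib.Helper12.false_of_sylow_test hG 10 5 1 2 hn (by norm_num) (by norm_num) (by norm_num) (by norm_num) (by decide)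
  · exact Cfsg.Agent.Lib.Helper12.false_of_sylow_test hG 11 11 1 1 hn (by norm_num) (by norm_num) (by norm_num) (by norm_num) (by decide)
  · exact Cfsg.Agent.Lib.Helper12.false_of_sylow_test hG 12 2 2 3 hn (by norm_num) (by norm_num) (by norm_num) (by norm_num) (by decide)
  · exact Cfsg.Agent.Lib.Helper12.false_of_sylow_test hG 13 13 1 1 hn (by norm_num) (by norm_num) (by norm_num) (by norm_num) (by decide)
  · exact Cfsg.Agent.Lib.Helper12.false_of_sylow_test hG 14 7 1 2 hn (by norm_num) (by norm_num) (by norm_num) (by norm_num) (by decide)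
  · exact Cfsg.Agent.Lib.Helper12.false_of_sylow_test hG 15 5 1 3 hn (by norm_num) (by norm_num) (by norm_num) (by norm_num) (by decide)
  · exact Cfsg.Agent.Lib.Helper12.false_of_sylow_test hG 16 2 4 1 hn (by norm_num) (by norm_num) (by norm_num) (by norm_num) (by decide)
  · exact Cfsg.Agent.Lib.Helper12.false_of_sylow_test hG 17 17 1 1 hn (by norm_num) (by norm_num) (by norm_num) (by norm_num) (by decide)
  · exact Cfsg.Agent.Lib.Helper12.false_of_sylow_test hG 18 3 2 2 hn (by norm_num) (by norm_num) (by norm_num) (by norm_num) (by decide)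
  · exact Cfsg.Agent.Lib.Helper12.false_of_sylow_test hG 19 19 1 1 hn (by norm_num) (by norm_num) (by norm_num) (by norm_num) (by decide)
  · exact Cfsg.Agent.Lib.Helper12.false_of_sylow_test hG 20 5 1 4 hn (by norm_num) (by norm_num) (by norm_num) (by norm_num) (by decide)
  · exact Cfsg.Agent.Lib.Helper12.false_of_sylow_test hG 21 7 1 3 hn (by norm_num) (by norm_num) (by norm_num) (by norm_num) (by decide)
  · exact Cfsg.Agent.Lib.Helper12.false_of_sylow_test hG 22 11 1 2 hn (by norm_num) (by norm_num) (by norm_num) (by norm_num) (by decide)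
  · exact Cfsg.Agent.Lib.Helper12.false_of_sylow_test hG 23 23 1 1 hn (by norm_num) (by norm_num) (by norm_num) (by norm_num) (by decide)
  · exact Cfsg.Agent.Lib.Helper12.false_of_sylow_test hG 24 2 3 3 hn (by norm_num) (by norm_num) (by norm_num) (by norm_num) (by decide)
  · exact Cfsg.Agent.Lib.Helper12.false_of_sylow_test hG 25 5 2 1 hn (by norm_num) (by norm_num) (by norm_num) (by norm_num) (by decide)
  · exact Cfsg.Agent.Lib.Helper12.false_of_sylow_test hG 26 13 1 2 hn (by norm_num) (by norm_num) (by norm_num) (by norm_num) (by decide)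
  · exact Cfsg.Agent.Lib.Helper12.false_of_sylow_test hG 27 3 3 1 hn (by norm_num) (by norm_num) (by norm_num) (by norm_num) (by decide)
  · exact Cfsg.Agent.Lib.Helper12.false_of_sylow_test hG 28 7 1 4 hn (by norm_num) (by norm_num) (by norm_num) (by norm_num) (by decide)
  · exact Cfsg.Agent.Lib.Helper12.false_of_sylow_test hG 29 29 1 1 hn (by norm_num) (by norm_num) (by norm_num) (by norm_num) (by decide)
  · have h2 := Cfsg.Agent.S0499.result hG (by rw [hn]; decide)
    rw [hn] at h2; omega
  · exact Cfsg.Agent.Lib.Helper12.false_of_sylow_test hG 31 31 1 1 hn (by norm_num) (by norm_num) (by norm_num) (by norm_num) (by decide)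
  · exact Cfsg.Agent.Lib.Helper12.false_of_sylow_test hG 32 2 5 1 hn (by norm_num) (by norm_num) (by norm_num) (by norm_num) (by decide)
  · exact Cfsg.Agent.Lib.Helper12.false_of_sylow_test hG 33 11 1 3 hn (by norm_num) (by norm_num) (by norm_num) (by norm_num) (by decide)
  · exact Cfsg.Agent.Lib.Helper12.false_of_sylow_test hG 34 17 1 2 hn (by norm_num) (by norm_num) (by norm_num) (by norm_num) (by decide)
  · exact Cfsg.Agent.Lib.Helper12.false_of_sylow_test hG 35 7 1 5 hn (by norm_num) (by norm_num) (by norm_num) (by norm_num) (by decide)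
  · exact Cfsg.Agent.Lib.Helper12.false_of_sylow_test hG 36 3 2 4 hn (by norm_num) (by norm_num) (by norm_num) (by norm_num) (by decide)
  · exact Cfsg.Agent.Lib.Helper12.false_of_sylow_test hG 37 37 1 1 hn (by norm_num) (by norm_num) (by norm_num) (by norm_num) (by decide)
  · exact Cfsg.Agent.Lib.Helper12.false_of_sylow_test hG 38 19 1 2 hn (by norm_num) (by norm_num) (by norm_num) (by norm_num) (by decide)
  · exact Cfsg.Agent.Lib.Helper12.false_of_sylow_test hG 39 13 1 3 hn (by norm_num) (by norm_num) (by norm_num) (by norm_num) (by decide)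
  · exact Cfsg.Agent.Lib.Helper12.false_of_sylow_test hG 40 5 1 8 hn (by norm_num) (by norm_num) (by norm_num) (by norm_num) (by decide)
  · exact Cfsg.Agent.Lib.Helper12.false_of_sylow_test hG 41 41 1 1 hn (by norm_num) (by norm_num) (by norm_num) (by norm_num) (by decide)
  · exact Cfsg.Agent.Lib.Helper12.false_of_sylow_test hG 42 7 1 6 hn (by norm_num) (by norm_num) (by norm_num) (by norm_num) (by decide)
  · exact Cfsg.Agent.Lib.Helper12.false_of_sylow_test hG 43 43 1 1 hn (by norm_num) (by norm_num) (by norm_num) (by norm_num) (by decide)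
  · exact Cfsg.Agent.Lib.Helper12.false_of_sylow_test hG 44 11 1 4 hn (by norm_num) (by norm_num) (by norm_num) (by norm_num) (by decide)
  · exact Cfsg.Agent.Lib.Helper12.false_of_sylow_test hG 45 3 2 5 hn (by norm_num) (by norm_num) (by norm_num) (by norm_num) (by decide)
  · exact Cfsg.Agent.Lib.Helper12.false_of_sylow_test hG 46 23 1 2 hn (by norm_num) (by norm_num) (by norm_num) (by norm_num) (by decide)
  · exact Cfsg.Agent.Lib.Helper12.false_of_sylow_test hG 47 47 1 1 hn (by norm_num) (by norm_num) (by norm_num) (by norm_num) (by decide)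
  · exact Cfsg.Agent.Lib.Helper12.false_of_sylow_test hG 48 2 4 3 hn (by norm_num) (by norm_num) (by norm_num) (by norm_num) (by decide)
  · exact Cfsg.Agent.Lib.Helper12.false_of_sylow_test hG 49 7 2 1 hn (by norm_num) (by norm_num) (by norm_num) (by norm_num) (by decide)
  · exact Cfsg.Agent.Lib.Helper12.false_of_sylow_test hG 50 5 2 2 hn (by norm_num) (by norm_num) (by norm_num) (by norm_num) (by decide)
  · exact Cfsg.Agent.Lib.Helper12.false_of_sylow_test hG 51 17 1 3 hn (by norm_num) (by norm_num) (by norm_num) (by norm_num) (by decide)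
  · exact Cfsg.Agent.Lib.Helper12.false_of_sylow_test hG 52 13 1 4 hn (by norm_num) (by norm_num) (by norm_num) (by norm_num) (by decide)
  · exact Cfsg.Agent.Lib.Helper12.false_of_sylow_test hG 53 53 1 1 hn (by norm_num) (by norm_num) (by norm_num) (by norm_num) (by decide)
  · exact Cfsg.Agent.Lib.Helper12.false_of_sylow_test hG 54 3 3 2 hn (by norm_num) (by norm_num) (by norm_num) (by norm_num) (by decide)
  · exact Cfsg.Agent.Lib.Helper12.false_of_sylow_test hG 55 11 1 5 hn (by norm_num) (by norm_num) (by norm_num) (by norm_num) (by decide)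
  · exact false_of_two_primes hG 56 2 7 3 1 hn (by norm_num) (by norm_num) (by norm_num)
  · exact Cfsg.Agent.Lib.Helper12.false_of_sylow_test hG 57 19 1 3 hn (by norm_num) (by norm_num) (by norm_num) (by norm_num) (by decide)
  · exact Cfsg.Agent.Lib.Helper12.false_of_sylow_test hG 58 29 1 2 hn (by norm_num) (by norm_num) (by norm_num) (by norm_num) (by decide)
  · exact Cfsg.Agent.Lib.Helper12.false_of_sylow_test hG 59 59 1 1 hn (by norm_num) (by norm_num) (by norm_num) (by norm_num) (by decide)
  · exact absurd rfl h60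
  · exact Cfsg.Agent.Lib.Helper12.false_of_sylow_test hG 61 61 1 1 hn (by norm_num) (by norm_num) (by norm_num) (by norm_num) (by decide)
  · exact Cfsg.Agent.Lib.Helper12.false_of_sylow_test hG 62 31 1 2 hn (by norm_num) (by norm_num) (by norm_num) (by norm_num) (by decide)
  · exact Cfsg.Agent.Lib.Helper12.false_of_sylow_test hG 63 7 1 9 hn (by norm_num) (by norm_num) (by norm_num) (by norm_num) (by decide)
  · exact Cfsg.Agent.Lib.Helper12.false_of_sylow_test hG 64 2 6 1 hn (by norm_num) (by norm_num) (by norm_num) (by norm_num) (by decide)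
  · exact Cfsg.Agent.Lib.Helper12.false_of_sylow_test hG 65 13 1 5 hn (by norm_num) (by norm_num) (by norm_num) (by norm_num) (by decide)
  · exact Cfsg.Agent.Lib.Helper12.false_of_sylow_test hG 66 11 1 6 hn (by norm_num) (by norm_num) (by norm_num) (by norm_num) (by decide)
  · exact Cfsg.Agent.Lib.Helper12.false_of_sylow_test hG 67 67 1 1 hn (by norm_num) (by norm_num) (by norm_num) (by norm_num) (by decide)
  · exact Cfsg.Agent.Lib.Helper12.false_of_sylow_test hG 68 17 1 4 hn (by norm_num) (by norm_num) (by norm_num) (by norm_num) (by decide)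
  · exact Cfsg.Agent.Lib.Helper12.false_of_sylow_test hG 69 23 1 3 hn (by norm_num) (by norm_num) (by norm_num) (by norm_num) (by decide)
  · exact Cfsg.Agent.Lib.Helper12.false_of_sylow_test hG 70 7 1 10 hn (by norm_num) (by norm_num) (by norm_num) (by norm_num) (by decide)
  · exact Cfsg.Agent.Lib.Helper12.false_of_sylow_test hG 71 71 1 1 hn (by norm_num) (by norm_num) (by norm_num) (by norm_num) (by decide)
  · exact Cfsg.Agent.Lib.Helper12.false_of_sylow_test hG 72 3 2 8 hn (by norm_num) (by norm_num) (by norm_num) (by norm_num) (by decide)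
  · exact Cfsg.Agent.Lib.Helper12.false_of_sylow_test hG 73 73 1 1 hn (by norm_num) (by norm_num) (by norm_num) (by norm_num) (by decide)
  · exact Cfsg.Agent.Lib.Helper12.false_of_sylow_test hG 74 37 1 2 hn (by norm_num) (by norm_num) (by norm_num) (by norm_num) (by decide)
  · exact Cfsg.Agent.Lib.Helper12.false_of_sylow_test hG 75 5 2 3 hn (by norm_num) (by norm_num) (by norm_num) (by norm_num) (by decide)
  · exact Cfsg.Agent.Lib.Helper12.false_of_sylow_test hG 76 19 1 4 hn (by norm_num) (by norm_num) (by norm_num) (by norm_num) (by decide)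
  · exact Cfsg.Agent.Lib.Helper12.false_of_sylow_test hG 77 11 1 7 hn (by norm_num) (by norm_num) (by norm_num) (by norm_num) (by decide)
  · exact Cfsg.Agent.Lib.Helper12.false_of_sylow_test hG 78 13 1 6 hn (by norm_num) (by norm_num) (by norm_num) (by norm_num) (by decide)
  · exact Cfsg.Agent.Lib.Helper12.false_of_sylow_test hG 79 79 1 1 hn (by norm_num) (by norm_num) (by norm_num) (by norm_num) (by decide)
  · exact Cfsg.Agent.Lib.Helper12.false_of_sylow_test hG 80 2 4 5 hn (by norm_num) (by norm_num) (by norm_num) (by norm_num) (by decide)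
  · exact Cfsg.Agent.Lib.Helper12.false_of_sylow_test hG 81 3 4 1 hn (by norm_num) (by norm_num) (by norm_num) (by norm_num) (by decide)
  · exact Cfsg.Agent.Lib.Helper12.false_of_sylow_test hG 82 41 1 2 hn (by norm_num) (by norm_num) (by norm_num) (by norm_num) (by decide)
  · exact Cfsg.Agent.Lib.Helper12.false_of_sylow_test hG 83 83 1 1 hn (by norm_num) (by norm_num) (by norm_num) (by norm_num) (by decide)
  · exact Cfsg.Agent.Lib.Helper12.false_of_sylow_test hG 84 7 1 12 hn (by norm_num) (by norm_num) (by norm_num) (by norm_num) (by decide)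
  · exact Cfsg.Agent.Lib.Helper12.false_of_sylow_test hG 85 17 1 5 hn (by norm_num) (by norm_num) (by norm_num) (by norm_num) (by decide)
  · exact Cfsg.Agent.Lib.Helper12.false_of_sylow_test hG 86 43 1 2 hn (by norm_num) (by norm_num) (by norm_num) (by norm_num) (by decide)
  · exact Cfsg.Agent.Lib.Helper12.false_of_sylow_test hG 87 29 1 3 hn (by norm_num) (by norm_num) (by norm_num) (by norm_num) (by decide)
  · exact Cfsg.Agent.Lib.Helper12.false_of_sylow_test hG 88 11 1 8 hn (by norm_num) (by norm_num) (by norm_num) (by norm_num) (by decide)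
  · exact Cfsg.Agent.Lib.Helper12.false_of_sylow_test hG 89 89 1 1 hn (by norm_num) (by norm_num) (by norm_num) (by norm_num) (by decide)
  · have h2 := Cfsg.Agent.S0499.result hG (by rw [hn]; decide)
    rw [hn] at h2; omega
  · exact Cfsg.Agent.Lib.Helper12.false_of_sylow_test hG 91 13 1 7 hn (by norm_num) (by norm_num) (by norm_num) (by norm_num) (by decide)
  · exact Cfsg.Agent.Lib.Helper12.false_of_sylow_test hG 92 23 1 4 hn (by norm_num) (by norm_num) (by norm_num) (by norm_num) (by decide)
  · exact Cfsg.Agent.Lib.Helper12.false_of_sylow_test hG 93 31 1 3 hn (by norm_num) (by norm_num) (by norm_num) (by norm_num) (by decide)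
  · exact Cfsg.Agent.Lib.Helper12.false_of_sylow_test hG 94 47 1 2 hn (by norm_num) (by norm_num) (by norm_num) (by norm_num) (by decide)
  · exact Cfsg.Agent.Lib.Helper12.false_of_sylow_test hG 95 19 1 5 hn (by norm_num) (by norm_num) (by norm_num) (by norm_num) (by decide)
  · exact Cfsg.Agent.Lib.Helper12.false_of_sylow_test hG 96 2 5 3 hn (by norm_num) (by norm_num) (by norm_num) (by norm_num) (by decide)
  · exact Cfsg.Agent.Lib.Helper12.false_of_sylow_test hG 97 97 1 1 hn (by norm_num) (by norm_num) (by norm_num) (by norm_num) (by decide)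
  · exact Cfsg.Agent.Lib.Helper12.false_of_sylow_test hG 98 7 2 2 hn (by norm_num) (by norm_num) (by norm_num) (by norm_num) (by decide)
  · exact Cfsg.Agent.Lib.Helper12.false_of_sylow_test hG 99 11 1 9 hn (by norm_num) (by norm_num) (by norm_num) (by norm_num) (by decide)
  · exact Cfsg.Agent.Lib.Helper12.false_of_sylow_test hG 100 5 2 4 hn (by norm_num) (by norm_num) (by norm_num) (by norm_num) (by decide)

end Cfsg.Agent.Lib.Helper17.Small1092
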