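import Cfsg.Agent.Lib.Helper17.Small1092Tests
import Cfsg.Agent.S0499

/-! Generated case split for S0496: orders 101..200. -/

set_option autoImplicit false
set_option maxHeartbeats 4000000
set_option maxRecDepth 100000

namespace Cfsg.Agent.Lib.Helper17.Small1092

theorem chunk1 {G : Type*} [Group G] [Finite G] [IsSimpleGroup G] (hG : ¬ IsMulCommutative G)
    (n : ℕ) (hn : Nat.card G = n) (hlo : 101 ≤ n) (hhi : n ≤ 200) (h168 : n ≠ 168) : False := by
  interval_cases n
  · exact Cfsg.Agent.Lib.Helper12.false_of_sylow_test hG 101 101 1 1 hn (by norm_num) (by norm_num) (by norm_num) (by norm_num) (by decide)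
  · exact Cfsg.Agent.Lib.Helper12.false_of_sylow_test hG 102 17 1 6 hn (by norm_num) (by norm_num) (by norm_num) (by norm_num) (by decide)
  · exact Cfsg.Agent.Lib.Helper12.false_of_sylow_test hG 103 103 1 1 hn (by norm_num) (by norm_num) (by norm_num) (by norm_num) (by decide)
  · exact Cfsg.Agent.Lib.Helper12.false_of_sylow_test hG 104 13 1 8 hn (by norm_num) (by norm_num) (by norm_num) (by norm_num) (by decide)
  · exact false_of_refined_test hG 105 7 15 hn (by norm_num) (by norm_num) (by norm_num) (by decide)
  · exact Cfsg.Agent.Lib.Helper12.false_of_sylow_test hG 106 53 1 2 hn (by norm_num) (by norm_num) (by norm_num) (by norm_num) (by decide)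
  · exact Cfsg.Agent.Lib.Helper12.false_of_sylow_test hG 107 107 1 1 hn (by norm_num) (by norm_num) (by norm_num) (by norm_num) (by decide)
  · exact Cfsg.Agent.Lib.Helper12.false_of_sylow_test hG 108 3 3 4 hn (by norm_num) (by norm_num) (by norm_num) (by norm_num) (by decide)
  · exact Cfsg.Agent.Lib.Helper12.false_of_sylow_test hG 109 109 1 1 hn (by norm_num) (by norm_num) (by norm_num) (by norm_num) (by decide)
  · exact Cfsg.Agent.Lib.Helper12.false_of_sylow_test hG 110 11 1 10 hn (by norm_num) (by norm_num) (by norm_num) (by norm_num) (by decide)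
  · exact Cfsg.Agent.Lib.Helper12.false_of_sylow_test hG 111 37 1 3 hn (by norm_num) (by norm_num) (by norm_num) (by norm_num) (by decide)
  · exact false_of_two_primes hG 112 2 7 4 1 hn (by norm_num) (by norm_num) (by norm_num)
  · exact Cfsg.Agent.Lib.Helper12.false_of_sylow_test hG 113 113 1 1 hn (by norm_num) (by norm_num) (by norm_num) (by norm_num) (by decide)
  · exact Cfsg.Agent.Lib.Helper12.false_of_sylow_test hG 114 19 1 6 hn (by norm_num) (by norm_num) (by norm_num) (by norm_num) (by decide)
  · exact Cfsg.Agent.Lib.Helper12.false_of_sylow_test hG 115 23 1 5 hn (by norm_num) (by norm_num) (by norm_num) (by norm_num) (by decide)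
  · exact Cfsg.Agent.Lib.Helper12.false_of_sylow_test hG 116 29 1 4 hn (by norm_num) (by norm_num) (by norm_num) (by norm_num) (by decide)
  · exact Cfsg.Agent.Lib.Helper12.false_of_sylow_test hG 117 13 1 9 hn (by norm_num) (by norm_num) (by norm_num) (by norm_num) (by decide)
  · exact Cfsg.Agent.Lib.Helper12.false_of_sylow_test hG 118 59 1 2 hn (by norm_num) (by norm_num) (by norm_num) (by norm_num) (by decide)
  · exact Cfsg.Agent.Lib.Helper12.false_of_sylow_test hG 119 17 1 7 hn (by norm_num) (by norm_num) (by norm_num) (by norm_num) (by decide)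
  · exact false_of_refined_test hG 120 5 24 hn (by norm_num) (by norm_num) (by norm_num) (by decide)
  · exact Cfsg.Agent.Lib.Helper12.false_of_sylow_test hG 121 11 2 1 hn (by norm_num) (by norm_num) (by norm_num) (by norm_num) (by decide)
  · exact Cfsg.Agent.Lib.Helper12.false_of_sylow_test hG 122 61 1 2 hn (by norm_num) (by norm_num) (by norm_num) (by norm_num) (by decide)
  · exact Cfsg.Agent.Lib.Helper12.false_of_sylow_test hG 123 41 1 3 hn (by norm_num) (by norm_num) (by norm_num) (by norm_num) (by decide)
  · exact Cfsg.Agent.Lib.Helper12.false_of_sylow_test hG 124 31 1 4 hn (by norm_num) (by norm_num) (by norm_num) (by norm_num) (by decide)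
  · exact Cfsg.Agent.Lib.Helper12.false_of_sylow_test hG 125 5 3 1 hn (by norm_num) (by norm_num) (by norm_num) (by norm_num) (by decide)
  · exact Cfsg.Agent.Lib.Helper12.false_of_sylow_test hG 126 7 1 18 hn (by norm_num) (by norm_num) (by norm_num) (by norm_num) (by decide)
  · exact Cfsg.Agent.Lib.Helper12.false_of_sylow_test hG 127 127 1 1 hn (by norm_num) (by norm_num) (by norm_num) (by norm_num) (by decide)
  · exact Cfsg.Agent.Lib.Helper12.false_of_sylow_test hG 128 2 7 1 hn (by norm_num) (by norm_num) (by norm_num) (by norm_num) (by decide)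
  · exact Cfsg.Agent.Lib.Helper12.false_of_sylow_test hG 129 43 1 3 hn (by norm_num) (by norm_num) (by norm_num) (by norm_num) (by decide)
  · exact Cfsg.Agent.Lib.Helper12.false_of_sylow_test hG 130 13 1 10 hn (by norm_num) (by norm_num) (by norm_num) (by norm_num) (by decide)
  · exact Cfsg.Agent.Lib.Helper12.false_of_sylow_test hG 131 131 1 1 hn (by norm_num) (by norm_num) (by norm_num) (by norm_num) (by decide)
  · exact false_of_refined_test hG 132 11 12 hn (by norm_num) (by norm_num) (by norm_num) (by decide)
  · exact Cfsg.Agent.Lib.Helper12.false_of_sylow_test hG 133 19 1 7 hn (by norm_num) (by norm_num) (by norm_num) (by norm_num) (by decide)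
  · exact Cfsg.Agent.Lib.Helper12.false_of_sylow_test hG 134 67 1 2 hn (by norm_num) (by norm_num) (by norm_num) (by norm_num) (by decide)
  · exact Cfsg.Agent.Lib.Helper12.false_of_sylow_test hG 135 3 3 5 hn (by norm_num) (by norm_num) (by norm_num) (by norm_num) (by decide)
  · exact Cfsg.Agent.Lib.Helper12.false_of_sylow_test hG 136 17 1 8 hn (by norm_num) (by norm_num) (by norm_num) (by norm_num) (by decide)
  · exact Cfsg.Agent.Lib.Helper12.false_of_sylow_test hG 137 137 1 1 hn (by norm_num) (by norm_num) (by norm_num) (by norm_num) (by decide)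
  · exact Cfsg.Agent.Lib.Helper12.false_of_sylow_test hG 138 23 1 6 hn (by norm_num) (by norm_num) (by norm_num) (by norm_num) (by decide)
  · exact Cfsg.Agent.Lib.Helper12.false_of_sylow_test hG 139 139 1 1 hn (by norm_num) (by norm_num) (by norm_num) (by norm_num) (by decide)
  · exact Cfsg.Agent.Lib.Helper12.false_of_sylow_test hG 140 7 1 20 hn (by norm_num) (by norm_num) (by norm_num) (by norm_num) (by decide)
  · exact Cfsg.Agent.Lib.Helper12.false_of_sylow_test hG 141 47 1 3 hn (by norm_num) (by norm_num) (by norm_num) (by norm_num) (by decide)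
  · exact Cfsg.Agent.Lib.Helper12.false_of_sylow_test hG 142 71 1 2 hn (by norm_num) (by norm_num) (by norm_num) (by norm_num) (by decide)
  · exact Cfsg.Agent.Lib.Helper12.false_of_sylow_test hG 143 13 1 11 hn (by norm_num) (by norm_num) (by norm_num) (by norm_num) (by decide)
  · exact false_of_two_primes hG 144 2 3 4 2 hn (by norm_num) (by norm_num) (by norm_num)
  · exact Cfsg.Agent.Lib.Helper12.false_of_sylow_test hG 145 29 1 5 hn (by norm_num) (by norm_num) (by norm_num) (by norm_num) (by decide)
  · exact Cfsg.Agent.Lib.Helper12.false_of_sylow_test hG 146 73 1 2 hn (by norm_num) (by norm_num) (by norm_num) (by norm_num) (by decide)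
  · exact Cfsg.Agent.Lib.Helper12.false_of_sylow_test hG 147 7 2 3 hn (by norm_num) (by norm_num) (by norm_num) (by norm_num) (by decide)
  · exact Cfsg.Agent.Lib.Helper12.false_of_sylow_test hG 148 37 1 4 hn (by norm_num) (by norm_num) (by norm_num) (by norm_num) (by decide)
  · exact Cfsg.Agent.Lib.Helper12.false_of_sylow_test hG 149 149 1 1 hn (by norm_num) (by norm_num) (by norm_num) (by norm_num) (by decide)
  · exact Cfsg.Agent.Lib.Helper12.false_of_sylow_test hG 150 5 2 6 hn (by norm_num) (by norm_num) (by norm_num) (by norm_num) (by decide)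
  · exact Cfsg.Agent.Lib.Helper12.false_of_sylow_test hG 151 151 1 1 hn (by norm_num) (by norm_num) (by norm_num) (by norm_num) (by decide)
  · exact Cfsg.Agent.Lib.Helper12.false_of_sylow_test hG 152 19 1 8 hn (by norm_num) (by norm_num) (by norm_num) (by norm_num) (by decide)
  · exact Cfsg.Agent.Lib.Helper12.false_of_sylow_test hG 153 17 1 9 hn (by norm_num) (by norm_num) (by norm_num) (by norm_num) (by decide)
  · exact Cfsg.Agent.Lib.Helper12.false_of_sylow_test hG 154 11 1 14 hn (by norm_num) (by norm_num) (by norm_num) (by norm_num) (by decide)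
  · exact Cfsg.Agent.Lib.Helper12.false_of_sylow_test hG 155 31 1 5 hn (by norm_num) (by norm_num) (by norm_num) (by norm_num) (by decide)
  · exact Cfsg.Agent.Lib.Helper12.false_of_sylow_test hG 156 13 1 12 hn (by norm_num) (by norm_num) (by norm_num) (by norm_num) (by decide)
  · exact Cfsg.Agent.Lib.Helper12.false_of_sylow_test hG 157 157 1 1 hn (by norm_num) (by norm_num) (by norm_num) (by norm_num) (by decide)
  · exact Cfsg.Agent.Lib.Helper12.false_of_sylow_test hG 158 79 1 2 hn (by norm_num) (by norm_num) (by norm_num) (by norm_num) (by decide)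
  · exact Cfsg.Agent.Lib.Helper12.false_of_sylow_test hG 159 53 1 3 hn (by norm_num) (by norm_num) (by norm_num) (by norm_num) (by decide)
  · exact Cfsg.Agent.Lib.Helper12.false_of_sylow_test hG 160 2 5 5 hn (by norm_num) (by norm_num) (by norm_num) (by norm_num) (by decide)
  · exact Cfsg.Agent.Lib.Helper12.false_of_sylow_test hG 161 23 1 7 hn (by norm_num) (by norm_num) (by norm_num) (by norm_num) (by decide)
  · exact Cfsg.Agent.Lib.Helper12.false_of_sylow_test hG 162 3 4 2 hn (by norm_num) (by norm_num) (by norm_num) (by norm_num) (by decide)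
  · exact Cfsg.Agent.Lib.Helper12.false_of_sylow_test hG 163 163 1 1 hn (by norm_num) (by norm_num) (by norm_num) (by norm_num) (by decide)
  · exact Cfsg.Agent.Lib.Helper12.false_of_sylow_test hG 164 41 1 4 hn (by norm_num) (by norm_num) (by norm_num) (by norm_num) (by decide)
  · exact Cfsg.Agent.Lib.Helper12.false_of_sylow_test hG 165 11 1 15 hn (by norm_num) (by norm_num) (by norm_num) (by norm_num) (by decide)
  · exact Cfsg.Agent.Lib.Helper12.false_of_sylow_test hG 166 83 1 2 hn (by norm_num) (by norm_num) (by norm_num) (by norm_num) (by decide)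
  · exact Cfsg.Agent.Lib.Helper12.false_of_sylow_test hG 167 167 1 1 hn (by norm_num) (by norm_num) (by norm_num) (by norm_num) (by decide)
  · exact absurd rfl h168
  · exact Cfsg.Agent.Lib.Helper12.false_of_sylow_test hG 169 13 2 1 hn (by norm_num) (by norm_num) (by norm_num) (by norm_num) (by decide)
  · exact Cfsg.Agent.Lib.Helper12.false_of_sylow_test hG 170 17 1 10 hn (by norm_num) (by norm_num) (by norm_num) (by norm_num) (by decide)
  · exact Cfsg.Agent.Lib.Helper12.false_of_sylow_test hG 171 19 1 9 hn (by norm_num) (by norm_num) (by norm_num) (by norm_num) (by decide)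
  · exact Cfsg.Agent.Lib.Helper12.false_of_sylow_test hG 172 43 1 4 hn (by norm_num) (by norm_num) (by norm_num) (by norm_num) (by decide)
  · exact Cfsg.Agent.Lib.Helper12.false_of_sylow_test hG 173 173 1 1 hn (by norm_num) (by norm_num) (by norm_num) (by norm_num) (by decide)
  · exact Cfsg.Agent.Lib.Helper12.false_of_sylow_test hG 174 29 1 6 hn (by norm_num) (by norm_num) (by norm_num) (by norm_num) (by decide)
  · exact Cfsg.Agent.Lib.Helper12.false_of_sylow_test hG 175 5 2 7 hn (by norm_num) (by norm_num) (by norm_num) (by norm_num) (by decide)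
  · exact Cfsg.Agent.Lib.Helper12.false_of_sylow_test hG 176 11 1 16 hn (by norm_num) (by norm_num) (by norm_num) (by norm_num) (by decide)
  · exact Cfsg.Agent.Lib.Helper12.false_of_sylow_test hG 177 59 1 3 hn (by norm_num) (by norm_num) (by norm_num) (by norm_num) (by decide)
  · exact Cfsg.Agent.Lib.Helper12.false_of_sylow_test hG 178 89 1 2 hn (by norm_num) (by norm_num) (by norm_num) (by norm_num) (by decide)
  · exact Cfsg.Agent.Lib.Helper12.false_of_sylow_test hG 179 179 1 1 hn (by norm_num) (by norm_num) (by norm_num) (by norm_num) (by decide)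
  · exact false_of_refined_test hG 180 5 36 hn (by norm_num) (by norm_num) (by norm_num) (by decide)
  · exact Cfsg.Agent.Lib.Helper12.false_of_sylow_test hG 181 181 1 1 hn (by norm_num) (by norm_num) (by norm_num) (by norm_num) (by decide)
  · exact Cfsg.Agent.Lib.Helper12.false_of_sylow_test hG 182 7 1 26 hn (by norm_num) (by norm_num) (by norm_num) (by norm_num) (by decide)
  · exact Cfsg.Agent.Lib.Helper12.false_of_sylow_test hG 183 61 1 3 hn (by norm_num) (by norm_num) (by norm_num) (by norm_num) (by decide)
  · exact Cfsg.Agent.Lib.Helper12.false_of_sylow_test hG 184 23 1 8 hn (by norm_num) (by norm_num) (by norm_num) (by norm_num) (by decide)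
  · exact Cfsg.Agent.Lib.Helper12.false_of_sylow_test hG 185 37 1 5 hn (by norm_num) (by norm_num) (by norm_num) (by norm_num) (by decide)
  · exact Cfsg.Agent.Lib.Helper12.false_of_sylow_test hG 186 31 1 6 hn (by norm_num) (by norm_num) (by norm_num) (by norm_num) (by decide)
  · exact Cfsg.Agent.Lib.Helper12.false_of_sylow_test hG 187 17 1 11 hn (by norm_num) (by norm_num) (by norm_num) (by norm_num) (by decide)
  · exact Cfsg.Agent.Lib.Helper12.false_of_sylow_test hG 188 47 1 4 hn (by norm_num) (by norm_num) (by norm_num) (by norm_num) (by decide)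
  · exact Cfsg.Agent.Lib.Helper12.false_of_sylow_test hG 189 3 3 7 hn (by norm_num) (by norm_num) (by norm_num) (by norm_num) (by decide)
  · exact Cfsg.Agent.Lib.Helper12.false_of_sylow_test hG 190 19 1 10 hn (by norm_num) (by norm_num) (by norm_num) (by norm_num) (by decide)
  · exact Cfsg.Agent.Lib.Helper12.false_of_sylow_test hG 191 191 1 1 hn (by norm_num) (by norm_num) (by norm_num) (by norm_num) (by decide)
  · exact Cfsg.Agent.Lib.Helper12.false_of_sylow_test hG 192 2 6 3 hn (by norm_num) (by norm_num) (by norm_num) (by norm_num) (by decide)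
  · exact Cfsg.Agent.Lib.Helper12.false_of_sylow_test hG 193 193 1 1 hn (by norm_num) (by norm_num) (by norm_num) (by norm_num) (by decide)
  · exact Cfsg.Agent.Lib.Helper12.false_of_sylow_test hG 194 97 1 2 hn (by norm_num) (by norm_num) (by norm_num) (by norm_num) (by decide)
  · exact Cfsg.Agent.Lib.Helper12.false_of_sylow_test hG 195 13 1 15 hn (by norm_num) (by norm_num) (by norm_num) (by norm_num) (by decide)
  · exact Cfsg.Agent.Lib.Helper12.false_of_sylow_test hG 196 7 2 4 hn (by norm_num) (by norm_num) (by norm_num) (by norm_num) (by decide)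
  · exact Cfsg.Agent.Lib.Helper12.false_of_sylow_test hG 197 197 1 1 hn (by norm_num) (by norm_num) (by norm_num) (by norm_num) (by decide)
  · exact Cfsg.Agent.Lib.Helper12.false_of_sylow_test hG 198 11 1 18 hn (by norm_num) (by norm_num) (by norm_num) (by norm_num) (by decide)
  · exact Cfsg.Agent.Lib.Helper12.false_of_sylow_test hG 199 199 1 1 hn (by norm_num) (by norm_num) (by norm_num) (by norm_num) (by decide)
  · exact Cfsg.Agent.Lib.Helper12.false_of_sylow_test hG 200 5 2 8 hn (by norm_num) (by norm_num) (by norm_num) (by norm_num) (by decide)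

end Cfsg.Agent.Lib.Helper17.Small1092
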