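import Cfsg.Agent.Lib.Helper17.Small1092Tests
import Cfsg.Agent.S0499

/-! Generated case split for S0496: orders 201..300. -/

set_option autoImplicit false
set_option maxHeartbeats 4000000
set_option maxRecDepth 100000

namespace Cfsg.Agent.Lib.Helper17.Small1092

theorem chunk2 {G : Type*} [Group G] [Finite G] [IsSimpleGroup G] (hG : ¬ IsMulCommutative G)
    (n : ℕ) (hn : Nat.card G = n) (hlo : 201 ≤ n) (hhi : n ≤ 300)  : False := by
  interval_cases n
  · exact Cfsg.Agent.Lib.Helper12.false_of_sylow_test hG 201 67 1 3 hn (by norm_num) (by norm_num) (by norm_num) (by norm_num) (by decide)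
  · exact Cfsg.Agent.Lib.Helper12.false_of_sylow_test hG 202 101 1 2 hn (by norm_num) (by norm_num) (by norm_num) (by norm_num) (by decide)
  · exact Cfsg.Agent.Lib.Helper12.false_of_sylow_test hG 203 29 1 7 hn (by norm_num) (by norm_num) (by norm_num) (by norm_num) (by decide)
  · exact Cfsg.Agent.Lib.Helper12.false_of_sylow_test hG 204 17 1 12 hn (by norm_num) (by norm_num) (by norm_num) (by norm_num) (by decide)
  · exact Cfsg.Agent.Lib.Helper12.false_of_sylow_test hG 205 41 1 5 hn (by norm_num) (by norm_num) (by norm_num) (by norm_num) (by decide)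
  · exact Cfsg.Agent.Lib.Helper12.false_of_sylow_test hG 206 103 1 2 hn (by norm_num) (by norm_num) (by norm_num) (by norm_num) (by decide)
  · exact Cfsg.Agent.Lib.Helper12.false_of_sylow_test hG 207 23 1 9 hn (by norm_num) (by norm_num) (by norm_num) (by norm_num) (by decide)
  · exact Cfsg.Agent.Lib.Helper12.false_of_sylow_test hG 208 13 1 16 hn (by norm_num) (by norm_num) (by norm_num) (by norm_num) (by decide)
  · exact Cfsg.Agent.Lib.Helper12.false_of_sylow_test hG 209 19 1 11 hn (by norm_num) (by norm_num) (by norm_num) (by norm_num) (by decide)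
  · have h2 := Cfsg.Agent.S0499.result hG (by rw [hn]; decide)
    rw [hn] at h2; omega
  · exact Cfsg.Agent.Lib.Helper12.false_of_sylow_test hG 211 211 1 1 hn (by norm_num) (by norm_num) (by norm_num) (by norm_num) (by decide)
  · exact Cfsg.Agent.Lib.Helper12.false_of_sylow_test hG 212 53 1 4 hn (by norm_num) (by norm_num) (by norm_num) (by norm_num) (by decide)
  · exact Cfsg.Agent.Lib.Helper12.false_of_sylow_test hG 213 71 1 3 hn (by norm_num) (by norm_num) (by norm_num) (by norm_num) (by decide)
  · exact Cfsg.Agent.Lib.Helper12.false_of_sylow_test hG 214 107 1 2 hn (by norm_num) (by norm_num) (by norm_num) (by norm_num) (by decide)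
  · exact Cfsg.Agent.Lib.Helper12.false_of_sylow_test hG 215 43 1 5 hn (by norm_num) (by norm_num) (by norm_num) (by norm_num) (by decide)
  · exact Cfsg.Agent.Lib.Helper12.false_of_sylow_test hG 216 3 3 8 hn (by norm_num) (by norm_num) (by norm_num) (by norm_num) (by decide)
  · exact Cfsg.Agent.Lib.Helper12.false_of_sylow_test hG 217 31 1 7 hn (by norm_num) (by norm_num) (by norm_num) (by norm_num) (by decide)
  · exact Cfsg.Agent.Lib.Helper12.false_of_sylow_test hG 218 109 1 2 hn (by norm_num) (by norm_num) (by norm_num) (by norm_num) (by decide)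
  · exact Cfsg.Agent.Lib.Helper12.false_of_sylow_test hG 219 73 1 3 hn (by norm_num) (by norm_num) (by norm_num) (by norm_num) (by decide)
  · exact Cfsg.Agent.Lib.Helper12.false_of_sylow_test hG 220 11 1 20 hn (by norm_num) (by norm_num) (by norm_num) (by norm_num) (by decide)
  · exact Cfsg.Agent.Lib.Helper12.false_of_sylow_test hG 221 17 1 13 hn (by norm_num) (by norm_num) (by norm_num) (by norm_num) (by decide)
  · exact Cfsg.Agent.Lib.Helper12.false_of_sylow_test hG 222 37 1 6 hn (by norm_num) (by norm_num) (by norm_num) (by norm_num) (by decide)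
  · exact Cfsg.Agent.Lib.Helper12.false_of_sylow_test hG 223 223 1 1 hn (by norm_num) (by norm_num) (by norm_num) (by norm_num) (by decide)
  · exact Cfsg.Agent.Lib.Helper12.false_of_sylow_test hG 224 2 5 7 hn (by norm_num) (by norm_num) (by norm_num) (by norm_num) (by decide)
  · exact Cfsg.Agent.Lib.Helper12.false_of_sylow_test hG 225 5 2 9 hn (by norm_num) (by norm_num) (by norm_num) (by norm_num) (by decide)
  · exact Cfsg.Agent.Lib.Helper12.false_of_sylow_test hG 226 113 1 2 hn (by norm_num) (by norm_num) (by norm_num) (by norm_num) (by decide)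
  · exact Cfsg.Agent.Lib.Helper12.false_of_sylow_test hG 227 227 1 1 hn (by norm_num) (by norm_num) (by norm_num) (by norm_num) (by decide)
  · exact Cfsg.Agent.Lib.Helper12.false_of_sylow_test hG 228 19 1 12 hn (by norm_num) (by norm_num) (by norm_num) (by norm_num) (by decide)
  · exact Cfsg.Agent.Lib.Helper12.false_of_sylow_test hG 229 229 1 1 hn (by norm_num) (by norm_num) (by norm_num) (by norm_num) (by decide)
  · exact Cfsg.Agent.Lib.Helper12.false_of_sylow_test hG 230 23 1 10 hn (by norm_num) (by norm_num) (by norm_num) (by norm_num) (by decide)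
  · exact Cfsg.Agent.Lib.Helper12.false_of_sylow_test hG 231 11 1 21 hn (by norm_num) (by norm_num) (by norm_num) (by norm_num) (by decide)
  · exact Cfsg.Agent.Lib.Helper12.false_of_sylow_test hG 232 29 1 8 hn (by norm_num) (by norm_num) (by norm_num) (by norm_num) (by decide)
  · exact Cfsg.Agent.Lib.Helper12.false_of_sylow_test hG 233 233 1 1 hn (by norm_num) (by norm_num) (by norm_num) (by norm_num) (by decide)
  · exact Cfsg.Agent.Lib.Helper12.false_of_sylow_test hG 234 13 1 18 hn (by norm_num) (by norm_num) (by norm_num) (by norm_num) (by decide)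
  · exact Cfsg.Agent.Lib.Helper12.false_of_sylow_test hG 235 47 1 5 hn (by norm_num) (by norm_num) (by norm_num) (by norm_num) (by decide)
  · exact Cfsg.Agent.Lib.Helper12.false_of_sylow_test hG 236 59 1 4 hn (by norm_num) (by norm_num) (by norm_num) (by norm_num) (by decide)
  · exact Cfsg.Agent.Lib.Helper12.false_of_sylow_test hG 237 79 1 3 hn (by norm_num) (by norm_num) (by norm_num) (by norm_num) (by decide)
  · exact Cfsg.Agent.Lib.Helper12.false_of_sylow_test hG 238 17 1 14 hn (by norm_num) (by norm_num) (by norm_num) (by norm_num) (by decide)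
  · exact Cfsg.Agent.Lib.Helper12.false_of_sylow_test hG 239 239 1 1 hn (by norm_num) (by norm_num) (by norm_num) (by norm_num) (by decide)
  · exact false_of_refined_test hG 240 5 48 hn (by norm_num) (by norm_num) (by norm_num) (by decide)
  · exact Cfsg.Agent.Lib.Helper12.false_of_sylow_test hG 241 241 1 1 hn (by norm_num) (by norm_num) (by norm_num) (by norm_num) (by decide)
  · exact Cfsg.Agent.Lib.Helper12.false_of_sylow_test hG 242 11 2 2 hn (by norm_num) (by norm_num) (by norm_num) (by norm_num) (by decide)
  · exact Cfsg.Agent.Lib.Helper12.false_of_sylow_test hG 243 3 5 1 hn (by norm_num) (by norm_num) (by norm_num) (by norm_num) (by decide)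
  · exact Cfsg.Agent.Lib.Helper12.false_of_sylow_test hG 244 61 1 4 hn (by norm_num) (by norm_num) (by norm_num) (by norm_num) (by decide)
  · exact Cfsg.Agent.Lib.Helper12.false_of_sylow_test hG 245 7 2 5 hn (by norm_num) (by norm_num) (by norm_num) (by norm_num) (by decide)
  · exact Cfsg.Agent.Lib.Helper12.false_of_sylow_test hG 246 41 1 6 hn (by norm_num) (by norm_num) (by norm_num) (by norm_num) (by decide)
  · exact Cfsg.Agent.Lib.Helper12.false_of_sylow_test hG 247 19 1 13 hn (by norm_num) (by norm_num) (by norm_num) (by norm_num) (by decide)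
  · exact Cfsg.Agent.Lib.Helper12.false_of_sylow_test hG 248 31 1 8 hn (by norm_num) (by norm_num) (by norm_num) (by norm_num) (by decide)
  · exact Cfsg.Agent.Lib.Helper12.false_of_sylow_test hG 249 83 1 3 hn (by norm_num) (by norm_num) (by norm_num) (by norm_num) (by decide)
  · exact Cfsg.Agent.Lib.Helper12.false_of_sylow_test hG 250 5 3 2 hn (by norm_num) (by norm_num) (by norm_num) (by norm_num) (by decide)
  · exact Cfsg.Agent.Lib.Helper12.false_of_sylow_test hG 251 251 1 1 hn (by norm_num) (by norm_num) (by norm_num) (by norm_num) (by decide)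
  · exact false_of_refined_test hG 252 7 36 hn (by norm_num) (by norm_num) (by norm_num) (by decide)
  · exact Cfsg.Agent.Lib.Helper12.false_of_sylow_test hG 253 23 1 11 hn (by norm_num) (by norm_num) (by norm_num) (by norm_num) (by decide)
  · exact Cfsg.Agent.Lib.Helper12.false_of_sylow_test hG 254 127 1 2 hn (by norm_num) (by norm_num) (by norm_num) (by norm_num) (by decide)
  · exact Cfsg.Agent.Lib.Helper12.false_of_sylow_test hG 255 17 1 15 hn (by norm_num) (by norm_num) (by norm_num) (by norm_num) (by decide)
  · exact Cfsg.Agent.Lib.Helper12.false_of_sylow_test hG 256 2 8 1 hn (by norm_num) (by norm_num) (by norm_num) (by norm_num) (by decide)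
  · exact Cfsg.Agent.Lib.Helper12.false_of_sylow_test hG 257 257 1 1 hn (by norm_num) (by norm_num) (by norm_num) (by norm_num) (by decide)
  · exact Cfsg.Agent.Lib.Helper12.false_of_sylow_test hG 258 43 1 6 hn (by norm_num) (by norm_num) (by norm_num) (by norm_num) (by decide)
  · exact Cfsg.Agent.Lib.Helper12.false_of_sylow_test hG 259 37 1 7 hn (by norm_num) (by norm_num) (by norm_num) (by norm_num) (by decide)
  · exact Cfsg.Agent.Lib.Helper12.false_of_sylow_test hG 260 13 1 20 hn (by norm_num) (by norm_num) (by norm_num) (by norm_num) (by decide)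
  · exact Cfsg.Agent.Lib.Helper12.false_of_sylow_test hG 261 29 1 9 hn (by norm_num) (by norm_num) (by norm_num) (by norm_num) (by decide)
  · exact Cfsg.Agent.Lib.Helper12.false_of_sylow_test hG 262 131 1 2 hn (by norm_num) (by norm_num) (by norm_num) (by norm_num) (by decide)
  · exact Cfsg.Agent.Lib.Helper12.false_of_sylow_test hG 263 263 1 1 hn (by norm_num) (by norm_num) (by norm_num) (by norm_num) (by decide)
  · exact false_of_refined_test hG 264 11 24 hn (by norm_num) (by norm_num) (by norm_num) (by decide)
  · exact Cfsg.Agent.Lib.Helper12.false_of_sylow_test hG 265 53 1 5 hn (by norm_num) (by norm_num) (by norm_num) (by norm_num) (by decide)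
  · exact Cfsg.Agent.Lib.Helper12.false_of_sylow_test hG 266 19 1 14 hn (by norm_num) (by norm_num) (by norm_num) (by norm_num) (by decide)
  · exact Cfsg.Agent.Lib.Helper12.false_of_sylow_test hG 267 89 1 3 hn (by norm_num) (by norm_num) (by norm_num) (by norm_num) (by decide)
  · exact Cfsg.Agent.Lib.Helper12.false_of_sylow_test hG 268 67 1 4 hn (by norm_num) (by norm_num) (by norm_num) (by norm_num) (by decide)
  · exact Cfsg.Agent.Lib.Helper12.false_of_sylow_test hG 269 269 1 1 hn (by norm_num) (by norm_num) (by norm_num) (by norm_num) (by decide)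
  · exact Cfsg.Agent.Lib.Helper12.false_of_sylow_test hG 270 5 1 54 hn (by norm_num) (by norm_num) (by norm_num) (by norm_num) (by decide)
  · exact Cfsg.Agent.Lib.Helper12.false_of_sylow_test hG 271 271 1 1 hn (by norm_num) (by norm_num) (by norm_num) (by norm_num) (by decide)
  · exact Cfsg.Agent.Lib.Helper12.false_of_sylow_test hG 272 17 1 16 hn (by norm_num) (by norm_num) (by norm_num) (by norm_num) (by decide)
  · exact Cfsg.Agent.Lib.Helper12.false_of_sylow_test hG 273 13 1 21 hn (by norm_num) (by norm_num) (by norm_num) (by norm_num) (by decide)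
  · exact Cfsg.Agent.Lib.Helper12.false_of_sylow_test hG 274 137 1 2 hn (by norm_num) (by norm_num) (by norm_num) (by norm_num) (by decide)
  · exact Cfsg.Agent.Lib.Helper12.false_of_sylow_test hG 275 11 1 25 hn (by norm_num) (by norm_num) (by norm_num) (by norm_num) (by decide)
  · exact Cfsg.Agent.Lib.Helper12.false_of_sylow_test hG 276 23 1 12 hn (by norm_num) (by norm_num) (by norm_num) (by norm_num) (by decide)
  · exact Cfsg.Agent.Lib.Helper12.false_of_sylow_test hG 277 277 1 1 hn (by norm_num) (by norm_num) (by norm_num) (by norm_num) (by decide)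
  · exact Cfsg.Agent.Lib.Helper12.false_of_sylow_test hG 278 139 1 2 hn (by norm_num) (by norm_num) (by norm_num) (by norm_num) (by decide)
  · exact Cfsg.Agent.Lib.Helper12.false_of_sylow_test hG 279 31 1 9 hn (by norm_num) (by norm_num) (by norm_num) (by norm_num) (by decide)
  · exact false_of_refined_test hG 280 7 40 hn (by norm_num) (by norm_num) (by norm_num) (by decide)
  · exact Cfsg.Agent.Lib.Helper12.false_of_sylow_test hG 281 281 1 1 hn (by norm_num) (by norm_num) (by norm_num) (by norm_num) (by decide)
  · exact Cfsg.Agent.Lib.Helper12.false_of_sylow_test hG 282 47 1 6 hn (by norm_num) (by norm_num) (by norm_num) (by norm_num) (by decide)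
  · exact Cfsg.Agent.Lib.Helper12.false_of_sylow_test hG 283 283 1 1 hn (by norm_num) (by norm_num) (by norm_num) (by norm_num) (by decide)
  · exact Cfsg.Agent.Lib.Helper12.false_of_sylow_test hG 284 71 1 4 hn (by norm_num) (by norm_num) (by norm_num) (by norm_num) (by decide)
  · exact Cfsg.Agent.Lib.Helper12.false_of_sylow_test hG 285 19 1 15 hn (by norm_num) (by norm_num) (by norm_num) (by norm_num) (by decide)
  · exact Cfsg.Agent.Lib.Helper12.false_of_sylow_test hG 286 13 1 22 hn (by norm_num) (by norm_num) (by norm_num) (by norm_num) (by decide)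
  · exact Cfsg.Agent.Lib.Helper12.false_of_sylow_test hG 287 41 1 7 hn (by norm_num) (by norm_num) (by norm_num) (by norm_num) (by decide)
  · exact false_of_two_primes hG 288 2 3 5 2 hn (by norm_num) (by norm_num) (by norm_num)
  · exact Cfsg.Agent.Lib.Helper12.false_of_sylow_test hG 289 17 2 1 hn (by norm_num) (by norm_num) (by norm_num) (by norm_num) (by decide)
  · exact Cfsg.Agent.Lib.Helper12.false_of_sylow_test hG 290 29 1 10 hn (by norm_num) (by norm_num) (by norm_num) (by norm_num) (by decide)
  · exact Cfsg.Agent.Lib.Helper12.false_of_sylow_test hG 291 97 1 3 hn (by norm_num) (by norm_num) (by norm_num) (by norm_num) (by decide)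
  · exact Cfsg.Agent.Lib.Helper12.false_of_sylow_test hG 292 73 1 4 hn (by norm_num) (by norm_num) (by norm_num) (by norm_num) (by decide)
  · exact Cfsg.Agent.Lib.Helper12.false_of_sylow_test hG 293 293 1 1 hn (by norm_num) (by norm_num) (by norm_num) (by norm_num) (by decide)
  · exact Cfsg.Agent.Lib.Helper12.false_of_sylow_test hG 294 7 2 6 hn (by norm_num) (by norm_num) (by norm_num) (by norm_num) (by decide)
  · exact Cfsg.Agent.Lib.Helper12.false_of_sylow_test hG 295 59 1 5 hn (by norm_num) (by norm_num) (by norm_num) (by norm_num) (by decide)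
  · exact Cfsg.Agent.Lib.Helper12.false_of_sylow_test hG 296 37 1 8 hn (by norm_num) (by norm_num) (by norm_num) (by norm_num) (by decide)
  · exact Cfsg.Agent.Lib.Helper12.false_of_sylow_test hG 297 3 3 11 hn (by norm_num) (by norm_num) (by norm_num) (by norm_num) (by decide)
  · exact Cfsg.Agent.Lib.Helper12.false_of_sylow_test hG 298 149 1 2 hn (by norm_num) (by norm_num) (by norm_num) (by norm_num) (by decide)
  · exact Cfsg.Agent.Lib.Helper12.false_of_sylow_test hG 299 23 1 13 hn (by norm_num) (by norm_num) (by norm_num) (by norm_num) (by decide)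
  · exact Cfsg.Agent.Lib.Helper12.false_of_sylow_test hG 300 5 2 12 hn (by norm_num) (by norm_num) (by norm_num) (by norm_num) (by decide)

end Cfsg.Agent.Lib.Helper17.Small1092
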