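import Cfsg.Agent.Lib.Helper17.Small1092Tests
import Cfsg.Agent.S0499

/-! Generated case split for S0496: orders 301..400. -/

set_option autoImplicit false
set_option maxHeartbeats 4000000
set_option maxRecDepth 100000

namespace Cfsg.Agent.Lib.Helper17.Small1092

theorem chunk3 {G : Type*} [Group G] [Finite G] [IsSimpleGroup G] (hG : ¬ IsMulCommutative G)
    (n : ℕ) (hn : Nat.card G = n) (hlo : 301 ≤ n) (hhi : n ≤ 400) (h360 : n ≠ 360) : False := by
  interval_cases n
  · exact Cfsg.Agent.Lib.Helper12.false_of_sylow_test hG 301 43 1 7 hn (by norm_num) (by norm_num) (by norm_num) (by norm_num) (by decide)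
  · exact Cfsg.Agent.Lib.Helper12.false_of_sylow_test hG 302 151 1 2 hn (by norm_num) (by norm_num) (by norm_num) (by norm_num) (by decide)
  · exact Cfsg.Agent.Lib.Helper12.false_of_sylow_test hG 303 101 1 3 hn (by norm_num) (by norm_num) (by norm_num) (by norm_num) (by decide)
  · exact Cfsg.Agent.Lib.Helper12.false_of_sylow_test hG 304 19 1 16 hn (by norm_num) (by norm_num) (by norm_num) (by norm_num) (by decide)
  · exact Cfsg.Agent.Lib.Helper12.false_of_sylow_test hG 305 61 1 5 hn (by norm_num) (by norm_num) (by norm_num) (by norm_num) (by decide)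
  · have h2 := Cfsg.Agent.S0499.result hG (by rw [hn]; decide)
    rw [hn] at h2; omega
  · exact Cfsg.Agent.Lib.Helper12.false_of_sylow_test hG 307 307 1 1 hn (by norm_num) (by norm_num) (by norm_num) (by norm_num) (by decide)
  · exact Cfsg.Agent.Lib.Helper12.false_of_sylow_test hG 308 11 1 28 hn (by norm_num) (by norm_num) (by norm_num) (by norm_num) (by decide)
  · exact Cfsg.Agent.Lib.Helper12.false_of_sylow_test hG 309 103 1 3 hn (by norm_num) (by norm_num) (by norm_num) (by norm_num) (by decide)
  · exact Cfsg.Agent.Lib.Helper12.false_of_sylow_test hG 310 31 1 10 hn (by norm_num) (by norm_num) (by norm_num) (by norm_num) (by decide)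
  · exact Cfsg.Agent.Lib.Helper12.false_of_sylow_test hG 311 311 1 1 hn (by norm_num) (by norm_num) (by norm_num) (by norm_num) (by decide)
  · exact Cfsg.Agent.Lib.Helper12.false_of_sylow_test hG 312 13 1 24 hn (by norm_num) (by norm_num) (by norm_num) (by norm_num) (by decide)
  · exact Cfsg.Agent.Lib.Helper12.false_of_sylow_test hG 313 313 1 1 hn (by norm_num) (by norm_num) (by norm_num) (by norm_num) (by decide)
  · exact Cfsg.Agent.Lib.Helper12.false_of_sylow_test hG 314 157 1 2 hn (by norm_num) (by norm_num) (by norm_num) (by norm_num) (by decide)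
  · exact false_of_refined_test hG 315 5 63 hn (by norm_num) (by norm_num) (by norm_num) (by decide)
  · exact Cfsg.Agent.Lib.Helper12.false_of_sylow_test hG 316 79 1 4 hn (by norm_num) (by norm_num) (by norm_num) (by norm_num) (by decide)
  · exact Cfsg.Agent.Lib.Helper12.false_of_sylow_test hG 317 317 1 1 hn (by norm_num) (by norm_num) (by norm_num) (by norm_num) (by decide)
  · exact Cfsg.Agent.Lib.Helper12.false_of_sylow_test hG 318 53 1 6 hn (by norm_num) (by norm_num) (by norm_num) (by norm_num) (by decide)
  · exact Cfsg.Agent.Lib.Helper12.false_of_sylow_test hG 319 29 1 11 hn (by norm_num) (by norm_num) (by norm_num) (by norm_num) (by decide)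
  · exact Cfsg.Agent.Lib.Helper12.false_of_sylow_test hG 320 2 6 5 hn (by norm_num) (by norm_num) (by norm_num) (by norm_num) (by decide)
  · exact Cfsg.Agent.Lib.Helper12.false_of_sylow_test hG 321 107 1 3 hn (by norm_num) (by norm_num) (by norm_num) (by norm_num) (by decide)
  · exact Cfsg.Agent.Lib.Helper12.false_of_sylow_test hG 322 23 1 14 hn (by norm_num) (by norm_num) (by norm_num) (by norm_num) (by decide)
  · exact Cfsg.Agent.Lib.Helper12.false_of_sylow_test hG 323 19 1 17 hn (by norm_num) (by norm_num) (by norm_num) (by norm_num) (by decide)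
  · exact Cfsg.Agent.Lib.Helper12.false_of_sylow_test hG 324 3 4 4 hn (by norm_num) (by norm_num) (by norm_num) (by norm_num) (by decide)
  · exact Cfsg.Agent.Lib.Helper12.false_of_sylow_test hG 325 5 2 13 hn (by norm_num) (by norm_num) (by norm_num) (by norm_num) (by decide)
  · exact Cfsg.Agent.Lib.Helper12.false_of_sylow_test hG 326 163 1 2 hn (by norm_num) (by norm_num) (by norm_num) (by norm_num) (by decide)
  · exact Cfsg.Agent.Lib.Helper12.false_of_sylow_test hG 327 109 1 3 hn (by norm_num) (by norm_num) (by norm_num) (by norm_num) (by decide)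
  · exact Cfsg.Agent.Lib.Helper12.false_of_sylow_test hG 328 41 1 8 hn (by norm_num) (by norm_num) (by norm_num) (by norm_num) (by decide)
  · exact Cfsg.Agent.Lib.Helper12.false_of_sylow_test hG 329 47 1 7 hn (by norm_num) (by norm_num) (by norm_num) (by norm_num) (by decide)
  · exact Cfsg.Agent.Lib.Helper12.false_of_sylow_test hG 330 11 1 30 hn (by norm_num) (by norm_num) (by norm_num) (by norm_num) (by decide)
  · exact Cfsg.Agent.Lib.Helper12.false_of_sylow_test hG 331 331 1 1 hn (by norm_num) (by norm_num) (by norm_num) (by norm_num) (by decide)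
  · exact Cfsg.Agent.Lib.Helper12.false_of_sylow_test hG 332 83 1 4 hn (by norm_num) (by norm_num) (by norm_num) (by norm_num) (by decide)
  · exact Cfsg.Agent.Lib.Helper12.false_of_sylow_test hG 333 37 1 9 hn (by norm_num) (by norm_num) (by norm_num) (by norm_num) (by decide)
  · exact Cfsg.Agent.Lib.Helper12.false_of_sylow_test hG 334 167 1 2 hn (by norm_num) (by norm_num) (by norm_num) (by norm_num) (by decide)
  · exact Cfsg.Agent.Lib.Helper12.false_of_sylow_test hG 335 67 1 5 hn (by norm_num) (by norm_num) (by norm_num) (by norm_num) (by decide)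
  · exact false_of_refined_test hG 336 7 48 hn (by norm_num) (by norm_num) (by norm_num) (by decide)
  · exact Cfsg.Agent.Lib.Helper12.false_of_sylow_test hG 337 337 1 1 hn (by norm_num) (by norm_num) (by norm_num) (by norm_num) (by decide)
  · exact Cfsg.Agent.Lib.Helper12.false_of_sylow_test hG 338 13 2 2 hn (by norm_num) (by norm_num) (by norm_num) (by norm_num) (by decide)
  · exact Cfsg.Agent.Lib.Helper12.false_of_sylow_test hG 339 113 1 3 hn (by norm_num) (by norm_num) (by norm_num) (by norm_num) (by decide)
  · exact Cfsg.Agent.Lib.Helper12.false_of_sylow_test hG 340 17 1 20 hn (by norm_num) (by norm_num) (by norm_num) (by norm_num) (by decide)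
  · exact Cfsg.Agent.Lib.Helper12.false_of_sylow_test hG 341 31 1 11 hn (by norm_num) (by norm_num) (by norm_num) (by norm_num) (by decide)
  · exact Cfsg.Agent.Lib.Helper12.false_of_sylow_test hG 342 19 1 18 hn (by norm_num) (by norm_num) (by norm_num) (by norm_num) (by decide)
  · exact Cfsg.Agent.Lib.Helper12.false_of_sylow_test hG 343 7 3 1 hn (by norm_num) (by norm_num) (by norm_num) (by norm_num) (by decide)
  · exact Cfsg.Agent.Lib.Helper12.false_of_sylow_test hG 344 43 1 8 hn (by norm_num) (by norm_num) (by norm_num) (by norm_num) (by decide)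
  · exact Cfsg.Agent.Lib.Helper12.false_of_sylow_test hG 345 23 1 15 hn (by norm_num) (by norm_num) (by norm_num) (by norm_num) (by decide)
  · exact Cfsg.Agent.Lib.Helper12.false_of_sylow_test hG 346 173 1 2 hn (by norm_num) (by norm_num) (by norm_num) (by norm_num) (by decide)
  · exact Cfsg.Agent.Lib.Helper12.false_of_sylow_test hG 347 347 1 1 hn (by norm_num) (by norm_num) (by norm_num) (by norm_num) (by decide)
  · exact Cfsg.Agent.Lib.Helper12.false_of_sylow_test hG 348 29 1 12 hn (by norm_num) (by norm_num) (by norm_num) (by norm_num) (by decide)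
  · exact Cfsg.Agent.Lib.Helper12.false_of_sylow_test hG 349 349 1 1 hn (by norm_num) (by norm_num) (by norm_num) (by norm_num) (by decide)
  · exact Cfsg.Agent.Lib.Helper12.false_of_sylow_test hG 350 5 2 14 hn (by norm_num) (by norm_num) (by norm_num) (by norm_num) (by decide)
  · exact false_of_two_primes hG 351 3 13 3 1 hn (by norm_num) (by norm_num) (by norm_num)
  · exact Cfsg.Agent.Lib.Helper12.false_of_sylow_test hG 352 11 1 32 hn (by norm_num) (by norm_num) (by norm_num) (by norm_num) (by decide)
  · exact Cfsg.Agent.Lib.Helper12.false_of_sylow_test hG 353 353 1 1 hn (by norm_num) (by norm_num) (by norm_num) (by norm_num) (by decide)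
  · exact Cfsg.Agent.Lib.Helper12.false_of_sylow_test hG 354 59 1 6 hn (by norm_num) (by norm_num) (by norm_num) (by norm_num) (by decide)
  · exact Cfsg.Agent.Lib.Helper12.false_of_sylow_test hG 355 71 1 5 hn (by norm_num) (by norm_num) (by norm_num) (by norm_num) (by decide)
  · exact Cfsg.Agent.Lib.Helper12.false_of_sylow_test hG 356 89 1 4 hn (by norm_num) (by norm_num) (by norm_num) (by norm_num) (by decide)
  · exact Cfsg.Agent.Lib.Helper12.false_of_sylow_test hG 357 17 1 21 hn (by norm_num) (by norm_num) (by norm_num) (by norm_num) (by decide)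
  · exact Cfsg.Agent.Lib.Helper12.false_of_sylow_test hG 358 179 1 2 hn (by norm_num) (by norm_num) (by norm_num) (by norm_num) (by decide)
  · exact Cfsg.Agent.Lib.Helper12.false_of_sylow_test hG 359 359 1 1 hn (by norm_num) (by norm_num) (by norm_num) (by norm_num) (by decide)
  · exact absurd rfl h360
  · exact Cfsg.Agent.Lib.Helper12.false_of_sylow_test hG 361 19 2 1 hn (by norm_num) (by norm_num) (by norm_num) (by norm_num) (by decide)
  · exact Cfsg.Agent.Lib.Helper12.false_of_sylow_test hG 362 181 1 2 hn (by norm_num) (by norm_num) (by norm_num) (by norm_num) (by decide)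
  · exact Cfsg.Agent.Lib.Helper12.false_of_sylow_test hG 363 11 2 3 hn (by norm_num) (by norm_num) (by norm_num) (by norm_num) (by decide)
  · exact Cfsg.Agent.Lib.Helper12.false_of_sylow_test hG 364 7 1 52 hn (by norm_num) (by norm_num) (by norm_num) (by norm_num) (by decide)
  · exact Cfsg.Agent.Lib.Helper12.false_of_sylow_test hG 365 73 1 5 hn (by norm_num) (by norm_num) (by norm_num) (by norm_num) (by decide)
  · exact Cfsg.Agent.Lib.Helper12.false_of_sylow_test hG 366 61 1 6 hn (by norm_num) (by norm_num) (by norm_num) (by norm_num) (by decide)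
  · exact Cfsg.Agent.Lib.Helper12.false_of_sylow_test hG 367 367 1 1 hn (by norm_num) (by norm_num) (by norm_num) (by norm_num) (by decide)
  · exact Cfsg.Agent.Lib.Helper12.false_of_sylow_test hG 368 23 1 16 hn (by norm_num) (by norm_num) (by norm_num) (by norm_num) (by decide)
  · exact Cfsg.Agent.Lib.Helper12.false_of_sylow_test hG 369 41 1 9 hn (by norm_num) (by norm_num) (by norm_num) (by norm_num) (by decide)
  · exact Cfsg.Agent.Lib.Helper12.false_of_sylow_test hG 370 37 1 10 hn (by norm_num) (by norm_num) (by norm_num) (by norm_num) (by decide)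
  · exact Cfsg.Agent.Lib.Helper12.false_of_sylow_test hG 371 53 1 7 hn (by norm_num) (by norm_num) (by norm_num) (by norm_num) (by decide)
  · exact Cfsg.Agent.Lib.Helper12.false_of_sylow_test hG 372 31 1 12 hn (by norm_num) (by norm_num) (by norm_num) (by norm_num) (by decide)
  · exact Cfsg.Agent.Lib.Helper12.false_of_sylow_test hG 373 373 1 1 hn (by norm_num) (by norm_num) (by norm_num) (by norm_num) (by decide)
  · exact Cfsg.Agent.Lib.Helper12.false_of_sylow_test hG 374 17 1 22 hn (by norm_num) (by norm_num) (by norm_num) (by norm_num) (by decide)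
  · exact Cfsg.Agent.Lib.Helper12.false_of_sylow_test hG 375 5 3 3 hn (by norm_num) (by norm_num) (by norm_num) (by norm_num) (by decide)
  · exact Cfsg.Agent.Lib.Helper12.false_of_sylow_test hG 376 47 1 8 hn (by norm_num) (by norm_num) (by norm_num) (by norm_num) (by decide)
  · exact Cfsg.Agent.Lib.Helper12.false_of_sylow_test hG 377 29 1 13 hn (by norm_num) (by norm_num) (by norm_num) (by norm_num) (by decide)
  · exact Cfsg.Agent.Lib.Helper12.false_of_sylow_test hG 378 3 3 14 hn (by norm_num) (by norm_num) (by norm_num) (by norm_num) (by decide)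
  · exact Cfsg.Agent.Lib.Helper12.false_of_sylow_test hG 379 379 1 1 hn (by norm_num) (by norm_num) (by norm_num) (by norm_num) (by decide)
  · have h2 := Cfsg.Agent.S0499.result hG (by rw [hn]; decide)
    rw [hn] at h2; omega
  · exact Cfsg.Agent.Lib.Helper12.false_of_sylow_test hG 381 127 1 3 hn (by norm_num) (by norm_num) (by norm_num) (by norm_num) (by decide)
  · exact Cfsg.Agent.Lib.Helper12.false_of_sylow_test hG 382 191 1 2 hn (by norm_num) (by norm_num) (by norm_num) (by norm_num) (by decide)
  · exact Cfsg.Agent.Lib.Helper12.false_of_sylow_test hG 383 383 1 1 hn (by norm_num) (by norm_num) (by norm_num) (by norm_num) (by decide)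
  · exact Cfsg.Agent.Lib.Helper12.false_of_sylow_test hG 384 2 7 3 hn (by norm_num) (by norm_num) (by norm_num) (by norm_num) (by decide)
  · exact Cfsg.Agent.Lib.Helper12.false_of_sylow_test hG 385 11 1 35 hn (by norm_num) (by norm_num) (by norm_num) (by norm_num) (by decide)
  · exact Cfsg.Agent.Lib.Helper12.false_of_sylow_test hG 386 193 1 2 hn (by norm_num) (by norm_num) (by norm_num) (by norm_num) (by decide)
  · exact Cfsg.Agent.Lib.Helper12.false_of_sylow_test hG 387 43 1 9 hn (by norm_num) (by norm_num) (by norm_num) (by norm_num) (by decide)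
  · exact Cfsg.Agent.Lib.Helper12.false_of_sylow_test hG 388 97 1 4 hn (by norm_num) (by norm_num) (by norm_num) (by norm_num) (by decide)
  · exact Cfsg.Agent.Lib.Helper12.false_of_sylow_test hG 389 389 1 1 hn (by norm_num) (by norm_num) (by norm_num) (by norm_num) (by decide)
  · exact Cfsg.Agent.Lib.Helper12.false_of_sylow_test hG 390 13 1 30 hn (by norm_num) (by norm_num) (by norm_num) (by norm_num) (by decide)
  · exact Cfsg.Agent.Lib.Helper12.false_of_sylow_test hG 391 23 1 17 hn (by norm_num) (by norm_num) (by norm_num) (by norm_num) (by decide)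
  · exact Cfsg.Agent.Lib.Helper12.false_of_sylow_test hG 392 7 2 8 hn (by norm_num) (by norm_num) (by norm_num) (by norm_num) (by decide)
  · exact Cfsg.Agent.Lib.Helper12.false_of_sylow_test hG 393 131 1 3 hn (by norm_num) (by norm_num) (by norm_num) (by norm_num) (by decide)
  · exact Cfsg.Agent.Lib.Helper12.false_of_sylow_test hG 394 197 1 2 hn (by norm_num) (by norm_num) (by norm_num) (by norm_num) (by decide)
  · exact Cfsg.Agent.Lib.Helper12.false_of_sylow_test hG 395 79 1 5 hn (by norm_num) (by norm_num) (by norm_num) (by norm_num) (by decide)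
  · exact false_of_refined_test hG 396 11 36 hn (by norm_num) (by norm_num) (by norm_num) (by decide)
  · exact Cfsg.Agent.Lib.Helper12.false_of_sylow_test hG 397 397 1 1 hn (by norm_num) (by norm_num) (by norm_num) (by norm_num) (by decide)
  · exact Cfsg.Agent.Lib.Helper12.false_of_sylow_test hG 398 199 1 2 hn (by norm_num) (by norm_num) (by norm_num) (by norm_num) (by decide)
  · exact Cfsg.Agent.Lib.Helper12.false_of_sylow_test hG 399 19 1 21 hn (by norm_num) (by norm_num) (by norm_num) (by norm_num) (by decide)
  · exact false_of_two_primes hG 400 2 5 4 2 hn (by norm_num) (by norm_num) (by norm_num)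

end Cfsg.Agent.Lib.Helper17.Small1092
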