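import Mathlib
import Cfsg.Agent.Lib.Helper06.Small1092N720F2
import Cfsg.Agent.Lib.Helper30.Small1092N720D
import Cfsg.Agent.Lib.Helper38.Small1092T1
import Cfsg.Agent.Lib.Helper38.Small1092T5
import Cfsg.Agent.Lib.Helper41.Small1092N756
import Cfsg.Agent.Lib.Helper42.Small1092N720C
import Cfsg.Agent.Lib.Helper42.Small1092T2
import Cfsg.Agent.Lib.Helper45.Small1092N720A
import Cfsg.Agent.Lib.Helper57.Small1092F3
import Cfsg.Agent.Lib.Helper60.Small1092N720G
import Cfsg.Agent.Lib.Helper67.Small1092T4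
import Cfsg.Agent.Lib.Helper73.Small1092N720F1
import Cfsg.Agent.Lib.Helper76.Small1092CentE
import Cfsg.Agent.Lib.Helper91.Small1092N1080
import Cfsg.Agent.Lib.Helper97.Small1092T3

/-!
# Keystones of S0496, collected under one namespace (delivered by the team; see notes/S0496_keystones.lean.txt)
-/

set_option autoImplicit false

namespace Cfsg.Agent.Lib.Helper17.Small1092K

open Subgroup MulAction

theorem sylow_prime_data {G : Type*} [Group G] [Finite G] [IsSimpleGroup G] (hG : ¬ IsMulCommutative G)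
    (p m : ℕ) [Fact p.Prime] (h : Nat.card G = p * m) (hm : ¬ p ∣ m) (P : Sylow p G) :
    Nat.card (Sylow p G) * (m / Nat.card (Sylow p G)) = m ∧
    Nat.card (normalizer ((P : Subgroup G) : Set G)) = p * (m / Nat.card (Sylow p G)) ∧
    (centralizer ((P : Subgroup G) : Set G)).relIndex (normalizer ((P : Subgroup G) : Set G)) ∣ p - 1 ∧
    (centralizer ((P : Subgroup G) : Set G)).relIndex (normalizer ((P : Subgroup G) : Set G)) ∣
      m / Nat.card (Sylow p G) ∧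
    (centralizer ((P : Subgroup G) : Set G)).relIndex (normalizer ((P : Subgroup G) : Set G)) ≠ 1 ∧
    Nat.card (centralizer ((P : Subgroup G) : Set G)) *
      (centralizer ((P : Subgroup G) : Set G)).relIndex (normalizer ((P : Subgroup G) : Set G)) =
      p * (m / Nat.card (Sylow p G)) :=
  Cfsg.Agent.Lib.Helper38.Small1092.sylow_prime_data hG p m h hm P

theorem dvd_of_card_sylow_eq_succ {G : Type*} [Group G] [Finite G] [IsSimpleGroup G] (hG : ¬ IsMulCommutative G)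
    (p m : ℕ) [Fact p.Prime] (hp2 : p ≠ 2) (h : Nat.card G = p * m) (hm : ¬ p ∣ m)
    (hd : Nat.card (Sylow p G) = p + 1) : m / (p + 1) ∣ (p - 1) / 2 :=
  Cfsg.Agent.Lib.Helper42.Small1092.dvd_of_card_sylow_eq_succ hG p m hp2 h hm hd

theorem false_of_sylow_not_modEq_sq {G : Type*} [Group G] [Finite G] [IsSimpleGroup G] (hG : ¬ IsMulCommutative G)
    (p k m : ℕ) [Fact p.Prime] (hk : 2 ≤ k) (h : Nat.card G = p ^ k * m) (hm : ¬ p ∣ m)
    (hmod : Nat.card (Sylow p G) % (p ^ 2) ≠ 1)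
    (hcheck : ∀ i : ℕ, i ∣ m → i ≠ 1 → p + 1 ≤ m / i → ¬ Nat.card G ∣ i.factorial) : False :=
  Cfsg.Agent.Lib.Helper97.Small1092.false_of_sylow_not_modEq_sq hG p k m hk h hm hmod hcheck

theorem false_of_card_sylow_eq_two_mul_add_one {G : Type*} [Group G] [Finite G] [IsSimpleGroup G]
    (hG : ¬ IsMulCommutative G) (p m : ℕ) [Fact p.Prime] (hp2 : p ≠ 2) (h : Nat.card G = p * m) (hm : ¬ p ∣ m)
    (hd : Nat.card (Sylow p G) = 2 * p + 1) (P : Sylow p G)
    (hC : Even (Nat.card (centralizer ((P : Subgroup G) : Set G)))) : False :=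
  Cfsg.Agent.Lib.Helper67.Small1092.false_of_card_sylow_eq_two_mul_add_one hG p m hp2 h hm hd P hC

theorem exists_fixed_of_card_centralizer_eq_two_mul {G : Type*} [Group G] [Finite G] [IsSimpleGroup G]
    (hG : ¬ IsMulCommutative G) (p m : ℕ) [Fact p.Prime] (hp2 : p ≠ 2) (h : Nat.card G = p * m) (hm : ¬ p ∣ m)
    (P : Sylow p G) (hC : Nat.card (centralizer ((P : Subgroup G) : Set G)) = 2 * p) :
    ∃ f : ℕ, f % p = 1 ∧ f % 4 = Nat.card (Sylow p G) % 4 ∧ f < Nat.card (Sylow p G) ∧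
      (p * (f - 1) ≤ Nat.card (Sylow p G) - 1 ∨ f ∣ Nat.card (Sylow p G)) :=
  Cfsg.Agent.Lib.Helper38.Small1092.exists_fixed_of_card_centralizer_eq_two_mul hG p m hp2 h hm P hC

theorem no_simple_756 {G : Type*} [Group G] [Finite G] [IsSimpleGroup G] (hG : ¬ IsMulCommutative G)
    (h : Nat.card G = 756) : False :=
  Cfsg.Agent.Lib.Helper41.Small1092.no_simple_756 hG h

theorem no_simple_1080 {G : Type*} [Group G] [Finite G] [IsSimpleGroup G] (hG : ¬ IsMulCommutative G)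
    (h : Nat.card G = 1080) : False :=
  Cfsg.Agent.Lib.Helper91.Small1092.no_simple_1080 hG h

theorem inter_sylow_three_720 {G : Type*} [Group G] [Finite G] [IsSimpleGroup G] (hG : ¬ IsMulCommutative G)
    (h : Nat.card G = 720) (hidx : ∀ H : Subgroup G, H ≠ ⊤ → 7 ≤ H.index) (h15 : ∀ g : G, orderOf g ≠ 15)
    (P R : Sylow 3 G) (hPR : P ≠ R) (hne : (P : Subgroup G) ⊓ (R : Subgroup G) ≠ ⊥) :
    Nat.card ↥((P : Subgroup G) ⊓ (R : Subgroup G)) = 3 ∧
    (Nat.card ↥(normalizer (((P : Subgroup G) ⊓ (R : Subgroup G) : Subgroup G) : Set G)) = 36 ∨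
      Nat.card ↥(normalizer (((P : Subgroup G) ⊓ (R : Subgroup G) : Subgroup G) : Set G)) = 72) ∧
    Nat.card {T : Sylow 3 G // (P : Subgroup G) ⊓ (R : Subgroup G) ≤ (T : Subgroup G)} = 4 :=
  Cfsg.Agent.Lib.Helper45.Small1092.inter_sylow_three_720 hG h hidx h15 P R hPR hne

theorem false_of_card_sylow_three_eq_forty {G : Type*} [Group G] [Finite G] [IsSimpleGroup G] (hG : ¬ IsMulCommutative G)
    (h : Nat.card G = 720) (hidx : ∀ H : Subgroup G, H ≠ ⊤ → 7 ≤ H.index) (h15 : ∀ g : G, orderOf g ≠ 15)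
    (h3 : Nat.card (Sylow 3 G) = 40) : False :=
  Cfsg.Agent.Lib.Helper42.Small1092.false_of_card_sylow_three_eq_forty hG h hidx h15 h3

theorem inf_eq_bot_of_card_sylow_three_eq_ten {G : Type*} [Group G] [Finite G] [IsSimpleGroup G] (hG : ¬ IsMulCommutative G)
    (h : Nat.card G = 720) (hidx : ∀ H : Subgroup G, H ≠ ⊤ → 7 ≤ H.index) (h15 : ∀ g : G, orderOf g ≠ 15)
    (h3 : Nat.card (Sylow 3 G) = 10) (P R : Sylow 3 G) (hPR : P ≠ R) :
    (P : Subgroup G) ⊓ (R : Subgroup G) = ⊥ :=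
  Cfsg.Agent.Lib.Helper30.Small1092.inf_eq_bot_of_card_sylow_three_eq_ten hG h hidx h15 h3 P R hPR

theorem card_centralizer_sylow_three_720 {G : Type*} [Group G] [Finite G] [IsSimpleGroup G] (hG : ¬ IsMulCommutative G)
    (h : Nat.card G = 720) (h3 : Nat.card (Sylow 3 G) = 10) (P : Sylow 3 G) :
    Nat.card (centralizer ((P : Subgroup G) : Set G)) = 9 :=
  Cfsg.Agent.Lib.Helper76.Small1092.card_centralizer_sylow_three_720 hG h h3 P

theorem two_point_stabilizer_720 {G : Type*} [Group G] [Finite G] [IsSimpleGroup G] (hG : ¬ IsMulCommutative G)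
    (h : Nat.card G = 720) (h3 : Nat.card (Sylow 3 G) = 10)
    (hTI : ∀ P R : Sylow 3 G, P ≠ R → (P : Subgroup G) ⊓ (R : Subgroup G) = ⊥)
    (P R : Sylow 3 G) (hPR : P ≠ R) :
    Nat.card ↥(normalizer ((P : Subgroup G) : Set G) ⊓ normalizer ((R : Subgroup G) : Set G)) = 8 ∧
    (∀ y ∈ (P : Subgroup G), ∀ T : Sylow 3 G, T ≠ P → y • T = T → y = 1) ∧
    (∀ T : Sylow 3 G, T ≠ P → ∃ y ∈ (P : Subgroup G), y • R = T) ∧
    ∀ g ∈ normalizer ((P : Subgroup G) : Set G) ⊓ normalizer ((R : Subgroup G) : Set G), g ≠ 1 →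
      ∀ T : Sylow 3 G, g • T = T → T = P ∨ T = R :=
  Cfsg.Agent.Lib.Helper73.Small1092.two_point_stabilizer_720 hG h h3 hTI P R hPR

theorem two_point_stabilizer_quaternion_720 {G : Type*} [Group G] [Finite G] [IsSimpleGroup G] (hG : ¬ IsMulCommutative G)
    (h : Nat.card G = 720) (h3 : Nat.card (Sylow 3 G) = 10)
    (hC : ∀ P : Sylow 3 G, Nat.card (centralizer ((P : Subgroup G) : Set G)) = 9)
    (P R : Sylow 3 G) (hPR : P ≠ R)
    (hQ : Nat.card ↥(normalizer ((P : Subgroup G) : Set G) ⊓ normalizer ((R : Subgroup G) : Set G)) = 8)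
    (hfree : ∀ y ∈ (P : Subgroup G), ∀ T : Sylow 3 G, T ≠ P → y • T = T → y = 1)
    (htrans : ∀ T : Sylow 3 G, T ≠ P → ∃ y ∈ (P : Subgroup G), y • R = T)
    (hsemi : ∀ g ∈ normalizer ((P : Subgroup G) : Set G) ⊓ normalizer ((R : Subgroup G) : Set G), g ≠ 1 →
      ∀ T : Sylow 3 G, g • T = T → T = P ∨ T = R) :
    (∀ a ∈ normalizer ((P : Subgroup G) : Set G) ⊓ normalizer ((R : Subgroup G) : Set G),
      ∀ b ∈ normalizer ((P : Subgroup G) : Set G) ⊓ normalizer ((R : Subgroup G) : Set G),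
      orderOf a = 2 → orderOf b = 2 → a = b) ∧
    ¬ IsCyclic ↥(normalizer ((P : Subgroup G) : Set G) ⊓ normalizer ((R : Subgroup G) : Set G)) :=
  Cfsg.Agent.Lib.Helper06.Small1092.two_point_stabilizer_quaternion_720 hG h h3 hC P R hPR hQ hfree htrans hsemi

theorem exists_sylow_two_720 {G : Type*} [Group G] [Finite G] [IsSimpleGroup G] (hG : ¬ IsMulCommutative G)
    (h : Nat.card G = 720) (h3 : Nat.card (Sylow 3 G) = 10)
    (P R : Sylow 3 G) (hPR : P ≠ R)
    (hQ : Nat.card ↥(normalizer ((P : Subgroup G) : Set G) ⊓ normalizer ((R : Subgroup G) : Set G)) = 8)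
    (htrans : ∀ P' R' T : Sylow 3 G, P' ≠ R' → T ≠ P' → ∃ y ∈ (P' : Subgroup G), y • R' = T)
    (hsemi : ∀ g ∈ normalizer ((P : Subgroup G) : Set G) ⊓ normalizer ((R : Subgroup G) : Set G), g ≠ 1 →
      ∀ T : Sylow 3 G, g • T = T → T = P ∨ T = R) :
    ∃ S : Sylow 2 G, Nat.card (S : Subgroup G) = 16 ∧
      normalizer ((P : Subgroup G) : Set G) ⊓ normalizer ((R : Subgroup G) : Set G) ≤ (S : Subgroup G) ∧
      (∀ x ∈ normalizer ((P : Subgroup G) : Set G) ⊓ normalizer ((R : Subgroup G) : Set G), x ≠ 1 →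
        ∀ g : G, g * x * g⁻¹ ∈ normalizer ((P : Subgroup G) : Set G) ⊓ normalizer ((R : Subgroup G) : Set G) →
          g ∈ (S : Subgroup G)) ∧
      ∀ y ∈ (S : Subgroup G), y ∉ normalizer ((P : Subgroup G) : Set G) ⊓ normalizer ((R : Subgroup G) : Set G) →
        orderOf y ≠ 4 :=
  Cfsg.Agent.Lib.Helper57.Small1092.exists_sylow_two_720 hG h h3 P R hPR hQ htrans hsemi

theorem false_of_quaternion_two_point_stabilizer {G : Type*} [Group G] [Finite G]
    (hidx2 : ∀ H : Subgroup G, H.index ≠ 2) (S : Sylow 2 G) (hS : Nat.card (S : Subgroup G) = 16)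
    (Q : Subgroup G) (hQS : Q ≤ (S : Subgroup G)) (hQ : Nat.card Q = 8)
    (hinv : ∀ a ∈ Q, ∀ b ∈ Q, orderOf a = 2 → orderOf b = 2 → a = b)
    (hcyc : ¬ IsCyclic Q)
    (hfus : ∀ x ∈ Q, x ≠ 1 → ∀ g : G, g * x * g⁻¹ ∈ Q → g ∈ (S : Subgroup G))
    (hfour : ∀ y ∈ (S : Subgroup G), y ∉ Q → orderOf y ≠ 4) : False :=
  Cfsg.Agent.Lib.Helper60.Small1092.false_of_quaternion_two_point_stabilizer hidx2 S hS Q hQS hQ hinv hcyc hfus hfour

end Cfsg.Agent.Lib.Helper17.Small1092K
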