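import Mathlib
import Cfsg.Agent.Lib.Helper12.SmallSimple
import Cfsg.Agent.Lib.Helper23.SylowCount
import Cfsg.Agent.Lib.Helper23.Order12
import Cfsg.Agent.S0991
import Cfsg.Agent.Lib.Helper17.Small1092Keystones

/-!
# No simple group of order 720: assembly of the keystones K-S0496-720*
-/

set_option autoImplicit false

namespace Cfsg.Agent.Lib.Helper17.Small1092

open Subgroup Cfsg.Agent.Lib.Helper17.Small1092K

variable {G : Type*} [Group G] [Finite G] [IsSimpleGroup G]

/-- A proper subgroup of a simple group of order 720 has index at least 7. -/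
theorem seven_le_index_720 (hG : ¬ IsMulCommutative G) (hn : Nat.card G = 720)
    (H : Subgroup G) (hH : H ≠ ⊤) : 7 ≤ H.index := by
  by_contra hlt
  push Not at hlt
  obtain ⟨f, hf⟩ := Cfsg.Agent.S0991.result hG H hH
  have hdvd : Nat.card G ∣ Nat.card (alternatingGroup (Fin H.index)) :=
    Subgroup.card_dvd_of_injective f hf
  have h0 : H.index ≠ 0 := Subgroup.index_ne_zero_of_finite
  have h1 : H.index ≠ 1 := fun h => hH (Subgroup.index_eq_one.mp h)
  have : Nontrivial (Fin H.index) := Fin.nontrivial_iff_two_le.mpr (by omega)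
  have h2 := nat_card_alternatingGroup (α := Fin H.index)
  rw [Nat.card_fin] at h2
  rw [hn, h2] at hdvd
  generalize H.index = k at *
  interval_cases k <;> simp [Nat.factorial] at hdvd <;> omega

/-- Divisors of 144 that are `1 mod 5`. -/
theorem divisors_144 (d : ℕ) (hd : d ∣ 144) (h5 : d % 5 = 1) (h1 : d ≠ 1) :
    d = 6 ∨ d = 16 ∨ d = 36 := by
  have hle : d ≤ 144 := Nat.le_of_dvd (by norm_num) hd
  interval_cases d <;> omega

/-- Divisors of 80 that are `1 mod 3`. -/
theorem divisors_80 (d : ℕ) (hd : d ∣ 80) (h3 : d % 3 = 1) (h1 : d ≠ 1) :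
    d = 4 ∨ d = 10 ∨ d = 16 ∨ d = 40 := by
  have hle : d ≤ 80 := Nat.le_of_dvd (by norm_num) hd
  interval_cases d <;> omega

/-- In a simple group of order 720 the normalizer of a Sylow 5-subgroup has order 20. -/
theorem card_normalizer_sylow_five_720 (hG : ¬ IsMulCommutative G) (hn : Nat.card G = 720)
    (P : Sylow 5 G) : Nat.card (normalizer ((P : Subgroup G) : Set G)) = 20 := by
  have : Fact (Nat.Prime 5) := ⟨by norm_num⟩
  have hcard : Nat.card G = 5 * 144 := by rw [hn]
  have hcard' : Nat.card G = 5 ^ 1 * 144 := by rw [hn]; norm_num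
  have hm : ¬ 5 ∣ 144 := by norm_num
  obtain ⟨hd, hdp, hd1, hdf⟩ :=
    Cfsg.Agent.Lib.Helper12.sylow_count_spec hG 5 1 144 Nat.one_pos hcard' hm
  obtain ⟨-, hN, hk1, hk2, hk3, -⟩ := sylow_prime_data hG 5 144 hcard hm P
  rcases divisors_144 _ hd hdp hd1 with h6 | h16 | h36
  · exfalso
    have hidx := Cfsg.Agent.Lib.Helper23.card_sylow_eq_index_normalizer' 5 P
    rw [h6] at hidx
    have hne : normalizer ((P : Subgroup G) : Set G) ≠ ⊤ := by
      intro htop
      rw [htop, Subgroup.index_top] at hidx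
      omega
    have := seven_le_index_720 hG hn _ hne
    omega
  · exfalso
    rw [h16] at hk2
    apply hk3
    have h4 : (centralizer ((P : Subgroup G) : Set G)).relIndex
        (normalizer ((P : Subgroup G) : Set G)) ∣ Nat.gcd (144 / 16) (5 - 1) := Nat.dvd_gcd hk2 hk1
    have : Nat.gcd (144 / 16) (5 - 1) = 1 := by decide
    rw [this] at h4
    exact Nat.dvd_one.mp h4
  · rw [h36] at hN
    rw [hN]

/-- A simple group of order 720 has no element of order 15. -/
theorem orderOf_ne_fifteen_720 (hG : ¬ IsMulCommutative G) (hn : Nat.card G = 720) (g : G) :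
    orderOf g ≠ 15 := by
  intro hg
  have : Fact (Nat.Prime 5) := ⟨by norm_num⟩
  have h3 : orderOf (g ^ 3) = 5 := by
    rw [orderOf_pow, hg]; rfl
  have hpg : IsPGroup 5 (zpowers (g ^ 3)) := by
    apply IsPGroup.of_card (n := 1)
    rw [Nat.card_zpowers, h3, pow_one]
  obtain ⟨P, hP⟩ := hpg.exists_le_sylow
  have hPcard : Nat.card (P : Subgroup G) = 5 := by
    have := Cfsg.Agent.Lib.Helper23.sylow_card_of_card_eq 5 1 144 (by rw [hn]; norm_num)
      (by norm_num) P
    rwa [pow_one] at this
  have hPeq : zpowers (g ^ 3) = (P : Subgroup G) := by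
    apply Subgroup.eq_of_le_of_card_ge hP
    rw [hPcard, Nat.card_zpowers, h3]
  have hgN : g ∈ normalizer ((P : Subgroup G) : Set G) := by
    rw [← hPeq]
    apply Subgroup.mem_normalizer_iff.mpr
    intro x
    have hcomm : ∀ y ∈ zpowers (g ^ 3), g * y * g⁻¹ = y := by
      intro y hy
      obtain ⟨k, rfl⟩ := Subgroup.mem_zpowers_iff.mp hy
      have : Commute g ((g ^ 3) ^ k) := ((Commute.refl g).pow_right 3).zpow_right k
      rw [this.eq, mul_inv_cancel_right]
    constructor
    · intro hx
      rw [hcomm x hx]; exact hx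
    · intro hx
      have := hcomm _ hx
      have h' : g⁻¹ * (g * x * g⁻¹) * g = x := by group
      have hcomm' : g⁻¹ * (g * x * g⁻¹) * g = g * x * g⁻¹ := by
        have : Commute g (g * x * g⁻¹) := by
          rw [commute_iff_eq]
          calc g * (g * x * g⁻¹) = g * (g * x * g⁻¹) * g⁻¹ * g := by group
            _ = (g * x * g⁻¹) * g := by rw [show g * (g * x * g⁻¹) * g⁻¹ = g * x * g⁻¹ from this]
        rw [mul_assoc, ← this.eq, ← mul_assoc, inv_mul_cancel, one_mul]
      rw [← h', hcomm']; exact hx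
  have hdvd : orderOf g ∣ Nat.card (normalizer ((P : Subgroup G) : Set G)) := by
    have := orderOf_dvd_natCard (⟨g, hgN⟩ : normalizer ((P : Subgroup G) : Set G))
    rwa [Subgroup.orderOf_mk] at this
  rw [card_normalizer_sylow_five_720 hG hn P, hg] at hdvd
  omega

/-- In a simple group of order 720 no subgroup has order 45. -/
theorem card_ne_forty_five_720 (hG : ¬ IsMulCommutative G) (hn : Nat.card G = 720)
    (N : Subgroup G) : Nat.card N ≠ 45 := by
  intro hN
  have : Fact (Nat.Prime 5) := ⟨by norm_num⟩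
  -- the Sylow 5-subgroup of `N` is unique
  obtain ⟨Q⟩ : Nonempty (Sylow 5 N) := inferInstance
  have hQcard : Nat.card (Q : Subgroup N) = 5 := by
    have := Cfsg.Agent.Lib.Helper23.sylow_card_of_card_eq 5 1 9 (by rw [hN]; norm_num) (by norm_num) Q
    rwa [pow_one] at this
  have h1 : Nat.card (Sylow 5 N) ∣ 9 :=
    Cfsg.Agent.Lib.Helper23.card_sylow_dvd_of_card_eq 5 1 9 (by rw [hN]; norm_num) (by norm_num)
  have h2 : Nat.card (Sylow 5 N) ≡ 1 [MOD 5] := card_sylow_modEq_one 5 N
  have h3 : Nat.card (Sylow 5 N) = 1 := by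
    have hle : Nat.card (Sylow 5 N) ≤ 9 := Nat.le_of_dvd (by norm_num) h1
    have h2' : Nat.card (Sylow 5 N) % 5 = 1 := h2
    generalize Nat.card (Sylow 5 N) = d at *
    interval_cases d <;> omega
  have hsub : Subsingleton (Sylow 5 N) := (Nat.card_eq_one_iff_unique.mp h3).1
  have hQn : (Q : Subgroup N).Normal := Sylow.normal_of_subsingleton Q
  have hle := Cfsg.Agent.Lib.Helper23.le_normalizer_map_subtype N (Q : Subgroup N)
  -- the image of `Q` in `G` is a Sylow 5-subgroup of `G`
  have hQ'card : Nat.card ((Q : Subgroup N).map N.subtype) = 5 := by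
    rw [Subgroup.card_map_of_injective (Subgroup.subtype_injective N)]
    exact hQcard
  have hpg : IsPGroup 5 ((Q : Subgroup N).map N.subtype) := IsPGroup.of_card (n := 1) (by rw [hQ'card, pow_one])
  obtain ⟨P, hP⟩ := hpg.exists_le_sylow
  have hPcard : Nat.card (P : Subgroup G) = 5 := by
    have := Cfsg.Agent.Lib.Helper23.sylow_card_of_card_eq 5 1 144 (by rw [hn]; norm_num)
      (by norm_num) P
    rwa [pow_one] at this
  have hPeq : (Q : Subgroup N).map N.subtype = (P : Subgroup G) := by
    apply Subgroup.eq_of_le_of_card_ge hP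
    rw [hPcard, hQ'card]
  rw [hPeq] at hle
  have hdvd := Subgroup.card_dvd_of_le hle
  rw [hN, card_normalizer_sylow_five_720 hG hn P] at hdvd
  omega

/-- In a simple group of order 720 there are 10 or 40 Sylow 3-subgroups. -/
theorem card_sylow_three_720 (hG : ¬ IsMulCommutative G) (hn : Nat.card G = 720) :
    Nat.card (Sylow 3 G) = 10 ∨ Nat.card (Sylow 3 G) = 40 := by
  have : Fact (Nat.Prime 3) := ⟨by norm_num⟩
  have hcard' : Nat.card G = 3 ^ 2 * 80 := by rw [hn]; norm_num
  have hm : ¬ 3 ∣ 80 := by norm_num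
  obtain ⟨hd, hdp, hd1, hdf⟩ :=
    Cfsg.Agent.Lib.Helper12.sylow_count_spec hG 3 2 80 (by norm_num) hcard' hm
  rcases divisors_80 _ hd hdp hd1 with h4 | h10 | h16 | h40
  · exfalso
    rw [h4, hn] at hdf
    revert hdf; decide
  · exact Or.inl h10
  · exfalso
    obtain ⟨P⟩ : Nonempty (Sylow 3 G) := inferInstance
    have hN := Cfsg.Agent.Lib.Helper23.card_normalizer_mul_card_sylow 3 P
    rw [h16, hn] at hN
    exact card_ne_forty_five_720 hG hn (normalizer ((P : Subgroup G) : Set G)) (by omega)
  · exact Or.inr h40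

/-- There is no non-abelian simple group of order 720. -/
theorem no_simple_720 (hG : ¬ IsMulCommutative G) (hn : Nat.card G = 720) : False := by
  have : Fact (Nat.Prime 3) := ⟨by norm_num⟩
  have hidx := seven_le_index_720 hG hn
  have h15 := orderOf_ne_fifteen_720 hG hn
  rcases card_sylow_three_720 hG hn with h3 | h3
  · -- ten Sylow 3-subgroups
    have hTI := inf_eq_bot_of_card_sylow_three_eq_ten hG hn hidx h15 h3
    have hC := card_centralizer_sylow_three_720 hG hn h3
    have hF1 := two_point_stabilizer_720 hG hn h3 hTI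
    -- two distinct Sylow 3-subgroups
    obtain ⟨P, R, hPR⟩ : ∃ P R : Sylow 3 G, P ≠ R := by
      by_contra hall
      push Not at hall
      have hsub : Subsingleton (Sylow 3 G) := ⟨hall⟩
      have : Nat.card (Sylow 3 G) ≤ 1 := Finite.card_le_one_iff_subsingleton.mpr hsub
      omega
    obtain ⟨hQ, hfree, htrans, hsemi⟩ := hF1 P R hPR
    obtain ⟨hinv, hcyc⟩ :=
      two_point_stabilizer_quaternion_720 hG hn h3 hC P R hPR hQ hfree htrans hsemi
    obtain ⟨S, hS, hQS, hfus, hfour⟩ := exists_sylow_two_720 hG hn h3 P R hPR hQ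
      (fun P' R' T hPR' hT => (hF1 P' R' hPR').2.2.1 T hT) hsemi
    refine false_of_quaternion_two_point_stabilizer ?_ S hS _ hQS hQ hinv hcyc hfus hfour
    intro H hH
    by_cases htop : H = ⊤
    · rw [htop, Subgroup.index_top] at hH
      omega
    · have := hidx H htop
      omega
  · exact false_of_card_sylow_three_eq_forty hG hn hidx h15 h3

end Cfsg.Agent.Lib.Helper17.Small1092
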