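import Mathlib
import Cfsg.Agent.Lib.Helper17.PG7920Defs
import Cfsg.Agent.Lib.Helper90.PG7920_A
import Cfsg.Agent.Lib.Helper42.PG7920_B1
import Cfsg.Agent.Lib.Helper97.PG7920_B2
import Cfsg.Agent.Lib.Helper64.SimpleSection
import Cfsg.Agent.Lib.Helper03.FrobAct

/-!
# S2490: main glue
-/

namespace Cfsg.Agent.Lib.Helper17.PG7920
open Cfsg.Agent.Lib.Helper90.PG7920 Cfsg.Agent.Lib.Helper42.PG7920 Cfsg.Agent.Lib.Helper97.PG7920

/-- A connected prime graph contradicts the disconnectedness hypothesis of S2490. -/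
theorem false_of_pgConn {G : Type*} [Group G] [Finite G] (hord : Nat.card G = 7920)
    (hdisc : (∃ A : Set ℕ, (∃ a ∈ A, a.Prime ∧ a ∣ Nat.card G) ∧
      (∃ b ∉ A, b.Prime ∧ b ∣ Nat.card G) ∧
      ∀ a ∈ A, ∀ b ∉ A, a.Prime → b.Prime → a ∣ Nat.card G → b ∣ Nat.card G →
        ¬ ∃ g : G, orderOf g = a * b))
    (h : PGConn G) : False := by
  obtain ⟨A, ⟨a, haA, hap, had⟩, ⟨b, hbA, hbp, hbd⟩, hno⟩ := hdisc
  have hmem : ∀ q : ℕ, q.Prime → q ∣ Nat.card G → q = 2 ∨ q = 3 ∨ q = 5 ∨ q = 11 := by
    intro q hq hqd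
    rw [hord] at hqd
    have h1 : (7920 : ℕ) = 2 ^ 4 * 3 ^ 2 * 5 * 11 := by norm_num
    rw [h1] at hqd
    rcases (Nat.Prime.dvd_mul hq).mp hqd with h2 | h2
    · rcases (Nat.Prime.dvd_mul hq).mp h2 with h3 | h3
      · rcases (Nat.Prime.dvd_mul hq).mp h3 with h4 | h4
        · left
          exact (Nat.prime_dvd_prime_iff_eq hq Nat.prime_two).mp (hq.dvd_of_dvd_pow h4)
        · right; left
          exact (Nat.prime_dvd_prime_iff_eq hq Nat.prime_three).mp (hq.dvd_of_dvd_pow h4)
      · right; right; left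
        exact (Nat.prime_dvd_prime_iff_eq hq Nat.prime_five).mp h3
    · right; right; right
      exact (Nat.prime_dvd_prime_iff_eq hq (by norm_num)).mp h2
  have hpr : ∀ q ∈ ({2, 3, 5, 11} : Finset ℕ), q.Prime ∧ q ∣ Nat.card G := by
    intro q hq
    rw [hord]
    simp only [Finset.mem_insert, Finset.mem_singleton] at hq
    rcases hq with rfl | rfl | rfl | rfl <;> norm_num
  have hc : ∀ x y : ℕ, x ∈ ({2, 3, 5, 11} : Finset ℕ) → y ∈ ({2, 3, 5, 11} : Finset ℕ) →
      Edge G x y → (x ∈ A ↔ y ∈ A) := by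
    intro x y hx hy hxy
    obtain ⟨hxp, hxd⟩ := hpr x hx
    obtain ⟨hyp, hyd⟩ := hpr y hy
    constructor
    · intro hxA
      by_contra hyA
      exact hno x hxA y hyA hxp hyp hxd hyd hxy
    · intro hyA
      by_contra hxA
      exact hno y hyA x hxA hyp hxp hyd hxd hxy.symm
  obtain ⟨h23, h25, h211⟩ := h (fun q => q ∈ A) hc
  rcases hmem a hap had with rfl | rfl | rfl | rfl <;>
    rcases hmem b hbp hbd with rfl | rfl | rfl | rfl <;> tauto

/-- A group of order 7920 that is not simple has a connected prime graph. -/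
theorem pgConn_of_not_simple {G : Type*} [Group G] [Finite G] (hord : Nat.card G = 7920)
    (hns : ¬ IsSimpleGroup G) : PGConn G := by
  classical
  have hnt : Nontrivial G := by
    rw [← Finite.one_lt_card_iff_nontrivial, hord]; norm_num
  -- a proper nontrivial normal subgroup
  have hex : ∃ H : Subgroup G, H.Normal ∧ H ≠ ⊥ ∧ H ≠ ⊤ := by
    by_contra hcon
    push Not at hcon
    apply hns
    exact ⟨fun H hH => by
      by_cases h1 : H = ⊥
      · exact Or.inl h1
      · exact Or.inr (hcon H hH h1)⟩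
  obtain ⟨H, hHn, hH1, hHtop⟩ := hex
  obtain ⟨M, hMn, hM1, hMH, hmin⟩ :=
    Cfsg.Agent.Lib.Helper64.SimpleSection.exists_minNormal H hHn hH1
  have hMtop : M ≠ ⊤ := by
    intro h
    apply hHtop
    rw [eq_top_iff, ← h]
    exact hMH
  have hMd : Nat.card M ∣ 7920 := hord ▸ Subgroup.card_subgroup_dvd_card M
  by_cases hsol : Group.IsSolvable M
  · -- a characteristic elementary abelian subgroup of `M` is a normal `r`-subgroup of `G`
    have hMnt : Nontrivial M := (Subgroup.nontrivial_iff_ne_bot M).mpr hM1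
    obtain ⟨N, r, hNchar, hr, hNne, -, hNexp⟩ :=
      Cfsg.Agent.Lib.Helper03.FrobAct.exists_char_elem_abelian hsol
    have : Fact r.Prime := ⟨hr⟩
    have hNn : (N.map M.subtype).Normal := inferInstance
    have hpg : IsPGroup r N := by
      intro x
      refine ⟨1, ?_⟩
      rw [pow_one]
      exact Subtype.ext (by rw [Subgroup.coe_pow]; exact hNexp x x.2)
    obtain ⟨k, hk⟩ := IsPGroup.iff_card.mp hpg
    have hcard : Nat.card (N.map M.subtype) = r ^ k := by
      rw [← hk]
      exact Nat.card_congr (N.equivMapOfInjective M.subtype M.subtype_injective).symm.toEquiv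
    have hk0 : 0 < k := by
      rcases Nat.eq_zero_or_pos k with h0 | h0
      · exfalso
        rw [h0, pow_zero] at hk
        exact hNne (Subgroup.card_eq_one.mp hk)
      · exact h0
    exact pgConn_of_normal_pgroup hord (N.map M.subtype) r k hr hk0 hcard
  · by_cases h11 : 11 ∣ Nat.card M
    · have hnab : ¬ ∀ x ∈ M, ∀ y ∈ M, x * y = y * x := by
        intro hcomm
        apply hsol
        exact Group.isSolvable_of_comm (fun a b => Subtype.ext (hcomm a a.2 b b.2))
      have h121 : ¬ 11 ^ 2 ∣ Nat.card M := by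
        intro h
        have := h.trans hMd
        norm_num at this
      have hsimple : IsSimpleGroup M :=
        Cfsg.Agent.Lib.Helper64.SimpleSection.isSimpleGroup_of_minNormal M hM1 hmin hnab 11
          (by norm_num) h11 h121
      exact pgConn_of_normal_simple hord M hsimple hnab h11 hMtop
    · exact pgConn_of_normal_not_solvable hord M h11 hsol

end Cfsg.Agent.Lib.Helper17.PG7920
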