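import Mathlib

/-!
# The arithmetic of the degrees of the two constituents of an invariant principal series
character (helper17)
-/

set_option autoImplicit false

namespace Cfsg.Agent.Lib.Helper17.PS

/-- one-sided core: `D₂` prime to `q` -/
theorem arith_core_aux {p f q e ℓ D₁ D₂ m₁ m₂ : ℕ} (hp : p.Prime) (hq : q = p ^ f)
    (hsum : D₁ + D₂ = q + 1) (h1 : D₁ ∣ (q + 1) * q) (h2 : D₂ ∣ (q + 1) * q)
    (hD₁ : D₁ = 1 + m₁ * e) (hD₂ : D₂ = 1 + m₂ * e) (hℓe : ℓ * e = q - 1) (hℓ2 : ℓ * ℓ < q)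
    (hcop : Nat.Coprime D₂ q) : D₁ = D₂ ∨ (D₁ = q ∧ D₂ = 1) := by
  have hq0 : 0 < q := by rw [hq]; exact pow_pos hp.pos f
  have hD₂pos : 0 < D₂ := by rw [hD₂]; omega
  have hD₁pos : 0 < D₁ := by rw [hD₁]; omega
  have hcopq : Nat.Coprime (q + 1) q := by simp
  -- `D₂ ∣ q + 1`
  have hD₂q1 : D₂ ∣ q + 1 := hcop.dvd_of_dvd_mul_right h2
  have hD₂D₁ : D₂ ∣ D₁ := by
    have : D₂ ∣ D₁ + D₂ := by rw [hsum]; exact hD₂q1
    exact (Nat.dvd_add_left (dvd_refl D₂)).1 this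
  -- `gcd D₁ (q+1) = D₂`
  have hgcd1 : Nat.gcd D₁ (q + 1) = D₂ := by
    rw [← hsum, Nat.gcd_self_add_right]
    exact Nat.gcd_eq_right hD₂D₁
  have hfact : D₁ = D₂ * Nat.gcd D₁ q := by
    have h3 : Nat.gcd D₁ ((q + 1) * q) = D₁ := Nat.gcd_eq_left h1
    rw [Nat.Coprime.gcd_mul D₁ hcopq, hgcd1] at h3
    exact h3.symm
  have hAdvd : Nat.gcd D₁ q ∣ p ^ f := by rw [← hq]; exact Nat.gcd_dvd_right D₁ q
  obtain ⟨j, hjf, hA⟩ := (Nat.dvd_prime_pow hp).1 hAdvd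
  set A := Nat.gcd D₁ q with hAdef
  have hA1 : 1 ≤ A := by rw [hA]; exact Nat.one_le_pow _ _ hp.pos
  have hsum' : (A + 1) * D₂ = q + 1 := by rw [← hsum, hfact]; ring
  rcases Nat.eq_zero_or_pos j with hj0 | hjpos
  · left
    rw [hj0, pow_zero] at hA
    rw [hfact, hA, mul_one]
  rcases Nat.lt_or_ge j f with hjlt | hjge
  swap
  · right
    have hjf' : j = f := le_antisymm hjf hjge
    have hAq : A = q := by rw [hA, hjf', hq]
    rw [hAq] at hsum'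
    have hD₂1 : D₂ = 1 := by
      have : (q + 1) * D₂ = (q + 1) * 1 := by rw [hsum', mul_one]
      exact Nat.eq_of_mul_eq_mul_left (by omega) this
    refine ⟨?_, hD₂1⟩
    rw [hfact, hD₂1, hAq, one_mul]
  -- the impossible case `0 < j < f`
  exfalso
  have hA2 : 2 ≤ A := by
    rw [hA]
    calc 2 ≤ p := hp.two_le
      _ = p ^ 1 := (pow_one p).symm
      _ ≤ p ^ j := Nat.pow_le_pow_right hp.pos hjpos
  -- `e ∣ A - 1`
  have hD₂e : Nat.Coprime D₂ e := by rw [hD₂]; simp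
  have hdiff : D₁ - D₂ = (A - 1) * D₂ := by
    rw [hfact]
    have : D₂ * A = (A - 1) * D₂ + D₂ := by
      have : A = (A - 1) + 1 := by omega
      calc D₂ * A = D₂ * ((A - 1) + 1) := by rw [← this]
        _ = (A - 1) * D₂ + D₂ := by ring
    omega
  have hm : m₂ ≤ m₁ := by
    by_contra hlt
    push Not at hlt
    have h3 : m₁ * e < m₂ * e ∨ e = 0 := by
      rcases Nat.eq_zero_or_pos e with he | he
      · right; exact he
      · left; exact Nat.mul_lt_mul_of_pos_right hlt he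
    rcases h3 with h3 | h3
    · have : D₁ < D₂ := by rw [hD₁, hD₂]; omega
      have h4 := Nat.le_of_dvd hD₁pos hD₂D₁
      omega
    · rw [h3, mul_zero] at hℓe
      have hq1 : q = 1 := by omega
      have hq2 : 2 ≤ q := by
        rw [hq]
        calc 2 ≤ p := hp.two_le
          _ = p ^ 1 := (pow_one p).symm
          _ ≤ p ^ f := Nat.pow_le_pow_right hp.pos (by omega)
      omega
  have hediv : e ∣ (A - 1) * D₂ := by
    rw [← hdiff, hD₁, hD₂]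
    refine ⟨m₁ - m₂, ?_⟩
    have : m₁ * e = (m₁ - m₂) * e + m₂ * e := by
      rw [← add_mul]; congr 1; omega
    rw [mul_comm e]
    omega
  have heA : e ∣ A - 1 := (Nat.Coprime.symm hD₂e).dvd_of_dvd_mul_right hediv
  have heA' : e ≤ A - 1 := Nat.le_of_dvd (by omega) heA
  -- `q ≤ ℓ * A`
  have hq3 : q - 1 ≤ ℓ * (A - 1) := by
    rw [← hℓe]; exact Nat.mul_le_mul_left ℓ heA'
  have hℓpos : 0 < ℓ := by
    rcases Nat.eq_zero_or_pos ℓ with h | h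
    · rw [h, zero_mul] at hℓe
      have hq1 : q = 1 := by omega
      have : A ∣ q := Nat.gcd_dvd_right D₁ q
      rw [hq1] at this
      have := Nat.le_of_dvd one_pos this
      omega
    · exact h
  have hqℓA : q ≤ ℓ * A := by
    have : ℓ * (A - 1) + ℓ = ℓ * A := by
      have : A = (A - 1) + 1 := by omega
      calc ℓ * (A - 1) + ℓ = ℓ * ((A - 1) + 1) := by ring
        _ = ℓ * A := by rw [← this]
    omega
  -- `q < A * A`
  have hqAA : q < A * A := by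
    by_contra hge
    push Not at hge
    have h5 : q * q ≤ (ℓ * A) * (ℓ * A) := Nat.mul_le_mul hqℓA hqℓA
    have h6 : (ℓ * A) * (ℓ * A) = (ℓ * ℓ) * (A * A) := by ring
    have h7 : (ℓ * ℓ) * (A * A) < q * q := by
      calc (ℓ * ℓ) * (A * A) ≤ (ℓ * ℓ) * q := Nat.mul_le_mul_left _ hge
        _ < q * q := Nat.mul_lt_mul_of_pos_right hℓ2 hq0
    omega
  -- `q = A * r` with `1 < r < A`
  obtain ⟨r, hr⟩ : ∃ r, r = p ^ (f - j) := ⟨_, rfl⟩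
  have hqAr : q = A * r := by
    rw [hq, hA, hr, ← pow_add]; congr 1; omega
  have hr1 : 2 ≤ r := by
    rw [hr]
    calc 2 ≤ p := hp.two_le
      _ = p ^ 1 := (pow_one p).symm
      _ ≤ p ^ (f - j) := Nat.pow_le_pow_right hp.pos (by omega)
  have hrA : r < A := by
    by_contra hge
    push Not at hge
    have : A * A ≤ A * r := Nat.mul_le_mul_left A hge
    omega
  -- `(A + 1) * D₂ = A * r + 1`
  rw [hqAr] at hsum'
  have h8 : (A + 1) * r = A * r + r := by ring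
  have hD₂r : D₂ < r := by
    by_contra hge
    push Not at hge
    have : (A + 1) * r ≤ (A + 1) * D₂ := Nat.mul_le_mul_left _ hge
    omega
  have h9 : (A + 1) * (r - D₂) = r - 1 := by
    have : (A + 1) * (r - D₂) = (A + 1) * r - (A + 1) * D₂ := Nat.mul_sub (A + 1) r D₂
    rw [this, h8, hsum']
    omega
  have h10 : A + 1 ≤ (A + 1) * (r - D₂) := Nat.le_mul_of_pos_right _ (by omega)
  omega

/-- the core dichotomy -/
theorem arith_core {p f q e ℓ D₁ D₂ m₁ m₂ : ℕ} (hp : p.Prime) (hq : q = p ^ f) (hf : 0 < f)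
    (hsum : D₁ + D₂ = q + 1) (h1 : D₁ ∣ (q + 1) * q) (h2 : D₂ ∣ (q + 1) * q)
    (hD₁ : D₁ = 1 + m₁ * e) (hD₂ : D₂ = 1 + m₂ * e) (hℓe : ℓ * e = q - 1) (hℓ2 : ℓ * ℓ < q) :
    D₁ = D₂ ∨ (D₁ = q ∧ D₂ = 1) ∨ (D₁ = 1 ∧ D₂ = q) := by
  by_cases hc2 : Nat.Coprime D₂ q
  · rcases arith_core_aux hp hq hsum h1 h2 hD₁ hD₂ hℓe hℓ2 hc2 with h | h
    · exact Or.inl h
    · exact Or.inr (Or.inl h)
  by_cases hc1 : Nat.Coprime D₁ q
  · rcases arith_core_aux hp hq (by rw [add_comm]; exact hsum) h2 h1 hD₂ hD₁ hℓe hℓ2 hc1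
      with h | h
    · exact Or.inl h.symm
    · exact Or.inr (Or.inr ⟨h.2, h.1⟩)
  exfalso
  have hpq : p ∣ q := by rw [hq]; exact dvd_pow_self p hf.ne'
  have hp1 : p ∣ D₁ := by
    rw [hq] at hc1
    have := (Nat.Prime.coprime_iff_not_dvd hp).not.1
      (fun h => hc1 (Nat.Coprime.pow_right f h.symm))
    push Not at this
    exact this
  have hp2 : p ∣ D₂ := by
    rw [hq] at hc2
    have := (Nat.Prime.coprime_iff_not_dvd hp).not.1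
      (fun h => hc2 (Nat.Coprime.pow_right f h.symm))
    push Not at this
    exact this
  have h3 : p ∣ q + 1 := by rw [← hsum]; exact dvd_add hp1 hp2
  have h4 : p ∣ 1 := (Nat.dvd_add_right hpq).1 h3
  exact hp.one_lt.ne' (Nat.dvd_one.1 h4)

/-- a number congruent to `ℓ` modulo `q - 1`, positive, is `ℓ + m (q - 1)` -/
theorem exists_mul_of_int_dvd {q ℓ d : ℕ} (hq : 2 ≤ q) (hℓ : ℓ ≤ q - 1) (hd : 0 < d)
    (hc : ((q : ℤ) - 1) ∣ ((q : ℤ) * ℓ - d)) : ∃ m : ℕ, d = ℓ + m * (q - 1) := by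
  obtain ⟨t, ht⟩ := hc
  have hq1 : ((q - 1 : ℕ) : ℤ) = (q : ℤ) - 1 := by
    rw [Nat.cast_sub (by omega)]; simp
  have h1 : (d : ℤ) = ℓ + ((ℓ : ℤ) - t) * ((q : ℤ) - 1) := by linear_combination -ht
  have h2 : 0 ≤ (ℓ : ℤ) - t := by
    by_contra hneg
    push Not at hneg
    have h3 : (ℓ : ℤ) - t ≤ -1 := by omega
    have h4 : ((ℓ : ℤ) - t) * ((q : ℤ) - 1) ≤ -1 * ((q : ℤ) - 1) :=
      mul_le_mul_of_nonneg_right h3 (by omega)
    have h5 : (ℓ : ℤ) ≤ (q : ℤ) - 1 := by rw [← hq1]; exact_mod_cast hℓ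
    have h6 : (0 : ℤ) < d := by exact_mod_cast hd
    omega
  obtain ⟨m, hm⟩ := Int.eq_ofNat_of_zero_le h2
  refine ⟨m, ?_⟩
  rw [hm, ← hq1] at h1
  exact_mod_cast h1

/-- the degree dichotomy -/
theorem degree_dichotomy {p f q ℓ d₁ d₂ : ℕ} (hp : p.Prime) (hq : q = p ^ f) (hf : 0 < f)
    (hℓ : ℓ ∣ q - 1) (hℓ0 : 0 < ℓ) (hℓ2 : ℓ * ℓ < q)
    (hsum : d₁ + d₂ = (q + 1) * ℓ) (hd₁ : 0 < d₁) (hd₂ : 0 < d₂)
    (hc₁ : ((q : ℤ) - 1) ∣ ((q : ℤ) * ℓ - d₁)) (hc₂ : ((q : ℤ) - 1) ∣ ((q : ℤ) * ℓ - d₂))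
    (hdv₁ : d₁ ∣ (q + 1) * q * (q - 1)) (hdv₂ : d₂ ∣ (q + 1) * q * (q - 1)) :
    d₁ = d₂ ∨ (d₁ = ℓ * q ∧ d₂ = ℓ) ∨ (d₁ = ℓ ∧ d₂ = ℓ * q) := by
  have hq2 : 2 ≤ q := by
    rw [hq]
    calc 2 ≤ p := hp.two_le
      _ = p ^ 1 := (pow_one p).symm
      _ ≤ p ^ f := Nat.pow_le_pow_right hp.pos hf
  obtain ⟨e, he⟩ := hℓ
  have hℓle : ℓ ≤ q - 1 := Nat.le_of_dvd (by omega) ⟨e, he⟩
  obtain ⟨m₁, hm₁⟩ := exists_mul_of_int_dvd hq2 hℓle hd₁ hc₁
  obtain ⟨m₂, hm₂⟩ := exists_mul_of_int_dvd hq2 hℓle hd₂ hc₂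
  have hD₁ : d₁ = ℓ * (1 + m₁ * e) := by rw [hm₁, he]; ring
  have hD₂ : d₂ = ℓ * (1 + m₂ * e) := by rw [hm₂, he]; ring
  have hsumD : (1 + m₁ * e) + (1 + m₂ * e) = q + 1 := by
    have : ℓ * ((1 + m₁ * e) + (1 + m₂ * e)) = ℓ * (q + 1) := by
      rw [mul_add, ← hD₁, ← hD₂, hsum]; ring
    exact Nat.eq_of_mul_eq_mul_left hℓ0 this
  have hdvD : ∀ m : ℕ, ℓ * (1 + m * e) ∣ (q + 1) * q * (q - 1) → (1 + m * e) ∣ (q + 1) * q := by
    intro m hdv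
    rw [he] at hdv
    have h1 : ℓ * (1 + m * e) ∣ ℓ * ((q + 1) * q * e) := by
      have : (q + 1) * q * (ℓ * e) = ℓ * ((q + 1) * q * e) := by ring
      rw [← this]; exact hdv
    have h2 : (1 + m * e) ∣ (q + 1) * q * e := (Nat.mul_dvd_mul_iff_left hℓ0).1 h1
    have hcop : Nat.Coprime (1 + m * e) e := by simp
    exact hcop.dvd_of_dvd_mul_right h2
  have hcore := arith_core hp hq hf hsumD (hdvD m₁ (hD₁ ▸ hdv₁)) (hdvD m₂ (hD₂ ▸ hdv₂)) rfl rfl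
    he.symm hℓ2
  rcases hcore with h | ⟨h1, h2⟩ | ⟨h1, h2⟩
  · left; rw [hD₁, hD₂, h]
  · right; left
    rw [hD₁, hD₂, h1, h2, mul_one]
    exact ⟨rfl, rfl⟩
  · right; right
    rw [hD₁, hD₂, h1, h2, mul_one]
    exact ⟨rfl, rfl⟩

end Cfsg.Agent.Lib.Helper17.PS
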