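import Mathlib
import Cfsg.Prelude.Def_Characters
import Cfsg.Agent.Lib.Helper34.Induction
import Cfsg.Agent.Lib.Helper34.GenChar
import Cfsg.Agent.Lib.Helper33.IrrComp

/-!
# Principal series of a group with a split "Borel" subgroup `B = K ⋊ H` (helper17)

Abstract setting: `B = K ⋊ H ≤ G`, an involution `v` normalising `H`, the elements of `H ∖ 1`
have exactly two "fixed points" (`B` and `vB`), those of `K ∖ 1` only one, and `H` acts freely on
`K`.  For a function `ν` on `H` we study `Ind ν = Ind_B^G (ν ∘ π)`, `π : B → H` the projection.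
-/

set_option autoImplicit false
set_option linter.style.haveILetI false

namespace Cfsg.Agent.Lib.Helper17.PS

open Cfsg
open scoped ComplexConjugate

/-- the abstract data of a "rank one split BN-pair with free torus action" -/
structure Data {G : Type*} [Group G] (q : ℕ) (B K H : Subgroup G) (v : G) : Prop where
  hKB : K ≤ B
  hHB : H ≤ B
  hKn : ∀ x ∈ B, ∀ k ∈ K, x * k * x⁻¹ ∈ K
  hKH : ∀ x, x ∈ K → x ∈ H → x = 1
  hBKH : ∀ x ∈ B, ∃ k ∈ K, ∃ h ∈ H, x = k * h
  hcardK : Nat.card K = q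
  hcardH : Nat.card H + 1 = q
  hcardG : Nat.card G = (q + 1) * (q * Nat.card H)
  hv2 : v * v = 1
  hvB : v ∉ B
  hvH : ∀ h ∈ H, v * h * v⁻¹ ∈ H
  hfixH : ∀ h ∈ H, h ≠ 1 → ∀ x : G, x⁻¹ * h * x ∈ B → x ∈ B ∨ v⁻¹ * x ∈ B
  hfixK : ∀ k ∈ K, k ≠ 1 → ∀ x : G, x⁻¹ * k * x ∈ B → x ∈ B
  hfree : ∀ h ∈ H, h ≠ 1 → ∀ k ∈ K, h * k = k * h → k = 1
  hKtrans : ∀ k ∈ K, k ≠ 1 → ∀ k' ∈ K, k' ≠ 1 → ∃ h ∈ H, h * k * h⁻¹ = k'

section proj

variable {G : Type*} [Group G] {q : ℕ} {B K H : Subgroup G} {v : G}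

theorem Data.v_inv (hd : Data q B K H v) : v⁻¹ = v :=
  inv_eq_of_mul_eq_one_right hd.hv2

/-- the projection `B → H` with kernel `K` -/
theorem Data.exists_proj (hd : Data q B K H v) :
    ∃ π : B →* H, (∀ (h : G) (hh : h ∈ H), π ⟨h, hd.hHB hh⟩ = ⟨h, hh⟩) ∧
      (∀ x : B, π x = 1 ↔ (x : G) ∈ K) ∧ Function.Surjective π := by
  classical
  let KB : Subgroup B := K.subgroupOf B
  haveI hKBn : KB.Normal := by
    constructor
    intro n hn g
    rw [Subgroup.mem_subgroupOf] at hn ⊢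
    simpa using hd.hKn g g.2 n hn
  let φ : H →* B ⧸ KB := (QuotientGroup.mk' KB).comp (Subgroup.inclusion hd.hHB)
  have hφinj : Function.Injective φ := by
    rw [injective_iff_map_eq_one]
    intro h hh
    have h1 : (Subgroup.inclusion hd.hHB h) ∈ KB := by
      have : (QuotientGroup.mk' KB) (Subgroup.inclusion hd.hHB h) = 1 := hh
      exact (QuotientGroup.eq_one_iff _).1 this
    rw [Subgroup.mem_subgroupOf] at h1
    have h2 : (h : G) = 1 := hd.hKH _ h1 h.2
    exact Subtype.ext h2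
  have hφsurj : Function.Surjective φ := by
    intro y
    obtain ⟨x, rfl⟩ := QuotientGroup.mk_surjective y
    obtain ⟨k, hk, h, hh, hx⟩ := hd.hBKH x x.2
    refine ⟨⟨h, hh⟩, ?_⟩
    show (QuotientGroup.mk' KB) (Subgroup.inclusion hd.hHB ⟨h, hh⟩) = QuotientGroup.mk x
    rw [QuotientGroup.mk'_apply, QuotientGroup.eq]
    rw [Subgroup.mem_subgroupOf]
    have : ((Subgroup.inclusion hd.hHB ⟨h, hh⟩ : B)⁻¹ * x : B) = ((h⁻¹ * (k * h) : G)) := by
      simp [hx]
    rw [this]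
    have h3 := hd.hKn h⁻¹ (B.inv_mem (hd.hHB hh)) k hk
    simpa [mul_assoc] using h3
  let e : H ≃* B ⧸ KB := MulEquiv.ofBijective φ ⟨hφinj, hφsurj⟩
  refine ⟨e.symm.toMonoidHom.comp (QuotientGroup.mk' KB), ?_, ?_, ?_⟩
  · intro h hh
    show e.symm ((QuotientGroup.mk' KB) ⟨h, hd.hHB hh⟩) = ⟨h, hh⟩
    have : (QuotientGroup.mk' KB) ⟨h, hd.hHB hh⟩ = e ⟨h, hh⟩ := rfl
    rw [this, MulEquiv.symm_apply_apply]
  · intro x
    show e.symm ((QuotientGroup.mk' KB) x) = 1 ↔ (x : G) ∈ K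
    rw [MulEquiv.map_eq_one_iff, QuotientGroup.mk'_apply, QuotientGroup.eq_one_iff,
      Subgroup.mem_subgroupOf]
  · exact e.symm.surjective.comp (QuotientGroup.mk'_surjective KB)

/-- the projection `B → H` -/
noncomputable def Data.proj (hd : Data q B K H v) : B →* H := hd.exists_proj.choose

theorem Data.proj_coe (hd : Data q B K H v) (h : G) (hh : h ∈ H) :
    hd.proj ⟨h, hd.hHB hh⟩ = ⟨h, hh⟩ := hd.exists_proj.choose_spec.1 h hh

theorem Data.proj_eq_one_iff (hd : Data q B K H v) (x : B) : hd.proj x = 1 ↔ (x : G) ∈ K :=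
  hd.exists_proj.choose_spec.2.1 x

theorem Data.proj_surjective (hd : Data q B K H v) : Function.Surjective hd.proj :=
  hd.exists_proj.choose_spec.2.2

theorem Data.proj_mul (hd : Data q B K H v) (k h : G) (hk : k ∈ K) (hh : h ∈ H)
    (hkh : k * h ∈ B) : hd.proj ⟨k * h, hkh⟩ = ⟨h, hh⟩ := by
  have h1 : (⟨k * h, hkh⟩ : B) = ⟨k, hd.hKB hk⟩ * ⟨h, hd.hHB hh⟩ := rfl
  rw [h1, map_mul, hd.proj_coe h hh]
  have h2 : hd.proj ⟨k, hd.hKB hk⟩ = 1 := (hd.proj_eq_one_iff _).2 hk
  rw [h2, one_mul]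

end proj

section sums

variable {G : Type*} [Group G] [Fintype G] {q : ℕ} {B K H : Subgroup G} {v : G}

/-- summing over `B = K H` -/
theorem Data.sum_B (hd : Data q B K H v) [Fintype B] [Fintype K] [Fintype H] (f : B → ℂ) :
    ∑ x : B, f x =
      ∑ h : H, ∑ k : K, f ⟨(k : G) * h, B.mul_mem (hd.hKB k.2) (hd.hHB h.2)⟩ := by
  classical
  let e : H × K → B := fun p => ⟨(p.2 : G) * p.1, B.mul_mem (hd.hKB p.2.2) (hd.hHB p.1.2)⟩
  have he : Function.Bijective e := by
    constructor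
    · rintro ⟨h, k⟩ ⟨h', k'⟩ hp
      have h1 : (k : G) * h = (k' : G) * h' := congrArg Subtype.val hp
      have h2 : (k' : G)⁻¹ * k = h' * (h : G)⁻¹ := by
        have : (k : G) = k' * h' * (h : G)⁻¹ := by rw [← h1]; group
        rw [this]; group
      have h3 : (k' : G)⁻¹ * k = 1 :=
        hd.hKH _ (K.mul_mem (K.inv_mem k'.2) k.2) (by rw [h2]; exact H.mul_mem h'.2 (H.inv_mem h.2))
      have h4 : (k : G) = k' := by
        have := congrArg (fun t => (k' : G) * t) h3
        simpa using this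
      have h5 : (h : G) = h' := by
        rw [h4] at h1
        exact mul_left_cancel h1
      exact Prod.ext (Subtype.ext h5) (Subtype.ext h4)
    · intro x
      obtain ⟨k, hk, h, hh, hx⟩ := hd.hBKH x x.2
      exact ⟨(⟨h, hh⟩, ⟨k, hk⟩), Subtype.ext hx.symm⟩
  rw [← Fintype.sum_bijective e he (fun p => f (e p)) f (fun _ => rfl), Fintype.sum_prod_type]

theorem Data.card_B (hd : Data q B K H v) : Nat.card B = q * Nat.card H := by
  classical
  haveI : Fintype B := Fintype.ofFinite B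
  haveI : Fintype K := Fintype.ofFinite K
  haveI : Fintype H := Fintype.ofFinite H
  have h := hd.sum_B (fun _ => (1 : ℂ))
  simp only [Finset.sum_const, Finset.card_univ, nsmul_eq_mul, mul_one] at h
  rw [← Nat.card_eq_fintype_card, ← Nat.card_eq_fintype_card, ← Nat.card_eq_fintype_card,
    hd.hcardK] at h
  have h' : ((Nat.card B : ℕ) : ℂ) = ((Nat.card H * q : ℕ) : ℂ) := by
    rw [h]; push_cast; ring
  have := Nat.cast_injective h'
  rw [this, mul_comm]

/-- `k h` is conjugate to `h` under `K`, for `h ≠ 1` -/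
theorem Data.exists_conj (hd : Data q B K H v) {h : G} (hh : h ∈ H) (h1 : h ≠ 1) {k : G}
    (hk : k ∈ K) : ∃ k₁ ∈ K, k₁ * h * k₁⁻¹ = k * h := by
  classical
  have hmem : ∀ k₁ : K, (k₁ : G) * (h * (k₁ : G)⁻¹ * h⁻¹) ∈ K :=
    fun k₁ => K.mul_mem k₁.2 (hd.hKn h (hd.hHB hh) _ (K.inv_mem k₁.2))
  let c : K → K := fun k₁ => ⟨(k₁ : G) * (h * (k₁ : G)⁻¹ * h⁻¹), hmem k₁⟩
  have hinj : Function.Injective c := by
    intro k₁ k₂ hc
    have h2 : (k₁ : G) * (h * (k₁ : G)⁻¹ * h⁻¹) = (k₂ : G) * (h * (k₂ : G)⁻¹ * h⁻¹) :=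
      congrArg Subtype.val hc
    have h3 : h * ((k₁ : G)⁻¹ * k₂) = ((k₁ : G)⁻¹ * k₂) * h := by
      have h4 : (k₁ : G) * h * (k₁ : G)⁻¹ = (k₂ : G) * h * (k₂ : G)⁻¹ := by
        have := congrArg (fun t => t * h) h2
        simpa [mul_assoc] using this
      have h5 : h * (k₁ : G)⁻¹ = (k₁ : G)⁻¹ * ((k₂ : G) * h * (k₂ : G)⁻¹) := by
        rw [← h4]; group
      calc h * ((k₁ : G)⁻¹ * k₂) = (h * (k₁ : G)⁻¹) * k₂ := by group
        _ = ((k₁ : G)⁻¹ * ((k₂ : G) * h * (k₂ : G)⁻¹)) * k₂ := by rw [h5]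
        _ = ((k₁ : G)⁻¹ * k₂) * h := by group
    have h6 := hd.hfree h hh h1 _ (K.mul_mem (K.inv_mem k₁.2) k₂.2) h3
    apply Subtype.ext
    have := congrArg (fun t => (k₁ : G) * t) h6
    simpa using this.symm
  have hsurj : Function.Surjective c := Finite.injective_iff_surjective.1 hinj
  obtain ⟨k₁, hk₁⟩ := hsurj ⟨k, hk⟩
  refine ⟨k₁, k₁.2, ?_⟩
  have h2 : (k₁ : G) * (h * (k₁ : G)⁻¹ * h⁻¹) = k := congrArg Subtype.val hk₁
  rw [← h2]; group

/-- the inflation of a function on `H` to `B` -/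
noncomputable def Data.infl (hd : Data q B K H v) (ν : H → ℂ) : B → ℂ := fun x => ν (hd.proj x)

/-- the principal series function attached to `ν` -/
noncomputable def Data.Ind (hd : Data q B K H v) (ν : H → ℂ) : G → ℂ := indFun B (hd.infl ν)

theorem Data.Ind_isClassFunction (hd : Data q B K H v) (ν : H → ℂ) :
    IsClassFunction G (hd.Ind ν) := Helper34.indFun_isClassFunction B _

/-- the restriction formula -/
theorem Data.classInner_Ind_right (hd : Data q B K H v) [Fintype K] [Fintype H]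
    (ψ : G → ℂ) (hψ : IsClassFunction G ψ) (ν : H → ℂ) :
    classInner ψ (hd.Ind ν) = classInner (fun h : H => ψ h) ν -
      conj (ν 1) * (((q : ℂ) * ψ 1 - ∑ k : K, ψ k) / ((q : ℂ) * (Nat.card H : ℂ))) := by
  classical
  haveI : Fintype B := Fintype.ofFinite B
  have hq0 : (q : ℂ) ≠ 0 := by
    have : 0 < q := by rw [← hd.hcardH]; omega
    exact_mod_cast this.ne'
  have hH0 : (Nat.card H : ℂ) ≠ 0 := by exact_mod_cast (Nat.card_pos (α := H)).ne'
  unfold Data.Ind
  rw [Helper34.classInner_indFun_right B _ ψ hψ, Helper34.classInner_def, Helper34.classInner_def,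
    hd.sum_B]
  have hinner : ∀ h : H, ∑ k : K, (ψ ((k : G) * h) *
      conj (hd.infl ν ⟨(k : G) * h, B.mul_mem (hd.hKB k.2) (hd.hHB h.2)⟩)) =
      (q : ℂ) * (ψ h * conj (ν h)) +
        (if h = 1 then conj (ν 1) * (∑ k : K, ψ k - (q : ℂ) * ψ 1) else 0) := by
    intro h
    have hpr : ∀ k : K, hd.infl ν ⟨(k : G) * h, B.mul_mem (hd.hKB k.2) (hd.hHB h.2)⟩ = ν h := by
      intro k
      unfold Data.infl
      rw [hd.proj_mul k h k.2 h.2]
    simp only [hpr]
    by_cases h1 : h = 1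
    · subst h1
      rw [if_pos rfl]
      simp only [Subgroup.coe_one, mul_one]
      rw [← Finset.sum_mul]
      ring
    · rw [if_neg h1, add_zero]
      have hne : (h : G) ≠ 1 := fun hh => h1 (Subtype.ext hh)
      have hc : ∀ k : K, ψ ((k : G) * h) = ψ h := by
        intro k
        obtain ⟨k₁, _, hk₁⟩ := hd.exists_conj h.2 hne k.2
        rw [← hk₁, hψ]
      simp only [hc]
      rw [Finset.sum_const, Finset.card_univ, ← Nat.card_eq_fintype_card, hd.hcardK, nsmul_eq_mul]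
  simp only [hinner]
  rw [Finset.sum_add_distrib, Finset.sum_ite_eq' Finset.univ (1 : H), if_pos (Finset.mem_univ _),
    ← Finset.mul_sum, hd.card_B]
  push_cast
  field_simp
  ring

/-- sum of an indicator-weighted constant -/
theorem sum_ite_mem_const (B : Subgroup G) [DecidablePred (· ∈ B)] (g : G) (c : ℂ) :
    ∑ x : G, (if g * x ∈ B then c else 0) = (Nat.card B : ℂ) * c := by
  classical
  have h1 : ∑ x : G, (if g * x ∈ B then c else 0) = ∑ x : G, (if x ∈ B then c else 0) :=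
    Fintype.sum_equiv (Equiv.mulLeft g) _ _ (fun x => rfl)
  rw [h1, Finset.sum_ite, Finset.sum_const_zero, add_zero, Finset.sum_const, nsmul_eq_mul]
  congr 1
  rw [Nat.card_eq_fintype_card, Fintype.card_subtype]

theorem Data.card_B_ne (_hd : Data q B K H v) : (Nat.card B : ℂ) ≠ 0 := by
  exact_mod_cast (Nat.card_pos (α := B)).ne'

/-- value at `1` -/
theorem Data.Ind_one (hd : Data q B K H v) (ν : H → ℂ) : hd.Ind ν 1 = ((q : ℂ) + 1) * ν 1 := by
  classical
  unfold Data.Ind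
  rw [Helper34.indFun_apply]
  have h1 : ∀ x : G, extendByZero B (hd.infl ν) (x⁻¹ * 1 * x) = ν 1 := by
    intro x
    have : x⁻¹ * 1 * x = ((1 : B) : G) := by simp
    rw [this, Helper34.extendByZero_coe]
    unfold Data.infl
    rw [map_one]
  simp only [h1]
  rw [Finset.sum_const, Finset.card_univ, ← Nat.card_eq_fintype_card, hd.hcardG, hd.card_B,
    nsmul_eq_mul]
  have hq0 : (q : ℂ) ≠ 0 := by
    have : 0 < q := by rw [← hd.hcardH]; omega
    exact_mod_cast this.ne'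
  have hH0 : (Nat.card H : ℂ) ≠ 0 := by exact_mod_cast (Nat.card_pos (α := H)).ne'
  push_cast
  field_simp

/-- value on `K ∖ 1` -/
theorem Data.Ind_K (hd : Data q B K H v) (ν : H → ℂ) {k : G} (hk : k ∈ K) (hk1 : k ≠ 1) :
    hd.Ind ν k = ν 1 := by
  classical
  unfold Data.Ind
  rw [Helper34.indFun_apply]
  have h1 : ∀ x : G, extendByZero B (hd.infl ν) (x⁻¹ * k * x) = if 1 * x ∈ B then ν 1 else 0 := by
    intro x
    rw [one_mul]
    by_cases hx : x ∈ B
    · rw [if_pos hx]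
      have hK : x⁻¹ * k * x ∈ K := by
        have := hd.hKn x⁻¹ (B.inv_mem hx) k hk
        simpa using this
      rw [Helper34.extendByZero_apply_mem B _ (hd.hKB hK)]
      unfold Data.infl
      rw [(hd.proj_eq_one_iff _).2 hK]
    · rw [if_neg hx]
      apply Helper34.extendByZero_apply_not_mem
      intro hmem
      exact hx (hd.hfixK k hk hk1 x hmem)
  simp only [h1]
  rw [sum_ite_mem_const B 1, ← mul_assoc, inv_mul_cancel₀ hd.card_B_ne, one_mul]

/-- value on `H ∖ 1` -/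
theorem Data.Ind_H (hd : Data q B K H v) (ν : H → ℂ) (hν : IsClassFunction H ν) {h : G}
    (hh : h ∈ H) (h1 : h ≠ 1) :
    hd.Ind ν h = ν ⟨h, hh⟩ + ν ⟨v * h * v⁻¹, hd.hvH h hh⟩ := by
  classical
  unfold Data.Ind
  rw [Helper34.indFun_apply]
  have hvinv := hd.v_inv
  have hterm : ∀ x : G, extendByZero B (hd.infl ν) (x⁻¹ * h * x) =
      (if 1 * x ∈ B then ν ⟨h, hh⟩ else 0) +
        (if v⁻¹ * x ∈ B then ν ⟨v * h * v⁻¹, hd.hvH h hh⟩ else 0) := by
    intro x
    rw [one_mul]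
    by_cases hx : x ∈ B
    · have hx' : v⁻¹ * x ∉ B := by
        intro hvx
        apply hd.hvB
        have : v = x * (v⁻¹ * x)⁻¹ := by group
        rw [this]
        exact B.mul_mem hx (B.inv_mem hvx)
      rw [if_pos hx, if_neg hx', add_zero]
      have hmem : x⁻¹ * h * x ∈ B := B.mul_mem (B.mul_mem (B.inv_mem hx) (hd.hHB hh)) hx
      rw [Helper34.extendByZero_apply_mem B _ hmem]
      unfold Data.infl
      have h2 : (⟨x⁻¹ * h * x, hmem⟩ : B) = (⟨x, hx⟩ : B)⁻¹ * ⟨h, hd.hHB hh⟩ * ⟨x, hx⟩ := rfl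
      rw [h2, map_mul, map_mul, map_inv, hd.proj_coe h hh]
      have h3 := hν ⟨h, hh⟩ (hd.proj ⟨x, hx⟩)⁻¹
      rw [inv_inv] at h3
      exact h3
    · rw [if_neg hx, zero_add]
      by_cases hvx : v⁻¹ * x ∈ B
      · rw [if_pos hvx]
        have hw : v * h * v⁻¹ ∈ H := hd.hvH h hh
        have heq : x⁻¹ * h * x = (v⁻¹ * x)⁻¹ * (v * h * v⁻¹) * (v⁻¹ * x) := by
          have e1 : (v⁻¹ * x)⁻¹ * (v * h * v⁻¹) * (v⁻¹ * x) =
              x⁻¹ * (v * v) * h * (v⁻¹ * v⁻¹) * x := by group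
          rw [e1, hd.hv2, hvinv, hd.hv2]; group
        have hmem : x⁻¹ * h * x ∈ B := by
          rw [heq]
          exact B.mul_mem (B.mul_mem (B.inv_mem hvx) (hd.hHB hw)) hvx
        rw [Helper34.extendByZero_apply_mem B _ hmem]
        unfold Data.infl
        have h2 : (⟨x⁻¹ * h * x, hmem⟩ : B) =
            (⟨v⁻¹ * x, hvx⟩ : B)⁻¹ * ⟨v * h * v⁻¹, hd.hHB hw⟩ * ⟨v⁻¹ * x, hvx⟩ :=
          Subtype.ext heq
        rw [h2, map_mul, map_mul, map_inv, hd.proj_coe _ hw]
        have h3 := hν ⟨v * h * v⁻¹, hw⟩ (hd.proj ⟨v⁻¹ * x, hvx⟩)⁻¹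
        rw [inv_inv] at h3
        exact h3
      · rw [if_neg hvx]
        apply Helper34.extendByZero_apply_not_mem
        intro hmem
        rcases hd.hfixH h hh h1 x hmem with h4 | h4
        · exact hx h4
        · exact hvx h4
  simp only [hterm]
  rw [Finset.sum_add_distrib, sum_ite_mem_const B 1, sum_ite_mem_const B v⁻¹, ← mul_add,
    ← mul_assoc, inv_mul_cancel₀ hd.card_B_ne, one_mul]

/-- conjugation by `v` as an automorphism of `H` -/
noncomputable def Data.tau (hd : Data q B K H v) : H ≃* H where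
  toFun h := ⟨v * h * v⁻¹, hd.hvH h h.2⟩
  invFun h := ⟨v * h * v⁻¹, hd.hvH h h.2⟩
  left_inv h := by
    apply Subtype.ext
    show v * (v * (h : G) * v⁻¹) * v⁻¹ = h
    rw [hd.v_inv]
    calc v * (v * (h : G) * v) * v = (v * v) * h * (v * v) := by group
      _ = h := by rw [hd.hv2]; group
  right_inv h := by
    apply Subtype.ext
    show v * (v * (h : G) * v⁻¹) * v⁻¹ = h
    rw [hd.v_inv]
    calc v * (v * (h : G) * v) * v = (v * v) * h * (v * v) := by group
      _ = h := by rw [hd.hv2]; group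
  map_mul' a b := by
    apply Subtype.ext
    show v * ((a : G) * b) * v⁻¹ = (v * a * v⁻¹) * (v * b * v⁻¹)
    group

theorem Data.tau_apply (hd : Data q B K H v) (h : H) : ((hd.tau h : H) : G) = v * h * v⁻¹ := rfl

theorem Data.tau_tau (hd : Data q B K H v) (h : H) : hd.tau (hd.tau h) = h :=
  hd.tau.left_inv h

/-- the Mackey formula for the principal series -/
theorem Data.classInner_Ind_Ind (hd : Data q B K H v) [Fintype K] [Fintype H] (μ ν : H → ℂ)
    (hμ : IsClassFunction H μ) :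
    classInner (hd.Ind μ) (hd.Ind ν) = classInner μ ν + classInner (fun h => μ (hd.tau h)) ν := by
  classical
  have hq0 : (q : ℂ) ≠ 0 := by
    have : 0 < q := by rw [← hd.hcardH]; omega
    exact_mod_cast this.ne'
  have hH0 : (Nat.card H : ℂ) ≠ 0 := by exact_mod_cast (Nat.card_pos (α := H)).ne'
  have hHq : (Nat.card H : ℂ) = (q : ℂ) - 1 := by
    have := hd.hcardH
    have h2 : ((Nat.card H + 1 : ℕ) : ℂ) = (q : ℂ) := by rw [this]
    push_cast at h2
    linear_combination h2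
  rw [hd.classInner_Ind_right _ (hd.Ind_isClassFunction μ) ν]
  -- the sum over `K`
  have hsumK : ∑ k : K, hd.Ind μ k = 2 * (q : ℂ) * μ 1 := by
    have h1 : ∀ k : K, hd.Ind μ k = μ 1 + (if k = 1 then (q : ℂ) * μ 1 else 0) := by
      intro k
      by_cases hk : k = 1
      · subst hk
        rw [if_pos rfl, Subgroup.coe_one, hd.Ind_one]; ring
      · rw [if_neg hk, add_zero]
        exact hd.Ind_K μ k.2 (fun h => hk (Subtype.ext h))
    simp only [h1]
    rw [Finset.sum_add_distrib, Finset.sum_ite_eq' Finset.univ (1 : K), if_pos (Finset.mem_univ _),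
      Finset.sum_const, Finset.card_univ, ← Nat.card_eq_fintype_card, hd.hcardK, nsmul_eq_mul]
    ring
  rw [hsumK, hd.Ind_one]
  -- the restriction to `H`
  have hres : ∀ h : H, hd.Ind μ h = μ h + μ (hd.tau h) +
      (if h = 1 then ((q : ℂ) - 1) * μ 1 else 0) := by
    intro h
    by_cases h1 : h = 1
    · subst h1
      rw [if_pos rfl, Subgroup.coe_one, hd.Ind_one, map_one]; ring
    · rw [if_neg h1, add_zero]
      exact hd.Ind_H μ hμ h.2 (fun hh => h1 (Subtype.ext hh))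
  have hinner : classInner (fun h : H => hd.Ind μ h) ν =
      classInner μ ν + classInner (fun h => μ (hd.tau h)) ν + μ 1 * conj (ν 1) := by
    simp only [Helper34.classInner_def, hres]
    simp only [add_mul, Finset.sum_add_distrib, ite_mul, zero_mul]
    rw [Finset.sum_ite_eq' Finset.univ (1 : H), if_pos (Finset.mem_univ _)]
    rw [← hHq]
    field_simp
  rw [hinner, hHq]
  have hq1 : (q : ℂ) - 1 ≠ 0 := by rw [← hHq]; exact hH0
  field_simp
  ring

end sums

end Cfsg.Agent.Lib.Helper17.PS
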