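import Mathlib
import Cfsg.Agent.Lib.Helper17.PSBasic
import Cfsg.Agent.Lib.Helper83.Orthogonality
import Cfsg.Agent.Lib.Helper83.SecondOrth
import Cfsg.Agent.Lib.Helper83.Decompose
import Cfsg.Agent.Lib.Helper83.Linear

/-!
# Decomposition of the principal series (helper17)
-/

set_option autoImplicit false
set_option linter.style.haveILetI false
set_option linter.unusedSectionVars false

namespace Cfsg.Agent.Lib.Helper17.PS

open Cfsg Cfsg.Agent.Lib
open scoped ComplexConjugate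

section combi

variable {ι : Type*} [DecidableEq ι]

theorem exists_of_sum_sq_eq_one (s : Finset ι) (f : ι → ℕ) (h : ∑ i ∈ s, f i ^ 2 = 1) :
    ∃ i ∈ s, f i = 1 ∧ ∀ j ∈ s, j ≠ i → f j = 0 := by
  have hex : ∃ i ∈ s, f i ≠ 0 := by
    by_contra hne
    push Not at hne
    have : ∑ i ∈ s, f i ^ 2 = 0 := Finset.sum_eq_zero (fun i hi => by rw [hne i hi]; rfl)
    omega
  obtain ⟨i, hi, hfi⟩ := hex
  have hsplit := Finset.add_sum_erase s (fun i => f i ^ 2) hi
  rw [h] at hsplit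
  have h1 : f i ^ 2 ≤ 1 := by omega
  have h2 : f i = 1 := by
    have : f i ≤ 1 := by
      by_contra hh
      push Not at hh
      have : 2 ^ 2 ≤ f i ^ 2 := Nat.pow_le_pow_left hh 2
      omega
    omega
  refine ⟨i, hi, h2, ?_⟩
  intro j hj hji
  rw [h2] at hsplit
  have h3 : ∑ x ∈ s.erase i, f x ^ 2 = 0 := by omega
  have h4 := (Finset.sum_eq_zero_iff.1 h3) j (Finset.mem_erase.2 ⟨hji, hj⟩)
  exact pow_eq_zero_iff (by norm_num) |>.1 h4

theorem exists_of_sum_sq_eq_two (s : Finset ι) (f : ι → ℕ) (h : ∑ i ∈ s, f i ^ 2 = 2) :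
    ∃ i₁ ∈ s, ∃ i₂ ∈ s, i₁ ≠ i₂ ∧ f i₁ = 1 ∧ f i₂ = 1 ∧ ∀ j ∈ s, j ≠ i₁ → j ≠ i₂ → f j = 0 := by
  have hex : ∃ i ∈ s, f i ≠ 0 := by
    by_contra hne
    push Not at hne
    have : ∑ i ∈ s, f i ^ 2 = 0 := Finset.sum_eq_zero (fun i hi => by rw [hne i hi]; rfl)
    omega
  obtain ⟨i, hi, hfi⟩ := hex
  have hsplit := Finset.add_sum_erase s (fun i => f i ^ 2) hi
  rw [h] at hsplit
  have h2 : f i = 1 := by
    have : f i ≤ 1 := by
      by_contra hh
      push Not at hh
      have : 2 ^ 2 ≤ f i ^ 2 := Nat.pow_le_pow_left hh 2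
      omega
    omega
  rw [h2] at hsplit
  have h3 : ∑ x ∈ s.erase i, f x ^ 2 = 1 := by omega
  obtain ⟨j, hj, hfj, hrest⟩ := exists_of_sum_sq_eq_one (s.erase i) f h3
  refine ⟨i, hi, j, Finset.mem_of_mem_erase hj, (Finset.ne_of_mem_erase hj).symm, h2, hfj, ?_⟩
  intro k hk hki hkj
  exact hrest k (Finset.mem_erase.2 ⟨hki, hk⟩) hkj

end combi

section decomp

variable {G : Type*} [Group G] [Fintype G] {q : ℕ} {B K H : Subgroup G} {v : G}
  (hd : Data q B K H v) [Fintype K] [Fintype H]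
  [Fintype (IrrCharacter G)] [Fintype (IrrCharacter H)]
  [DecidableEq (IrrCharacter G)] [DecidableEq (IrrCharacter H)]

/-- the action of `v` on the irreducible characters of `H` -/
noncomputable def Data.tauIrr (ν : IrrCharacter H) : IrrCharacter H :=
  ⟨fun h => (ν : H → ℂ) (hd.tau h),
    Helper33.isIrrCharacter_comp_of_surjective hd.tau.toMonoidHom hd.tau.surjective ν.2⟩

theorem Data.tauIrr_apply (ν : IrrCharacter H) (h : H) :
    (hd.tauIrr ν : H → ℂ) h = (ν : H → ℂ) (hd.tau h) := rfl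

theorem Data.tauIrr_tauIrr (ν : IrrCharacter H) : hd.tauIrr (hd.tauIrr ν) = ν := by
  apply Subtype.ext
  funext h
  rw [hd.tauIrr_apply, hd.tauIrr_apply, hd.tau_tau]

theorem Data.tauIrr_eq_iff (ν μ : IrrCharacter H) : hd.tauIrr ν = μ ↔ ν = hd.tauIrr μ := by
  constructor
  · intro h; rw [← h, hd.tauIrr_tauIrr]
  · intro h; rw [h, hd.tauIrr_tauIrr]

theorem Data.Ind_isCharacter (ν : IrrCharacter H) : IsCharacter G (hd.Ind ν) := by
  have h1 : IsIrrCharacter B (hd.infl ν) :=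
    Helper33.isIrrCharacter_comp_of_surjective hd.proj hd.proj_surjective ν.2
  exact Helper34.isCharacter_indFun B (Helper83.IrrCharacter_isCharacter ⟨_, h1⟩)

theorem Data.inner_Ind_irr (ν μ : IrrCharacter H) :
    classInner (hd.Ind ν) (hd.Ind μ) =
      (if ν = μ then 1 else 0) + (if hd.tauIrr ν = μ then 1 else 0) := by
  rw [hd.classInner_Ind_Ind _ _ (Helper83.isClassFunction_irr ν)]
  have h1 : classInner (ν : H → ℂ) (μ : H → ℂ) = if ν = μ then 1 else 0 := by
    rw [Helper83.irr_orthonormal ν μ]; split_ifs <;> rfl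
  have h2 : classInner (fun h => (ν : H → ℂ) (hd.tau h)) (μ : H → ℂ) =
      if hd.tauIrr ν = μ then 1 else 0 := by
    have := Helper83.irr_orthonormal (hd.tauIrr ν) μ
    rw [show classInner (fun h => (ν : H → ℂ) (hd.tau h)) (μ : H → ℂ) =
      classInner ((hd.tauIrr ν : IrrCharacter H) : H → ℂ) (μ : H → ℂ) from rfl, this]
    split_ifs <;> rfl
  rw [h1, h2]

/-- the multiplicity of `χ` in the principal series function of `ν` -/
noncomputable def Data.mult (χ : IrrCharacter G) (ν : IrrCharacter H) : ℕ :=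
  Helper83.irrMult (hd.Ind ν) χ

theorem Data.mult_cast (χ : IrrCharacter G) (ν : IrrCharacter H) :
    (hd.mult χ ν : ℂ) = classInner (hd.Ind ν) (χ : G → ℂ) :=
  Helper83.irrMult_cast (hd.Ind_isCharacter ν) χ

theorem Data.mult_cast' (χ : IrrCharacter G) (ν : IrrCharacter H) :
    (hd.mult χ ν : ℂ) = classInner (χ : G → ℂ) (hd.Ind ν) := by
  rw [← Helper34.classInner_conj_symm, ← hd.mult_cast, Complex.conj_natCast]

theorem Data.Ind_eq_sum (ν : IrrCharacter H) :
    hd.Ind ν = ∑ χ : IrrCharacter G, (hd.mult χ ν : ℂ) • (χ : G → ℂ) :=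
  Helper83.char_eq_sum_irrMult (hd.Ind_isCharacter ν)

theorem Data.sum_mult_mul (ν μ : IrrCharacter H) :
    ∑ χ : IrrCharacter G, hd.mult χ ν * hd.mult χ μ =
      (if ν = μ then 1 else 0) + (if hd.tauIrr ν = μ then 1 else 0) := by
  have h1 := hd.inner_Ind_irr ν μ
  rw [hd.Ind_eq_sum ν, hd.Ind_eq_sum μ, Helper34.classInner_combo] at h1
  have h2 : (((∑ χ : IrrCharacter G, hd.mult χ ν * hd.mult χ μ : ℕ)) : ℂ) =
      (((if ν = μ then 1 else 0) + (if hd.tauIrr ν = μ then 1 else 0) : ℕ) : ℂ) := by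
    push_cast
    rw [← h1]
    apply Finset.sum_congr rfl
    intro χ _
    rw [Complex.conj_natCast]
  exact_mod_cast h2

/-- the structure of the column of a character occurring in the principal series -/
theorem Data.mult_of_ne_zero {χ : IrrCharacter G} {ν : IrrCharacter H} (h : hd.mult χ ν ≠ 0)
    (μ : IrrCharacter H) :
    hd.mult χ μ = (if μ = ν then 1 else 0) +
      (if μ = hd.tauIrr ν ∧ hd.tauIrr ν ≠ ν then 1 else 0) := by
  have hsq := hd.sum_mult_mul ν ν
  rw [if_pos rfl] at hsq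
  have hsq' : ∑ χ : IrrCharacter G, hd.mult χ ν ^ 2 =
      1 + (if hd.tauIrr ν = ν then 1 else 0) := by
    rw [← hsq]
    apply Finset.sum_congr rfl
    intro χ _
    rw [sq]
  -- `mult χ ν = 1`
  have hone : hd.mult χ ν = 1 := by
    have h1 : hd.mult χ ν ^ 2 ≤ ∑ χ : IrrCharacter G, hd.mult χ ν ^ 2 :=
      Finset.single_le_sum (f := fun χ => hd.mult χ ν ^ 2) (fun _ _ => Nat.zero_le _)
        (Finset.mem_univ χ)
    have h2 : hd.mult χ ν ^ 2 ≤ 2 := by
      rw [hsq'] at h1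
      split_ifs at h1 <;> omega
    have : hd.mult χ ν ≤ 1 := by
      by_contra hh
      push Not at hh
      have : 2 ^ 2 ≤ hd.mult χ ν ^ 2 := Nat.pow_le_pow_left hh 2
      omega
    omega
  by_cases hμν : μ = ν
  · subst hμν
    rw [if_pos rfl, hone]
    have : ¬ (μ = hd.tauIrr μ ∧ hd.tauIrr μ ≠ μ) := fun hh => hh.2 hh.1.symm
    rw [if_neg this]
  · rw [if_neg hμν, zero_add]
    by_cases hμτ : μ = hd.tauIrr ν
    · have hτν : hd.tauIrr ν ≠ ν := fun hh => hμν (hμτ.trans hh)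
      rw [if_pos ⟨hμτ, hτν⟩]
      rw [if_neg hτν, add_zero] at hsq'
      obtain ⟨χ₀, _, hχ₀, hrest⟩ := exists_of_sum_sq_eq_one Finset.univ (fun χ => hd.mult χ ν) hsq'
      have hχχ₀ : χ = χ₀ := by
        by_contra hne
        have := hrest χ (Finset.mem_univ _) hne
        exact h this
      have h3 := hd.sum_mult_mul ν μ
      rw [if_neg (fun hh => hμν hh.symm), if_pos hμτ.symm, zero_add] at h3
      have h4 : ∑ χ' : IrrCharacter G, hd.mult χ' ν * hd.mult χ' μ = hd.mult χ μ := by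
        rw [Finset.sum_eq_single χ]
        · rw [hone, one_mul]
        · intro χ' _ hne
          have : hd.mult χ' ν = 0 := hrest χ' (Finset.mem_univ _) (by rw [← hχχ₀]; exact hne)
          rw [this, zero_mul]
        · intro hh; exact absurd (Finset.mem_univ _) hh
      rw [← h4, h3]
    · have : ¬ (μ = hd.tauIrr ν ∧ hd.tauIrr ν ≠ ν) := fun hh => hμτ hh.1
      rw [if_neg this]
      have h3 := hd.sum_mult_mul ν μ
      rw [if_neg (fun hh => hμν hh.symm), if_neg (fun hh => hμτ hh.symm)] at h3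
      have h4 := (Finset.sum_eq_zero_iff.1 h3) χ (Finset.mem_univ _)
      rw [hone, one_mul] at h4
      exact h4

omit [Fintype G] [Fintype H] [Fintype (IrrCharacter G)] [Fintype (IrrCharacter H)]
  [DecidableEq (IrrCharacter G)] [DecidableEq (IrrCharacter H)] in
theorem restrict_isClassFunction (H : Subgroup G) (χ : G → ℂ) (hχ : IsClassFunction G χ) :
    IsClassFunction H (fun h : H => χ h) := by
  intro g a
  show χ ((a * g * a⁻¹ : H) : G) = χ g
  have : ((a * g * a⁻¹ : H) : G) = (a : G) * g * (a : G)⁻¹ := by simp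
  rw [this, hχ]

/-- the multiplicities in terms of the restriction to `H` -/
theorem Data.mult_eq (χ : IrrCharacter G) (ν : IrrCharacter H) :
    (hd.mult χ ν : ℂ) = classInner (fun h : H => (χ : G → ℂ) h) (ν : H → ℂ) -
      (ν : H → ℂ) 1 * (((q : ℂ) * (χ : G → ℂ) 1 - ∑ k : K, (χ : G → ℂ) k) /
        ((q : ℂ) * (Nat.card H : ℂ))) := by
  rw [hd.mult_cast', hd.classInner_Ind_right _ (Helper83.isClassFunction_irr χ) ν,
    Helper83.char_one_conj (Helper83.IrrCharacter_isCharacter ν)]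

/-- the values of an irreducible character on `H ∖ 1` -/
theorem Data.irr_apply_H (χ : IrrCharacter G) (h : H) (h1 : h ≠ 1) :
    (χ : G → ℂ) h = ∑ ν : IrrCharacter H, (hd.mult χ ν : ℂ) * (ν : H → ℂ) h := by
  classical
  have hres := restrict_isClassFunction H _ (Helper83.isClassFunction_irr χ)
  have hexp := Helper83.classFunction_eq_sum_irr hres
  have hexp' : (χ : G → ℂ) h = ∑ ν : IrrCharacter H,
      classInner (fun h : H => (χ : G → ℂ) h) (ν : H → ℂ) * (ν : H → ℂ) h := by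
    have := congrFun hexp h
    rw [Finset.sum_apply] at this
    simpa [Pi.smul_apply, smul_eq_mul] using this
  have hreg := Helper83.sum_irr_degree_mul h
  rw [if_neg h1] at hreg
  simp only [hd.mult_eq, sub_mul]
  rw [Finset.sum_sub_distrib, ← hexp']
  have : ∑ ν : IrrCharacter H, (ν : H → ℂ) 1 * (((q : ℂ) * (χ : G → ℂ) 1 -
      ∑ k : K, (χ : G → ℂ) k) / ((q : ℂ) * (Nat.card H : ℂ))) * (ν : H → ℂ) h =
      (((q : ℂ) * (χ : G → ℂ) 1 - ∑ k : K, (χ : G → ℂ) k) / ((q : ℂ) * (Nat.card H : ℂ))) *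
        ∑ ν : IrrCharacter H, (ν : H → ℂ) 1 * (ν : H → ℂ) h := by
    rw [Finset.mul_sum]
    apply Finset.sum_congr rfl
    intro ν _
    ring
  rw [this, hreg, mul_zero, sub_zero]

/-- the sum of an irreducible character over `K` -/
theorem Data.irr_sum_K (χ : IrrCharacter G) :
    ∑ k : K, (χ : G → ℂ) k =
      (q : ℂ) * ∑ ν : IrrCharacter H, (hd.mult χ ν : ℂ) * (ν : H → ℂ) 1 := by
  classical
  have hq0 : (q : ℂ) ≠ 0 := by
    have : 0 < q := by rw [← hd.hcardH]; omega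
    exact_mod_cast this.ne'
  have hH0 : (Nat.card H : ℂ) ≠ 0 := by exact_mod_cast (Nat.card_pos (α := H)).ne'
  have hres := restrict_isClassFunction H _ (Helper83.isClassFunction_irr χ)
  have hexp := Helper83.classFunction_eq_sum_irr hres
  have hexp' : (χ : G → ℂ) 1 = ∑ ν : IrrCharacter H,
      classInner (fun h : H => (χ : G → ℂ) h) (ν : H → ℂ) * (ν : H → ℂ) 1 := by
    have := congrFun hexp 1
    rw [Finset.sum_apply] at this
    simpa [Pi.smul_apply, smul_eq_mul] using this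
  have hreg := Helper83.sum_irr_degree_mul (1 : H)
  rw [if_pos rfl] at hreg
  simp only [hd.mult_eq, sub_mul]
  rw [Finset.sum_sub_distrib, ← hexp']
  have : ∑ ν : IrrCharacter H, (ν : H → ℂ) 1 * (((q : ℂ) * (χ : G → ℂ) 1 -
      ∑ k : K, (χ : G → ℂ) k) / ((q : ℂ) * (Nat.card H : ℂ))) * (ν : H → ℂ) 1 =
      (((q : ℂ) * (χ : G → ℂ) 1 - ∑ k : K, (χ : G → ℂ) k) / ((q : ℂ) * (Nat.card H : ℂ))) *
        ∑ ν : IrrCharacter H, (ν : H → ℂ) 1 * (ν : H → ℂ) 1 := by
    rw [Finset.mul_sum]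
    apply Finset.sum_congr rfl
    intro ν _
    ring
  rw [this, hreg]
  field_simp
  ring

/-- `∑_{g ≠ 1} conj (ν g)` -/
noncomputable def bsum (ν : H → ℂ) : ℂ := ∑ g : H, conj (ν g) - conj (ν 1)

omit [Fintype G] [Fintype (IrrCharacter G)] [Fintype (IrrCharacter H)]
  [DecidableEq (IrrCharacter G)] [DecidableEq (IrrCharacter H)] in
theorem bsum_eq [DecidableEq H] (ν : H → ℂ) :
    bsum ν = ∑ g : H, if g = 1 then 0 else conj (ν g) := by
  unfold bsum
  have : ∀ g : H, (if g = 1 then 0 else conj (ν g)) =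
      conj (ν g) - (if g = 1 then conj (ν 1) else 0) := by
    intro g
    by_cases hg : g = 1
    · subst hg; simp
    · simp [hg]
  simp only [this]
  rw [Finset.sum_sub_distrib, Finset.sum_ite_eq' Finset.univ (1 : H),
    if_pos (Finset.mem_univ _)]

/-- `1` for `v`-invariant characters, `2` for the others -/
noncomputable def Data.aCoef (ν : IrrCharacter H) : ℂ := if hd.tauIrr ν = ν then 1 else 2

theorem Data.aCoef_tauIrr (ν : IrrCharacter H) : hd.aCoef (hd.tauIrr ν) = hd.aCoef ν := by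
  unfold Data.aCoef
  rw [hd.tauIrr_tauIrr]
  by_cases h : hd.tauIrr ν = ν
  · rw [if_pos h, if_pos h.symm]
  · rw [if_neg h, if_neg (fun hh => h hh.symm)]

theorem Data.bsum_tauIrr (ν : IrrCharacter H) :
    bsum ((hd.tauIrr ν : IrrCharacter H) : H → ℂ) = bsum (ν : H → ℂ) := by
  classical
  unfold bsum
  rw [hd.tauIrr_apply, map_one]
  congr 1
  exact Fintype.sum_equiv hd.tau.toEquiv _ _ (fun g => rfl)

/-- evaluating a sum against a column -/
theorem Data.sum_mult_fun {χ : IrrCharacter G} {ν : IrrCharacter H} (h : hd.mult χ ν ≠ 0)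
    (f : IrrCharacter H → ℂ) :
    ∑ μ : IrrCharacter H, (hd.mult χ μ : ℂ) * f μ =
      f ν + (if hd.tauIrr ν ≠ ν then f (hd.tauIrr ν) else 0) := by
  have hm := hd.mult_of_ne_zero h
  by_cases hfix : hd.tauIrr ν = ν
  · have hn : ¬ hd.tauIrr ν ≠ ν := fun hh => hh hfix
    rw [if_neg hn, add_zero]
    have h1 : ∀ μ : IrrCharacter H, (hd.mult χ μ : ℂ) * f μ = if μ = ν then f μ else 0 := by
      intro μ
      rw [hm μ]
      have : ¬ (μ = hd.tauIrr ν ∧ hd.tauIrr ν ≠ ν) := fun hh => hh.2 hfix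
      rw [if_neg this, add_zero]
      by_cases h1 : μ = ν
      · rw [if_pos h1, if_pos h1]; simp
      · rw [if_neg h1, if_neg h1]; simp
    simp only [h1]
    rw [Finset.sum_ite_eq' Finset.univ ν, if_pos (Finset.mem_univ _)]
  · have hn : hd.tauIrr ν ≠ ν := hfix
    rw [if_pos hn]
    have h1 : ∀ μ : IrrCharacter H, (hd.mult χ μ : ℂ) * f μ =
        (if μ = ν then f μ else 0) + (if μ = hd.tauIrr ν then f μ else 0) := by
      intro μ
      rw [hm μ]
      push_cast
      rw [add_mul]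
      congr 1
      · by_cases h1 : μ = ν
        · rw [if_pos h1, if_pos h1, one_mul]
        · rw [if_neg h1, if_neg h1, zero_mul]
      · by_cases h2 : μ = hd.tauIrr ν
        · rw [if_pos ⟨h2, hn⟩, if_pos h2, one_mul]
        · rw [if_neg (fun hh => h2 hh.1), if_neg h2, zero_mul]
    simp only [h1]
    rw [Finset.sum_add_distrib, Finset.sum_ite_eq' Finset.univ ν, if_pos (Finset.mem_univ _),
      Finset.sum_ite_eq' Finset.univ (hd.tauIrr ν), if_pos (Finset.mem_univ _)]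

theorem Data.bsum_irr (χ : IrrCharacter G) :
    bsum (fun h : H => (χ : G → ℂ) h) =
      ∑ ν : IrrCharacter H, (hd.mult χ ν : ℂ) * bsum (ν : H → ℂ) := by
  classical
  simp only [bsum_eq]
  simp only [Finset.mul_sum]
  rw [Finset.sum_comm]
  apply Finset.sum_congr rfl
  intro g _
  by_cases hg : g = 1
  · simp [hg]
  · simp only [if_neg hg]
    rw [hd.irr_apply_H χ g hg, map_sum]
    apply Finset.sum_congr rfl
    intro ν _
    rw [map_mul, Complex.conj_natCast]

/-- the key identity for one irreducible character of `G` -/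
theorem Data.key_identity (χ : IrrCharacter G) (z : H) (hz1 : z ≠ 1) (hzv : hd.tau z = z) :
    (χ : G → ℂ) z * (χ : G → ℂ) z * bsum (fun h : H => (χ : G → ℂ) h) =
      ∑ ν : IrrCharacter H, (hd.mult χ ν : ℂ) *
        (hd.aCoef ν ^ 2 * ((ν : H → ℂ) z * (ν : H → ℂ) z) * bsum (ν : H → ℂ)) := by
  classical
  by_cases hex : ∃ ν, hd.mult χ ν ≠ 0
  · obtain ⟨ν, hν⟩ := hex
    rw [hd.irr_apply_H χ z hz1, hd.bsum_irr χ, hd.sum_mult_fun hν, hd.sum_mult_fun hν,
      hd.sum_mult_fun hν]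
    by_cases hfix : hd.tauIrr ν = ν
    · have : ¬ hd.tauIrr ν ≠ ν := fun h => h hfix
      simp only [if_neg this, add_zero]
      unfold Data.aCoef
      rw [if_pos hfix]
      ring
    · have hne : hd.tauIrr ν ≠ ν := hfix
      simp only [if_pos hne]
      rw [hd.aCoef_tauIrr, hd.bsum_tauIrr, hd.tauIrr_apply, hzv]
      unfold Data.aCoef
      rw [if_neg hfix]
      ring
  · push Not at hex
    rw [hd.irr_apply_H χ z hz1]
    simp [hex]

/-- the sum of the multiplicities divided by the degrees -/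
noncomputable def Data.Rsum (ν : IrrCharacter H) : ℂ :=
  ∑ χ : IrrCharacter G, (hd.mult χ ν : ℂ) / (χ : G → ℂ) 1

/-- the total formula -/
theorem Data.total_formula (z : H) (hz1 : z ≠ 1) (hzv : hd.tau z = z) :
    ∑ χ : IrrCharacter G, (χ : G → ℂ) z * (χ : G → ℂ) z *
        bsum (fun h : H => (χ : G → ℂ) h) / (χ : G → ℂ) 1 =
      ∑ ν : IrrCharacter H, hd.aCoef ν ^ 2 * ((ν : H → ℂ) z * (ν : H → ℂ) z) *
        bsum (ν : H → ℂ) * hd.Rsum ν := by
  classical
  simp only [hd.key_identity _ z hz1 hzv, Finset.sum_div]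
  rw [Finset.sum_comm]
  apply Finset.sum_congr rfl
  intro ν _
  unfold Data.Rsum
  rw [Finset.mul_sum]
  apply Finset.sum_congr rfl
  intro χ _
  ring

theorem bsum_irr_eq (ν : IrrCharacter H) :
    bsum (ν : H → ℂ) =
      (if ν = Helper83.trivChar H then (Nat.card H : ℂ) else 0) - (ν : H → ℂ) 1 := by
  classical
  have h1 : bsum (ν : H → ℂ) = ∑ g : H, conj ((ν : H → ℂ) g) - conj ((ν : H → ℂ) 1) := rfl
  rw [h1, Helper83.char_one_conj (Helper83.IrrCharacter_isCharacter ν)]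
  congr 1
  have h2 := Helper83.irr_orthonormal ν (Helper83.trivChar H)
  rw [Helper34.classInner_def] at h2
  have h3 : ∑ g : H, (ν : H → ℂ) g * conj ((Helper83.trivChar H : H → ℂ) g) =
      ∑ g : H, (ν : H → ℂ) g := by
    apply Finset.sum_congr rfl
    intro g _
    rw [Helper83.trivChar_apply, map_one, mul_one]
  rw [h3] at h2
  have hH0 : (Nat.card H : ℂ) ≠ 0 := by exact_mod_cast (Nat.card_pos (α := H)).ne'
  have h4 : ∑ g : H, (ν : H → ℂ) g =
      (Nat.card H : ℂ) * (if ν = Helper83.trivChar H then 1 else 0) := by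
    have : (if ν = Helper83.trivChar H then (1 : ℂ) else 0) =
        (Nat.card H : ℂ)⁻¹ * ∑ g : H, (ν : H → ℂ) g := by
      rw [h2]; split_ifs <;> rfl
    rw [this]
    field_simp
  rw [← map_sum, h4]
  by_cases hν : ν = Helper83.trivChar H
  · rw [if_pos hν, if_pos hν, mul_one, Complex.conj_natCast]
  · rw [if_neg hν, if_neg hν, mul_zero, map_zero]

/-- a non-invariant character gives an irreducible principal series character -/
theorem Data.Rsum_of_not_fixed (ν : IrrCharacter H) (hν : hd.tauIrr ν ≠ ν) :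
    hd.Rsum ν = 1 / (((q : ℂ) + 1) * (ν : H → ℂ) 1) := by
  classical
  have hnorm : classInner (hd.Ind ν) (hd.Ind ν) = 1 := by
    rw [hd.inner_Ind_irr, if_pos rfl, if_neg hν, add_zero]
  have hirr : IsIrrCharacter G (hd.Ind ν) :=
    Helper83.isIrrCharacter_of_norm_one (hd.Ind_isCharacter ν) hnorm
  let χ₀ : IrrCharacter G := ⟨hd.Ind ν, hirr⟩
  have hm : ∀ χ : IrrCharacter G, (hd.mult χ ν : ℂ) = if χ = χ₀ then 1 else 0 := by
    intro χ
    rw [hd.mult_cast]
    have := Helper83.irr_orthonormal χ₀ χ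
    rw [show classInner (hd.Ind ν) (χ : G → ℂ) = classInner (χ₀ : G → ℂ) (χ : G → ℂ) from rfl,
      this]
    by_cases h : χ = χ₀
    · rw [if_pos h, if_pos h.symm]
    · rw [if_neg h, if_neg (fun hh => h hh.symm)]
  unfold Data.Rsum
  simp only [hm, ite_div, zero_div]
  rw [Finset.sum_ite_eq' Finset.univ χ₀, if_pos (Finset.mem_univ _)]
  show 1 / hd.Ind ν 1 = _
  rw [hd.Ind_one]

/-- an invariant character gives two constituents -/
theorem Data.fixed_constituents (ν : IrrCharacter H) (hν : hd.tauIrr ν = ν) :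
    ∃ ψ₁ ψ₂ : IrrCharacter G, ψ₁ ≠ ψ₂ ∧
      (∀ χ, hd.mult χ ν = (if χ = ψ₁ then 1 else 0) + (if χ = ψ₂ then 1 else 0)) ∧
      ((ψ₁ : G → ℂ) 1 + (ψ₂ : G → ℂ) 1 = ((q : ℂ) + 1) * (ν : H → ℂ) 1) ∧
      (∀ h : H, h ≠ 1 → (ψ₁ : G → ℂ) h = (ν : H → ℂ) h ∧ (ψ₂ : G → ℂ) h = (ν : H → ℂ) h) ∧
      (∑ k : K, (ψ₁ : G → ℂ) k = (q : ℂ) * (ν : H → ℂ) 1) ∧
      (∑ k : K, (ψ₂ : G → ℂ) k = (q : ℂ) * (ν : H → ℂ) 1) ∧
      hd.Rsum ν = 1 / (ψ₁ : G → ℂ) 1 + 1 / (ψ₂ : G → ℂ) 1 := by
  classical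
  have hsq := hd.sum_mult_mul ν ν
  rw [if_pos rfl, if_pos hν] at hsq
  have hsq' : ∑ χ ∈ (Finset.univ : Finset (IrrCharacter G)), hd.mult χ ν ^ 2 = 2 := by
    have : ∑ χ ∈ (Finset.univ : Finset (IrrCharacter G)), hd.mult χ ν ^ 2 =
        ∑ χ : IrrCharacter G, hd.mult χ ν * hd.mult χ ν := by
      apply Finset.sum_congr rfl
      intro χ _
      rw [sq]
    rw [this, hsq]
  obtain ⟨ψ₁, _, ψ₂, _, hne, h1, h2, hrest⟩ :=
    exists_of_sum_sq_eq_two Finset.univ (fun χ => hd.mult χ ν) hsq'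
  have hm : ∀ χ, hd.mult χ ν = (if χ = ψ₁ then 1 else 0) + (if χ = ψ₂ then 1 else 0) := by
    intro χ
    by_cases e1 : χ = ψ₁
    · subst e1
      rw [if_pos rfl, if_neg hne, h1]
    · by_cases e2 : χ = ψ₂
      · subst e2
        rw [if_neg e1, if_pos rfl, h2]
      · rw [if_neg e1, if_neg e2]
        exact hrest χ (Finset.mem_univ _) e1 e2
  have hm₁ : hd.mult ψ₁ ν ≠ 0 := by rw [h1]; exact one_ne_zero
  have hm₂ : hd.mult ψ₂ ν ≠ 0 := by rw [h2]; exact one_ne_zero
  have hnn : ¬ hd.tauIrr ν ≠ ν := fun hh => hh hν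
  have hsumf : ∀ f : IrrCharacter G → ℂ, ∑ χ : IrrCharacter G, (hd.mult χ ν : ℂ) * f χ =
      f ψ₁ + f ψ₂ := by
    intro f
    have : ∀ χ : IrrCharacter G, (hd.mult χ ν : ℂ) * f χ =
        (if χ = ψ₁ then f χ else 0) + (if χ = ψ₂ then f χ else 0) := by
      intro χ
      rw [hm χ]
      push_cast
      rw [add_mul]
      congr 1
      · by_cases e : χ = ψ₁
        · rw [if_pos e, if_pos e, one_mul]
        · rw [if_neg e, if_neg e, zero_mul]
      · by_cases e : χ = ψ₂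
        · rw [if_pos e, if_pos e, one_mul]
        · rw [if_neg e, if_neg e, zero_mul]
    simp only [this]
    rw [Finset.sum_add_distrib, Finset.sum_ite_eq' Finset.univ ψ₁, if_pos (Finset.mem_univ _),
      Finset.sum_ite_eq' Finset.univ ψ₂, if_pos (Finset.mem_univ _)]
  refine ⟨ψ₁, ψ₂, hne, hm, ?_, ?_, ?_, ?_, ?_⟩
  · have h3 := congrFun (hd.Ind_eq_sum ν) 1
    rw [hd.Ind_one, Finset.sum_apply] at h3
    simp only [Pi.smul_apply, smul_eq_mul] at h3
    rw [hsumf (fun χ => (χ : G → ℂ) 1)] at h3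
    exact h3.symm
  · intro h hh
    constructor
    · rw [hd.irr_apply_H ψ₁ h hh, hd.sum_mult_fun hm₁ (fun μ => (μ : H → ℂ) h), if_neg hnn,
        add_zero]
    · rw [hd.irr_apply_H ψ₂ h hh, hd.sum_mult_fun hm₂ (fun μ => (μ : H → ℂ) h), if_neg hnn,
        add_zero]
  · rw [hd.irr_sum_K ψ₁, hd.sum_mult_fun hm₁ (fun μ => (μ : H → ℂ) 1), if_neg hnn, add_zero]
  · rw [hd.irr_sum_K ψ₂, hd.sum_mult_fun hm₂ (fun μ => (μ : H → ℂ) 1), if_neg hnn, add_zero]
  · unfold Data.Rsum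
    have := hsumf (fun χ => 1 / (χ : G → ℂ) 1)
    simp only [mul_one_div] at this
    exact this

omit [Fintype H] [Fintype (IrrCharacter G)] [Fintype (IrrCharacter H)]
  [DecidableEq (IrrCharacter G)] [DecidableEq (IrrCharacter H)] in
include hd in
/-- the sum over `K` of a class function -/
theorem Data.sum_K_eq (ψ : G → ℂ) (hψ : IsClassFunction G ψ) {k₀ : G} (hk₀ : k₀ ∈ K)
    (hk₀1 : k₀ ≠ 1) : ∑ k : K, ψ k = ψ 1 + ((q : ℂ) - 1) * ψ k₀ := by
  classical
  have h1 : ∀ k : K, ψ k = ψ k₀ + (if k = 1 then ψ 1 - ψ k₀ else 0) := by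
    intro k
    by_cases hk : k = 1
    · subst hk
      rw [if_pos rfl, Subgroup.coe_one]; ring
    · rw [if_neg hk, add_zero]
      obtain ⟨h, _, hh⟩ := hd.hKtrans k₀ hk₀ hk₀1 k k.2 (fun e => hk (Subtype.ext e))
      rw [← hh, hψ]
  simp only [h1]
  rw [Finset.sum_add_distrib, Finset.sum_ite_eq' Finset.univ (1 : K), if_pos (Finset.mem_univ _),
    Finset.sum_const, Finset.card_univ, ← Nat.card_eq_fintype_card, hd.hcardK, nsmul_eq_mul]
  ring

end decomp

end Cfsg.Agent.Lib.Helper17.PS
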