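import Mathlib
import Cfsg.Agent.Lib.Helper17.PSDecomp
import Cfsg.Agent.Lib.Helper17.PSArith
import Cfsg.Agent.Lib.Helper83.Quotient
import Cfsg.Agent.Lib.Helper83.Abelian
import Cfsg.Agent.Lib.Helper83.LinearCount
import Cfsg.Agent.Lib.Helper82.CharBasic
import Cfsg.Agent.Lib.Helper20.LinExt
import Cfsg.Agent.S0840

/-!
# The main theorem on principal series: an invariant linear character of order two (helper17)
-/

set_option autoImplicit false
set_option linter.style.haveILetI false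
set_option linter.unusedSectionVars false

namespace Cfsg.Agent.Lib.Helper17.PS

open Cfsg Cfsg.Agent.Lib
open scoped ComplexConjugate

/-- a rational algebraic integer is an integer: divisibility form -/
theorem int_dvd_of_isIntegral {a b : ℤ} {z : ℂ} (hz : IsIntegral ℤ z) (hb : b ≠ 0)
    (h : (b : ℂ) * z = a) : b ∣ a := by
  have hb' : (b : ℂ) ≠ 0 := by exact_mod_cast hb
  have hz' : z = (((a : ℚ) / (b : ℚ) : ℚ) : ℂ) := by
    push_cast
    rw [← h]
    field_simp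
  rw [hz'] at hz
  have h1 : IsIntegral ℤ ((a : ℚ) / (b : ℚ) : ℚ) := by
    have := (isIntegral_algebraMap_iff (R := ℤ) (A := ℚ) (B := ℂ)
      (algebraMap ℚ ℂ).injective (x := ((a : ℚ) / (b : ℚ) : ℚ))).1
    exact this (by simpa using hz)
  obtain ⟨k, hk⟩ := IsIntegrallyClosed.isIntegral_iff.1 h1
  have hb'' : (b : ℚ) ≠ 0 := by exact_mod_cast hb
  have h2 : (a : ℚ) = (b : ℚ) * (k : ℚ) := by
    have : ((k : ℤ) : ℚ) = (a : ℚ) / (b : ℚ) := by simpa using hk
    rw [this]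
    field_simp
  have h3 : a = b * k := by exact_mod_cast h2
  exact ⟨k, h3⟩

section main

variable {G : Type*} [Group G] [Fintype G] {q : ℕ} {B K H : Subgroup G} {v : G}
  (hd : Data q B K H v) [Fintype K] [Fintype H]
  [Fintype (IrrCharacter G)] [Fintype (IrrCharacter H)]
  [DecidableEq (IrrCharacter G)] [DecidableEq (IrrCharacter H)]

include hd in
theorem Data.two_le_q : 2 ≤ q := by
  have h1 := hd.hcardH
  have h2 : 0 < Nat.card H := Nat.card_pos
  omega

include hd in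
theorem Data.card_H_eq : Nat.card H = q - 1 := by
  have h1 := hd.hcardH
  omega

include hd in
theorem Data.card_G_eq : Nat.card G = (q + 1) * q * (q - 1) := by
  rw [hd.hcardG, hd.card_H_eq]; ring

include hd in
/-- degree facts for an irreducible character of `H` -/
theorem Data.degree_facts (ν : IrrCharacter H) :
    0 < charDegree (ν : H → ℂ) ∧ charDegree (ν : H → ℂ) ∣ q - 1 ∧
      charDegree (ν : H → ℂ) * charDegree (ν : H → ℂ) < q := by
  classical
  refine ⟨Helper83.irr_charDegree_pos ν, ?_, ?_⟩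
  · rw [← hd.card_H_eq]; exact Helper83.irr_charDegree_dvd_card ν
  · have h1 := Helper83.sum_charDegree_sq (G := H)
    have h2 : charDegree (ν : H → ℂ) ^ 2 ≤ ∑ χ : IrrCharacter H, charDegree (χ : H → ℂ) ^ 2 :=
      Finset.single_le_sum (f := fun χ : IrrCharacter H => charDegree (χ : H → ℂ) ^ 2)
        (fun _ _ => Nat.zero_le _) (Finset.mem_univ ν)
    rw [h1, hd.card_H_eq, sq] at h2
    have := hd.two_le_q
    omega

/-- the degrees of the two constituents of an invariant principal series character -/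
theorem Data.fixed_degrees {p f : ℕ} (hp : p.Prime) (hq : q = p ^ f) (hf : 0 < f)
    (ν : IrrCharacter H) (hν : hd.tauIrr ν = ν) :
    ∃ ψ₁ ψ₂ : IrrCharacter G, ψ₁ ≠ ψ₂ ∧
      (∀ χ, hd.mult χ ν = (if χ = ψ₁ then 1 else 0) + (if χ = ψ₂ then 1 else 0)) ∧
      (∀ h : H, h ≠ 1 → (ψ₁ : G → ℂ) h = (ν : H → ℂ) h ∧ (ψ₂ : G → ℂ) h = (ν : H → ℂ) h) ∧
      hd.Rsum ν = 1 / (charDegree (ψ₁ : G → ℂ) : ℂ) + 1 / (charDegree (ψ₂ : G → ℂ) : ℂ) ∧
      (charDegree (ψ₁ : G → ℂ) = charDegree (ψ₂ : G → ℂ) ∨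
        (charDegree (ψ₁ : G → ℂ) = charDegree (ν : H → ℂ) * q ∧
          charDegree (ψ₂ : G → ℂ) = charDegree (ν : H → ℂ)) ∨
        (charDegree (ψ₁ : G → ℂ) = charDegree (ν : H → ℂ) ∧
          charDegree (ψ₂ : G → ℂ) = charDegree (ν : H → ℂ) * q)) ∧
      charDegree (ψ₁ : G → ℂ) + charDegree (ψ₂ : G → ℂ) = (q + 1) * charDegree (ν : H → ℂ) ∧
      (charDegree (ν : H → ℂ) = 1 → charDegree (ψ₁ : G → ℂ) = 1 ∨ charDegree (ψ₂ : G → ℂ) = 1) := by
  classical
  obtain ⟨ψ₁, ψ₂, hne, hm, hsum, hval, hK₁, hK₂, hR⟩ := hd.fixed_constituents ν hν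
  have hq2 := hd.two_le_q
  have hc₁ := Helper83.charDegree_cast (Helper83.IrrCharacter_isCharacter ψ₁)
  have hc₂ := Helper83.charDegree_cast (Helper83.IrrCharacter_isCharacter ψ₂)
  have hcν := Helper83.charDegree_cast (Helper83.IrrCharacter_isCharacter ν)
  obtain ⟨hℓ0, hℓdvd, hℓ2⟩ := hd.degree_facts ν
  -- an element of `K ∖ 1`
  obtain ⟨k₀, hk₀K, hk₀1⟩ : ∃ k₀ : G, k₀ ∈ K ∧ k₀ ≠ 1 := by
    have h1 : 1 < Nat.card K := by rw [hd.hcardK]; omega
    haveI : Nontrivial K := (Finite.one_lt_card_iff_nontrivial).1 h1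
    obtain ⟨k, hk⟩ := exists_ne (1 : K)
    exact ⟨k, k.2, fun h => hk (Subtype.ext h)⟩
  -- the congruences
  have hcong : ∀ ψ : IrrCharacter G, ∑ k : K, (ψ : G → ℂ) k = (q : ℂ) * (ν : H → ℂ) 1 →
      ((q : ℤ) - 1) ∣ ((q : ℤ) * (charDegree (ν : H → ℂ) : ℤ) - (charDegree (ψ : G → ℂ) : ℤ)) := by
    intro ψ hK
    rw [hd.sum_K_eq _ (Helper83.isClassFunction_irr ψ) hk₀K hk₀1] at hK
    have hint := Helper82.IsCharacter.isIntegral (Helper83.IrrCharacter_isCharacter ψ) k₀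
    refine int_dvd_of_isIntegral hint (by omega) ?_
    have hcψ := Helper83.charDegree_cast (Helper83.IrrCharacter_isCharacter ψ)
    push_cast
    rw [hcν, hcψ]
    linear_combination hK
  have hdvd : ∀ ψ : IrrCharacter G, charDegree (ψ : G → ℂ) ∣ (q + 1) * q * (q - 1) := by
    intro ψ
    rw [← hd.card_G_eq]
    exact Helper83.irr_charDegree_dvd_card ψ
  have hsumN : charDegree (ψ₁ : G → ℂ) + charDegree (ψ₂ : G → ℂ) =
      (q + 1) * charDegree (ν : H → ℂ) := by
    rw [← hc₁, ← hc₂, ← hcν] at hsum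
    exact_mod_cast hsum
  have hdich := degree_dichotomy hp hq hf hℓdvd hℓ0 hℓ2 hsumN (Helper83.irr_charDegree_pos ψ₁)
    (Helper83.irr_charDegree_pos ψ₂) (hcong ψ₁ hK₁) (hcong ψ₂ hK₂) (hdvd ψ₁) (hdvd ψ₂)
  refine ⟨ψ₁, ψ₂, hne, hm, hval, ?_, hdich, hsumN, ?_⟩
  · rw [hR, hc₁, hc₂]
  · intro hℓ1
    have hle : charDegree (ν : H → ℂ) ≤ q - 1 := by rw [hℓ1]; omega
    obtain ⟨m₁, hm₁⟩ := exists_mul_of_int_dvd hq2 hle (Helper83.irr_charDegree_pos ψ₁)
      (hcong ψ₁ hK₁)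
    obtain ⟨m₂, hm₂⟩ := exists_mul_of_int_dvd hq2 hle (Helper83.irr_charDegree_pos ψ₂)
      (hcong ψ₂ hK₂)
    rw [hℓ1] at hm₁ hm₂ hsumN
    rcases Nat.eq_zero_or_pos m₁ with h0 | h0
    · left; rw [hm₁, h0]; simp
    · rcases Nat.eq_zero_or_pos m₂ with h0' | h0'
      · right; rw [hm₂, h0']; simp
      · exfalso
        have h1 : 1 * (q - 1) ≤ m₁ * (q - 1) := Nat.mul_le_mul_right _ h0
        have h2 : 1 * (q - 1) ≤ m₂ * (q - 1) := Nat.mul_le_mul_right _ h0'
        omega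

/-- the defect of an irreducible character of `H` -/
noncomputable def Data.rdef (ν : IrrCharacter H) : ℂ :=
  if hd.tauIrr ν = ν then
    ((ν : H → ℂ) 1) ^ 3 * hd.Rsum ν - 4 * ((ν : H → ℂ) 1) ^ 2 / ((q : ℂ) + 1)
  else 0

/-- an invariant character one of whose constituents has the same degree -/
def Data.TypeA (ν : IrrCharacter H) : Prop :=
  hd.tauIrr ν = ν ∧ ∃ ψ : IrrCharacter G, hd.mult ψ ν ≠ 0 ∧
    charDegree (ψ : G → ℂ) = charDegree (ν : H → ℂ)

/-- the basic defect -/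
noncomputable def rzero (q : ℕ) : ℂ := ((q : ℂ) - 1) ^ 2 / ((q : ℂ) * ((q : ℂ) + 1))

theorem Data.rdef_eq {p f : ℕ} (hp : p.Prime) (hq : q = p ^ f) (hf : 0 < f)
    (ν : IrrCharacter H) [Decidable (hd.TypeA ν)] :
    hd.rdef ν = if hd.TypeA ν then ((charDegree (ν : H → ℂ) : ℂ)) ^ 2 * rzero q else 0 := by
  classical
  have hq2 := hd.two_le_q
  have hq0 : (q : ℂ) ≠ 0 := by exact_mod_cast (by omega : q ≠ 0)
  have hq1 : (q : ℂ) + 1 ≠ 0 := by exact_mod_cast (by omega : q + 1 ≠ 0)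
  have hcν := Helper83.charDegree_cast (Helper83.IrrCharacter_isCharacter ν)
  obtain ⟨hℓ0, -, -⟩ := hd.degree_facts ν
  have hℓC : (charDegree (ν : H → ℂ) : ℂ) ≠ 0 := by exact_mod_cast hℓ0.ne'
  unfold Data.rdef
  by_cases hfix : hd.tauIrr ν = ν
  · rw [if_pos hfix]
    obtain ⟨ψ₁, ψ₂, hne, hm, hval, hR, hdich, hsumN, -⟩ := hd.fixed_degrees hp hq hf ν hfix
    have hm₁ : hd.mult ψ₁ ν ≠ 0 := by rw [hm ψ₁, if_pos rfl]; omega
    have hm₂ : hd.mult ψ₂ ν ≠ 0 := by rw [hm ψ₂, if_pos rfl]; omega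
    rw [hR, ← hcν]
    rcases hdich with h | ⟨h1, h2⟩ | ⟨h1, h2⟩
    · -- equal degrees
      have hnot : ¬ hd.TypeA ν := by
        rintro ⟨-, ψ, hψm, hψd⟩
        have hψ : ψ = ψ₁ ∨ ψ = ψ₂ := by
          by_contra hcon
          push Not at hcon
          rw [hm ψ, if_neg hcon.1, if_neg hcon.2] at hψm
          exact hψm rfl
        have hd₁ : charDegree (ψ₁ : G → ℂ) = charDegree (ν : H → ℂ) := by
          rcases hψ with rfl | rfl
          · exact hψd
          · rw [h]; exact hψd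
        rw [← h, hd₁] at hsumN
        have : 2 * charDegree (ν : H → ℂ) = (q + 1) * charDegree (ν : H → ℂ) := by omega
        have h3 : 2 = q + 1 := Nat.eq_of_mul_eq_mul_right hℓ0 this
        omega
      rw [if_neg hnot, ← h]
      have h4 : (2 : ℂ) * (charDegree (ψ₁ : G → ℂ) : ℂ) =
          ((q : ℂ) + 1) * (charDegree (ν : H → ℂ) : ℂ) := by
        rw [← h] at hsumN
        have : 2 * charDegree (ψ₁ : G → ℂ) = (q + 1) * charDegree (ν : H → ℂ) := by omega
        exact_mod_cast this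
      have hd₁0 : (charDegree (ψ₁ : G → ℂ) : ℂ) ≠ 0 := by
        exact_mod_cast (Helper83.irr_charDegree_pos ψ₁).ne'
      have h5 : (charDegree (ψ₁ : G → ℂ) : ℂ) =
          ((q : ℂ) + 1) * (charDegree (ν : H → ℂ) : ℂ) / 2 := by
        rw [← h4]; ring
      rw [h5]
      field_simp
      ring
    · have hA : hd.TypeA ν := ⟨hfix, ψ₂, hm₂, h2⟩
      rw [if_pos hA, h1, h2]
      unfold rzero
      push_cast
      field_simp
      ring
    · have hA : hd.TypeA ν := ⟨hfix, ψ₁, hm₁, h1⟩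
      rw [if_pos hA, h1, h2]
      unfold rzero
      push_cast
      field_simp
      ring
  · rw [if_neg hfix]
    have hnot : ¬ hd.TypeA ν := fun h => hfix h.1
    rw [if_neg hnot]

/-- an invariant linear character is of type A -/
theorem Data.typeA_of_linear {p f : ℕ} (hp : p.Prime) (hq : q = p ^ f) (hf : 0 < f)
    (ν : IrrCharacter H) (hfix : hd.tauIrr ν = ν) (hlin : charDegree (ν : H → ℂ) = 1) :
    hd.TypeA ν := by
  classical
  obtain ⟨ψ₁, ψ₂, hne, hm, hval, hR, hdich, hsumN, hone⟩ := hd.fixed_degrees hp hq hf ν hfix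
  have hm₁ : hd.mult ψ₁ ν ≠ 0 := by rw [hm ψ₁, if_pos rfl]; omega
  have hm₂ : hd.mult ψ₂ ν ≠ 0 := by rw [hm ψ₂, if_pos rfl]; omega
  rcases hone hlin with h | h
  · exact ⟨hfix, ψ₁, hm₁, by rw [h, hlin]⟩
  · exact ⟨hfix, ψ₂, hm₂, by rw [h, hlin]⟩

/-- the values on `H ∖ 1` of the constituent witnessing type A -/
theorem Data.typeA_values {ν : IrrCharacter H} (hfix : hd.tauIrr ν = ν) {ψ : IrrCharacter G}
    (hψ : hd.mult ψ ν ≠ 0) (h : H) (h1 : h ≠ 1) : (ψ : G → ℂ) h = (ν : H → ℂ) h := by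
  have hnn : ¬ hd.tauIrr ν ≠ ν := fun hh => hh hfix
  rw [hd.irr_apply_H ψ h h1, hd.sum_mult_fun hψ (fun μ => (μ : H → ℂ) h), if_neg hnn, add_zero]

theorem Data.tauIrr_triv : hd.tauIrr (Helper83.trivChar H) = Helper83.trivChar H := by
  apply Subtype.ext
  funext h
  rw [hd.tauIrr_apply, Helper83.trivChar_apply, Helper83.trivChar_apply]

/-- the value at a central involution -/
theorem irr_central_involution (ν : IrrCharacter H) (z : H) (hz2 : z * z = 1)
    (hzc : ∀ h : H, h * z = z * h) :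
    (ν : H → ℂ) z * (ν : H → ℂ) z = (ν : H → ℂ) 1 * (ν : H → ℂ) 1 := by
  have hzcen : z ∈ Subgroup.center H := Subgroup.mem_center_iff.2 hzc
  have h1 := Helper83.irr_central_mul_conj ν hzcen
  have hzinv : z⁻¹ = z := inv_eq_of_mul_eq_one_right hz2
  have h2 := Helper83.char_inv (Helper83.IrrCharacter_isCharacter ν) z
  rw [hzinv] at h2
  rw [← h2] at h1
  exact h1

/-- evaluation of the total -/
theorem Data.total_eval (z : H) (hz1 : z ≠ 1) (hz2 : z * z = 1)
    (hzc : ∀ h : H, h * z = z * h) (hzv : hd.tau z = z) :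
    ∑ χ : IrrCharacter G, (χ : G → ℂ) z * (χ : G → ℂ) z *
        bsum (fun h : H => (χ : G → ℂ) h) / (χ : G → ℂ) 1 =
      ((q : ℂ) - 1) * hd.Rsum (Helper83.trivChar H) - ∑ ν : IrrCharacter H, hd.rdef ν -
        4 * ((q : ℂ) - 1) / ((q : ℂ) + 1) := by
  classical
  have hq2 := hd.two_le_q
  have hq1 : (q : ℂ) + 1 ≠ 0 := by exact_mod_cast (by omega : q + 1 ≠ 0)
  have hHq : (Nat.card H : ℂ) = (q : ℂ) - 1 := by
    rw [hd.card_H_eq, Nat.cast_sub (by omega)]; simp
  rw [hd.total_formula z hz1 hzv]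
  have hterm : ∀ ν : IrrCharacter H,
      hd.aCoef ν ^ 2 * ((ν : H → ℂ) z * (ν : H → ℂ) z) * bsum (ν : H → ℂ) * hd.Rsum ν =
        (if ν = Helper83.trivChar H then ((q : ℂ) - 1) * hd.Rsum ν else 0) - hd.rdef ν -
          4 / ((q : ℂ) + 1) * ((ν : H → ℂ) 1) ^ 2 := by
    intro ν
    rw [irr_central_involution ν z hz2 hzc, bsum_irr_eq ν, hHq]
    have hν1 : (ν : H → ℂ) 1 ≠ 0 := by
      rw [← Helper83.charDegree_cast (Helper83.IrrCharacter_isCharacter ν)]
      exact_mod_cast (Helper83.irr_charDegree_pos ν).ne'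
    unfold Data.aCoef Data.rdef
    by_cases hfix : hd.tauIrr ν = ν
    · rw [if_pos hfix, if_pos hfix]
      by_cases htriv : ν = Helper83.trivChar H
      · rw [if_pos htriv, if_pos htriv]
        have : (ν : H → ℂ) 1 = 1 := by rw [htriv, Helper83.trivChar_apply]
        rw [this]
        field_simp
        ring
      · rw [if_neg htriv, if_neg htriv]
        field_simp
        ring
    · rw [if_neg hfix, if_neg hfix]
      have htriv : ν ≠ Helper83.trivChar H := by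
        intro h
        apply hfix
        rw [h, hd.tauIrr_triv]
      rw [if_neg htriv, if_neg htriv, hd.Rsum_of_not_fixed ν hfix]
      field_simp
      ring
  simp only [hterm]
  rw [Finset.sum_sub_distrib, Finset.sum_sub_distrib, Finset.sum_ite_eq' Finset.univ
    (Helper83.trivChar H), if_pos (Finset.mem_univ _), ← Finset.mul_sum,
    Helper83.sum_irr_degree_sq, hHq]
  ring

/-- the class multiplication count, summed over `H ∖ 1` -/
theorem count_formula (H : Subgroup G) [Fintype H] [DecidableEq H] (z : H)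
    (cnt : H → ℕ) (hcnt : ∀ g : H, cnt g = Nat.card {p : G × G //
      IsConj (z : G) p.1 ∧ IsConj (z : G) p.2 ∧ p.1 * p.2 = (g : G)}) :
    ((∑ g : H, if g = 1 then 0 else cnt g : ℕ) : ℂ) =
      (Nat.card {x : G // IsConj (z : G) x} : ℂ) * (Nat.card {x : G // IsConj (z : G) x} : ℂ) /
        (Nat.card G : ℂ) *
      ∑ χ : IrrCharacter G, (χ : G → ℂ) z * (χ : G → ℂ) z *
        bsum (fun h : H => (χ : G → ℂ) h) / (χ : G → ℂ) 1 := by
  classical
  have h1 : ∀ g : H, ((if g = 1 then 0 else cnt g : ℕ) : ℂ) =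
      (Nat.card {x : G // IsConj (z : G) x} : ℂ) * (Nat.card {x : G // IsConj (z : G) x} : ℂ) /
        (Nat.card G : ℂ) *
      ∑ χ : IrrCharacter G, (χ : G → ℂ) z * (χ : G → ℂ) z / (χ : G → ℂ) 1 *
        (if g = 1 then 0 else conj ((χ : G → ℂ) g)) := by
    intro g
    by_cases hg : g = 1
    · simp [hg]
    · simp only [if_neg hg]
      rw [hcnt g, Cfsg.Agent.S0840.result (z : G) (z : G) (g : G),
        finsum_eq_sum_of_fintype]
      congr 1
      apply Finset.sum_congr rfl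
      intro χ _
      ring
  rw [Nat.cast_sum]
  simp only [h1]
  rw [← Finset.mul_sum, Finset.sum_comm]
  congr 1
  apply Finset.sum_congr rfl
  intro χ _
  rw [← Finset.mul_sum, ← bsum_eq]
  ring

/-- **Main theorem**: an invariant linear character of order two of `H`, extending to `G`. -/
theorem Data.main [DecidableEq H] {p f : ℕ} (hp : p.Prime) (hq : q = p ^ f) (hf : 0 < f)
    (z : H) (hz1 : z ≠ 1) (hz2 : z * z = 1) (hzc : ∀ h : H, h * z = z * h)
    (hzv : hd.tau z = z)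
    (hcls : Nat.card {x : G // IsConj (z : G) x} * 2 = q * (q + 1))
    (cnt : H → ℕ) (hcnt : ∀ g : H, cnt g = Nat.card {p : G × G //
      IsConj (z : G) p.1 ∧ IsConj (z : G) p.2 ∧ p.1 * p.2 = (g : G)})
    (hcount : (∑ g : H, if g = 1 then 0 else cnt g) * 4 = (q - 1) * (q - 3)) :
    ∃ ν : IrrCharacter H, (ν : H → ℂ) 1 = 1 ∧ ν ≠ Helper83.trivChar H ∧ hd.tauIrr ν = ν ∧
      (∀ h : H, (ν : H → ℂ) h * (ν : H → ℂ) h = 1) ∧
      ∃ ψ : IrrCharacter G, (ψ : G → ℂ) 1 = 1 ∧ ∀ h : H, h ≠ 1 → (ψ : G → ℂ) h = (ν : H → ℂ) h := by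
  classical
  have hq2 := hd.two_le_q
  -- `3 ≤ q`
  have hq3 : 3 ≤ q := by
    have h1 : 1 < Nat.card H := by
      haveI : Nontrivial H := ⟨⟨z, 1, hz1⟩⟩
      exact Finite.one_lt_card
    have := hd.hcardH
    omega
  have hqC0 : (q : ℂ) ≠ 0 := by exact_mod_cast (by omega : q ≠ 0)
  have hqC1 : (q : ℂ) + 1 ≠ 0 := by exact_mod_cast (by omega : q + 1 ≠ 0)
  have hqCm : (q : ℂ) - 1 ≠ 0 := by
    have : ((q - 1 : ℕ) : ℂ) ≠ 0 := by exact_mod_cast (by omega : q - 1 ≠ 0)
    rwa [Nat.cast_sub (by omega), Nat.cast_one] at this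
  have hr0 : rzero q ≠ 0 := by
    unfold rzero
    exact div_ne_zero (pow_ne_zero 2 hqCm) (mul_ne_zero hqC0 hqC1)
  -- the total
  have hTot := count_formula H z cnt hcnt
  rw [hd.total_eval z hz1 hz2 hzc hzv] at hTot
  have hclsC : (Nat.card {x : G // IsConj (z : G) x} : ℂ) = (q : ℂ) * ((q : ℂ) + 1) / 2 := by
    have : ((Nat.card {x : G // IsConj (z : G) x} * 2 : ℕ) : ℂ) = ((q * (q + 1) : ℕ) : ℂ) := by
      rw [hcls]
    push_cast at this
    rw [← this]; ring
  have hcountC : ((∑ g : H, if g = 1 then 0 else cnt g : ℕ) : ℂ) =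
      ((q : ℂ) - 1) * ((q : ℂ) - 3) / 4 := by
    have : (((∑ g : H, if g = 1 then 0 else cnt g) * 4 : ℕ) : ℂ) = (((q - 1) * (q - 3) : ℕ) : ℂ) := by
      rw [hcount]
    rw [Nat.cast_mul, Nat.cast_mul, Nat.cast_sub (by omega), Nat.cast_sub (by omega)] at this
    push_cast at this ⊢
    rw [← this]; ring
  have hGC : (Nat.card G : ℂ) = ((q : ℂ) + 1) * (q : ℂ) * ((q : ℂ) - 1) := by
    rw [hd.card_G_eq]
    rw [Nat.cast_mul, Nat.cast_mul, Nat.cast_sub (by omega)]
    push_cast; ring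
  rw [hcountC, hclsC, hGC] at hTot
  -- the trivial character is of type A
  have htrivdeg : charDegree ((Helper83.trivChar H : IrrCharacter H) : H → ℂ) = 1 :=
    Helper83.charDegree_trivChar
  have htrivA : hd.TypeA (Helper83.trivChar H) :=
    hd.typeA_of_linear hp hq hf _ hd.tauIrr_triv htrivdeg
  have hrtriv : hd.rdef (Helper83.trivChar H) = rzero q := by
    rw [hd.rdef_eq hp hq hf, if_pos htrivA, htrivdeg]; simp
  -- `Rsum triv`
  have hRtriv : hd.Rsum (Helper83.trivChar H) = ((q : ℂ) + 1) / (q : ℂ) := by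
    have h1 := hrtriv
    unfold Data.rdef at h1
    rw [if_pos hd.tauIrr_triv, Helper83.trivChar_apply] at h1
    unfold rzero at h1
    have h2 : hd.Rsum (Helper83.trivChar H) =
        ((q : ℂ) - 1) ^ 2 / ((q : ℂ) * ((q : ℂ) + 1)) + 4 / ((q : ℂ) + 1) := by
      linear_combination h1
    rw [h2]
    field_simp
    ring
  rw [hRtriv] at hTot
  -- the sum of the defects
  have hsumr : ∑ ν : IrrCharacter H, hd.rdef ν = 2 * rzero q := by
    unfold rzero
    have h3 : ∑ ν : IrrCharacter H, hd.rdef ν =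
        ((q : ℂ) - 1) * (((q : ℂ) + 1) / (q : ℂ)) - 4 * ((q : ℂ) - 1) / ((q : ℂ) + 1) -
          ((q : ℂ) - 1) * ((q : ℂ) - 3) / 4 /
            ((q : ℂ) * ((q : ℂ) + 1) / 2 * ((q : ℂ) * ((q : ℂ) + 1) / 2) /
              (((q : ℂ) + 1) * (q : ℂ) * ((q : ℂ) - 1))) := by
      have hκ : (q : ℂ) * ((q : ℂ) + 1) / 2 * ((q : ℂ) * ((q : ℂ) + 1) / 2) /
          (((q : ℂ) + 1) * (q : ℂ) * ((q : ℂ) - 1)) ≠ 0 := by
        apply div_ne_zero
        · apply mul_ne_zero <;> exact div_ne_zero (mul_ne_zero hqC0 hqC1) two_ne_zero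
        · exact mul_ne_zero (mul_ne_zero hqC1 hqC0) hqCm
      rw [hTot]
      field_simp
      ring
    rw [h3]
    field_simp
    ring
  -- in terms of type A
  have hsumA : ∑ ν : IrrCharacter H,
      (if hd.TypeA ν then ((charDegree (ν : H → ℂ) : ℂ)) ^ 2 * rzero q else 0) = 2 * rzero q := by
    rw [← hsumr]
    apply Finset.sum_congr rfl
    intro ν _
    rw [hd.rdef_eq hp hq hf]
  have hsumN : ∑ ν : IrrCharacter H, (if hd.TypeA ν then charDegree (ν : H → ℂ) ^ 2 else 0) = 2 := by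
    have h4 : (((∑ ν : IrrCharacter H,
        (if hd.TypeA ν then charDegree (ν : H → ℂ) ^ 2 else 0) : ℕ)) : ℂ) * rzero q =
        2 * rzero q := by
      rw [← hsumA]
      push_cast
      rw [Finset.sum_mul]
      apply Finset.sum_congr rfl
      intro ν _
      by_cases hA : hd.TypeA ν
      · rw [if_pos hA, if_pos hA]
      · rw [if_neg hA, if_neg hA, zero_mul]
    have h5 := mul_right_cancel₀ hr0 h4
    exact_mod_cast h5
  -- split off the trivial character
  have hsplit := Finset.add_sum_erase Finset.univ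
    (fun ν : IrrCharacter H => if hd.TypeA ν then charDegree (ν : H → ℂ) ^ 2 else 0)
    (Finset.mem_univ (Helper83.trivChar H))
  rw [hsumN] at hsplit
  simp only [if_pos htrivA, htrivdeg, one_pow] at hsplit
  have hrest : ∑ ν ∈ Finset.univ.erase (Helper83.trivChar H),
      (if hd.TypeA ν then charDegree (ν : H → ℂ) ^ 2 else 0) = 1 := by omega
  -- the special character
  have hex : ∃ ν ∈ Finset.univ.erase (Helper83.trivChar H), hd.TypeA ν := by
    by_contra hne
    push Not at hne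
    have : ∑ ν ∈ Finset.univ.erase (Helper83.trivChar H),
        (if hd.TypeA ν then charDegree (ν : H → ℂ) ^ 2 else 0) = 0 :=
      Finset.sum_eq_zero (fun ν hν => by rw [if_neg (hne ν hν)])
    omega
  obtain ⟨ν₁, hν₁mem, hν₁A⟩ := hex
  have hν₁triv : ν₁ ≠ Helper83.trivChar H := Finset.ne_of_mem_erase hν₁mem
  have hsplit2 := Finset.add_sum_erase (Finset.univ.erase (Helper83.trivChar H))
    (fun ν : IrrCharacter H => if hd.TypeA ν then charDegree (ν : H → ℂ) ^ 2 else 0) hν₁mem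
  rw [hrest] at hsplit2
  simp only [if_pos hν₁A] at hsplit2
  have hν₁pos := Helper83.irr_charDegree_pos ν₁
  have hν₁deg : charDegree (ν₁ : H → ℂ) = 1 := by
    have h6 : charDegree (ν₁ : H → ℂ) ^ 2 ≤ 1 := by omega
    have : charDegree (ν₁ : H → ℂ) ≤ 1 := by
      by_contra hh
      push Not at hh
      have : 2 ^ 2 ≤ charDegree (ν₁ : H → ℂ) ^ 2 := Nat.pow_le_pow_left hh 2
      omega
    omega
  have hothers : ∀ ν : IrrCharacter H, ν ≠ Helper83.trivChar H → ν ≠ ν₁ → ¬ hd.TypeA ν := by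
    intro ν hνt hνν₁ hA
    rw [hν₁deg, one_pow] at hsplit2
    have h7 : ∑ x ∈ (Finset.univ.erase (Helper83.trivChar H)).erase ν₁,
        (if hd.TypeA x then charDegree (x : H → ℂ) ^ 2 else 0) = 0 := by omega
    have h8 := (Finset.sum_eq_zero_iff.1 h7) ν
      (Finset.mem_erase.2 ⟨hνν₁, Finset.mem_erase.2 ⟨hνt, Finset.mem_univ _⟩⟩)
    rw [if_pos hA] at h8
    have := Helper83.irr_charDegree_pos ν
    have : 0 < charDegree (ν : H → ℂ) ^ 2 := pow_pos this 2
    omega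
  have hν₁one : (ν₁ : H → ℂ) 1 = 1 := by
    rw [← Helper83.charDegree_cast (Helper83.IrrCharacter_isCharacter ν₁), hν₁deg]; simp
  -- order two
  obtain ⟨φ, hφ⟩ := Helper20.exists_hom_of_linear (Helper83.IrrCharacter_isCharacter ν₁) hν₁one
  have hφv : ∀ h : H, (ν₁ : H → ℂ) h = ((φ h : ℂˣ) : ℂ) := by
    intro h; rw [← hφ]; rfl
  let μ : IrrCharacter H := ⟨fun h => (((φ * φ) h : ℂˣ) : ℂ), Helper83.isIrrCharacter_of_hom (φ * φ)⟩
  have hμv : ∀ h : H, (μ : H → ℂ) h = (ν₁ : H → ℂ) h * (ν₁ : H → ℂ) h := by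
    intro h
    show (((φ * φ) h : ℂˣ) : ℂ) = _
    rw [hφv, MonoidHom.mul_apply, Units.val_mul]
  have hμfix : hd.tauIrr μ = μ := by
    apply Subtype.ext
    funext h
    rw [hd.tauIrr_apply, hμv, hμv]
    have := congrFun (congrArg Subtype.val hν₁A.1) h
    rw [hd.tauIrr_apply] at this
    rw [this]
  have hμdeg : charDegree (μ : H → ℂ) = 1 := by
    have h9 : (μ : H → ℂ) 1 = 1 := by rw [hμv, hν₁one, mul_one]
    have h10 := Helper83.charDegree_cast (Helper83.IrrCharacter_isCharacter μ)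
    rw [h9] at h10
    exact_mod_cast h10
  have hμA : hd.TypeA μ := hd.typeA_of_linear hp hq hf μ hμfix hμdeg
  have hμtriv : μ = Helper83.trivChar H := by
    by_contra hne
    have hμν₁ : μ = ν₁ := by
      by_contra hne2
      exact hothers μ hne hne2 hμA
    apply hν₁triv
    apply Subtype.ext
    funext h
    rw [Helper83.trivChar_apply]
    have h11 := hμv h
    rw [hμν₁] at h11
    have hne0 : (ν₁ : H → ℂ) h ≠ 0 := by rw [hφv]; exact Units.ne_zero _
    have h12 : (ν₁ : H → ℂ) h * 1 = (ν₁ : H → ℂ) h * (ν₁ : H → ℂ) h := by rw [mul_one]; exact h11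
    exact (mul_left_cancel₀ hne0 h12).symm
  obtain ⟨hν₁fix, ψ, hψm, hψd⟩ := hν₁A
  refine ⟨ν₁, hν₁one, hν₁triv, hν₁fix, ?_, ψ, ?_, ?_⟩
  · intro h
    rw [← hμv, hμtriv, Helper83.trivChar_apply]
  · rw [← Helper83.charDegree_cast (Helper83.IrrCharacter_isCharacter ψ), hψd, hν₁deg]; simp
  · intro h h1
    exact hd.typeA_values hν₁fix hψm h h1

end main

end Cfsg.Agent.Lib.Helper17.PS
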