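import Mathlib
import Cfsg.Prelude.Def_Characters
import Cfsg.Agent.S0157
import Cfsg.Agent.S0669
import Cfsg.Agent.Lib.Helper83.Decompose
import Cfsg.Agent.Lib.Helper83.SecondOrth

set_option autoImplicit false

namespace Cfsg.Agent.Lib.Helper17

open MulAction Cfsg

section OrbitSide

variable {H : Type*} [Group H] {Ω : Type*} [Fintype Ω] [DecidableEq Ω] [MulAction H Ω]

/-- Size of the fibre of the orbit map. -/
noncomputable def orbSize (q : orbitRel.Quotient H Ω) : ℕ := by
  classical
  exact (Finset.univ.filter (fun x : Ω => (Quotient.mk'' x : orbitRel.Quotient H Ω) = q)).card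

omit [DecidableEq Ω] in
theorem orbSize_mk (b : Ω) :
    orbSize (Quotient.mk'' b : orbitRel.Quotient H Ω) = Nat.card (orbit H b) := by
  classical
  unfold orbSize
  rw [Nat.card_eq_fintype_card, Fintype.card_subtype]
  congr 1
  ext x
  simp only [Finset.mem_filter, Finset.mem_univ, true_and]
  rw [Quotient.eq'']
  rfl

omit [DecidableEq Ω] in
theorem sum_orbSize [Fintype (orbitRel.Quotient H Ω)] :
    ∑ q : orbitRel.Quotient H Ω, orbSize q = Fintype.card Ω := by
  classical
  unfold orbSize
  rw [← Finset.card_univ]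
  symm
  exact Finset.card_eq_sum_card_fiberwise (fun x _ => Finset.mem_univ _)

omit [DecidableEq Ω] in
/-- If `a` is a fixed point and `f` divides the size of all other orbits then
`1 + (r - 1) f ≤ |Ω|`, with equality only if all other orbits have size `f`. -/
theorem orbit_count (a : Ω) (ha : ∀ h : H, h • a = a) (f : ℕ)
    (hf : ∀ b : Ω, b ≠ a → f ∣ Nat.card (orbit H b)) :
    1 + (Nat.card (orbitRel.Quotient H Ω) - 1) * f ≤ Nat.card Ω ∧
    (1 + (Nat.card (orbitRel.Quotient H Ω) - 1) * f = Nat.card Ω →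
      ∀ b : Ω, b ≠ a → Nat.card (orbit H b) = f) := by
  classical
  have : Fintype (orbitRel.Quotient H Ω) := Fintype.ofFinite _
  set qa : orbitRel.Quotient H Ω := Quotient.mk'' a with hqa
  have horb_a : orbit H a = {a} := by
    ext x
    simp only [mem_orbit_iff, Set.mem_singleton_iff]
    constructor
    · rintro ⟨h, rfl⟩
      exact ha h
    · rintro rfl
      exact ⟨1, one_smul _ _⟩
  have hne : ∀ b : Ω, b ≠ a → (Quotient.mk'' b : orbitRel.Quotient H Ω) ≠ qa := by
    intro b hb h
    rw [hqa, Quotient.eq''] at h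
    have : b ∈ orbit H a := h
    rw [horb_a] at this
    exact hb this
  have hqa1 : orbSize qa = 1 := by
    rw [hqa, orbSize_mk, horb_a]
    simp
  have hle : ∀ q ∈ Finset.univ.erase qa, f ≤ orbSize q := by
    intro q hq
    induction q using Quotient.inductionOn' with
    | h b =>
      have hb : b ≠ a := by
        rintro rfl
        exact (Finset.ne_of_mem_erase hq) rfl
      rw [orbSize_mk]
      apply Nat.le_of_dvd _ (hf b hb)
      have : Nonempty (orbit H b) := ⟨⟨b, mem_orbit_self b⟩⟩
      exact Nat.card_pos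
  have htot : Nat.card Ω = 1 + ∑ q ∈ Finset.univ.erase qa, orbSize q := by
    rw [Nat.card_eq_fintype_card, ← sum_orbSize (H := H),
      ← Finset.add_sum_erase _ _ (Finset.mem_univ qa), hqa1]
  have hcard : (Finset.univ.erase qa).card = Nat.card (orbitRel.Quotient H Ω) - 1 := by
    rw [Finset.card_erase_of_mem (Finset.mem_univ _), Finset.card_univ, Nat.card_eq_fintype_card]
  have hconst : ∑ _q ∈ Finset.univ.erase qa, f = (Nat.card (orbitRel.Quotient H Ω) - 1) * f := by
    rw [Finset.sum_const, hcard, smul_eq_mul]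
  constructor
  · rw [htot, ← hconst]
    exact Nat.add_le_add_left (Finset.sum_le_sum hle) 1
  · intro heq b hb
    rw [htot, ← hconst] at heq
    have heq' : ∑ _q ∈ Finset.univ.erase qa, f = ∑ q ∈ Finset.univ.erase qa, orbSize q :=
      Nat.add_left_cancel heq
    have := (Finset.sum_eq_sum_iff_of_le hle).mp heq' (Quotient.mk'' b)
      (Finset.mem_erase.mpr ⟨hne b hb, Finset.mem_univ _⟩)
    rw [← orbSize_mk, ← this]

end OrbitSide

section CharSide

open Cfsg.Agent.Lib.Helper83
open scoped ComplexConjugate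

variable {G : Type*} [Group G] [Fintype G] {Ω : Type*} [Fintype Ω] [MulAction G Ω]
  [IsPretransitive G Ω]

theorem isCharacter_perm (a : Ω) :
    IsCharacter G (fun g : G => (Nat.card (fixedBy Ω g) : ℂ)) := by
  have : Nonempty Ω := ⟨a⟩
  exact Cfsg.Agent.S0157.isCharacter_permChar (G := G) Ω

/-- The multiplicities of the irreducible constituents of a transitive permutation character. -/
theorem perm_mult_facts (a : Ω) [Fintype (IrrCharacter G)] :
    ∃ m : IrrCharacter G → ℕ,
      (∀ ψ : IrrCharacter G, (m ψ : ℂ) =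
        classInner (fun g : G => (Nat.card (fixedBy Ω g) : ℂ)) (ψ : G → ℂ)) ∧
      m (trivChar G) = 1 ∧
      ∑ ψ, (m ψ) ^ 2 = Nat.card (orbitRel.Quotient (stabilizer G a) Ω) ∧
      (Nat.card Ω : ℂ) = ∑ ψ : IrrCharacter G, (m ψ : ℂ) * (ψ : G → ℂ) 1 := by
  have hπ := isCharacter_perm (G := G) a
  refine ⟨irrMult (fun g : G => (Nat.card (fixedBy Ω g) : ℂ)), fun ψ => irrMult_cast hπ ψ,
    ?_, ?_, ?_⟩
  · have h1 := irrMult_cast hπ (trivChar G)
    have h2 := Cfsg.Agent.S0157.classInner_permChar_one (G := G) Ω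
    unfold Cfsg.Agent.S0157.permChar at h2
    have h3 : ((trivChar G : IrrCharacter G) : G → ℂ) = fun _ => 1 := rfl
    rw [h3, h2] at h1
    have : Nonempty Ω := ⟨a⟩
    obtain ⟨hu⟩ := (pretransitive_iff_unique_quotient_of_nonempty G Ω).mp inferInstance
    rw [Nat.card_unique] at h1
    exact_mod_cast h1
  · have h1 := Cfsg.Agent.S0157.classInner_permChar_self (G := G) Ω
    unfold Cfsg.Agent.S0157.permChar at h1
    rw [Cfsg.Agent.S0669.result a] at h1
    have h2 := char_eq_sum_irrMult hπ
    rw [h2, classInner_sum_irr_self] at h1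
    have h3 : ∀ ψ : IrrCharacter G,
        (irrMult (fun g : G => (Nat.card (fixedBy Ω g) : ℂ)) ψ : ℂ) *
          conj (irrMult (fun g : G => (Nat.card (fixedBy Ω g) : ℂ)) ψ : ℂ) =
        ((irrMult (fun g : G => (Nat.card (fixedBy Ω g) : ℂ)) ψ ^ 2 : ℕ) : ℂ) := by
      intro ψ
      rw [Complex.conj_natCast, Nat.cast_pow, pow_two]
    simp only [h3] at h1
    rw [← Nat.cast_sum] at h1
    exact_mod_cast h1
  · have h2 := congrFun (char_eq_sum_irrMult hπ) 1
    simp only [Finset.sum_apply, Pi.smul_apply, smul_eq_mul] at h2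
    rw [← h2]
    congr 1
    rw [fixedBy_one_eq_univ, Nat.card_congr (Equiv.Set.univ Ω)]

end CharSide

end Cfsg.Agent.Lib.Helper17
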