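import Mathlib
import Cfsg.Prelude.Def_Characters
import Cfsg.Agent.S0190
import Cfsg.Agent.Lib.Helper79.PermFS
import Cfsg.Agent.Lib.Helper83.SecondOrth
import Cfsg.Agent.Lib.Helper17.Hecke

set_option autoImplicit false

namespace Cfsg.Agent.Lib.Helper17

open MulAction Cfsg

section PermTau

variable {G : Type*} [Group G] [Fintype G] {Ω : Type*} [Fintype Ω] [DecidableEq Ω]
  [MulAction G Ω]

/-- `τ_χ(A) = |H|⁻¹ ∑_g A(a, g a) χ(g)`, the eigenvalue-sum of the intersection matrix `A` on the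
`χ`-part of the permutation module. -/
noncomputable def tau (a : Ω) (A : Matrix Ω Ω ℤ) (χ : G → ℂ) : ℂ :=
  (Nat.card (stabilizer G a) : ℂ)⁻¹ * ∑ g : G, (A a (g • a) : ℂ) * χ g

variable [IsPretransitive G Ω]

theorem isIntegral_tau_char (a : Ω) (A : Matrix Ω Ω ℤ)
    (hA : ∀ (g : G) (y w : Ω), A (g • y) (g • w) = A y w) {χ : G → ℂ} (hχ : IsCharacter G χ) :
    IsIntegral ℤ (tau a A χ) := by
  obtain ⟨n, ρ, rfl⟩ := hχ
  exact isIntegral_tau ρ a A hA

/-- The multiplicity of an irreducible character in the permutation character is the average of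
the character over the point stabiliser. -/
theorem classInner_perm_eq (a : Ω) (χ : G → ℂ) (hχ : IsIrrCharacter G χ) :
    classInner (fun g : G => (Nat.card (fixedBy Ω g) : ℂ)) χ =
      (Nat.card (stabilizer G a) : ℂ)⁻¹ *
        ∑ g ∈ Finset.univ.filter (fun g : G => g • a = a), χ g := by
  rw [Cfsg.Agent.S0190.result Ω a]
  letI : Fintype (stabilizer G a) := Fintype.ofFinite _
  have h := Cfsg.Agent.Lib.Helper79.classInner_permChar (stabilizer G a) ⟨χ, hχ⟩
  unfold Cfsg.Agent.Lib.Helper79.permChar at h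
  rw [h]
  congr 1
  symm
  apply Finset.sum_subtype
  intro g
  simp [mem_stabilizer_iff]

theorem tau_eq_zero_of_classInner (a : Ω) (A : Matrix Ω Ω ℤ)
    (hA : ∀ (g : G) (y w : Ω), A (g • y) (g • w) = A y w) {χ : G → ℂ} (hχ : IsIrrCharacter G χ)
    (h : classInner (fun g : G => (Nat.card (fixedBy Ω g) : ℂ)) χ = 0) : tau a A χ = 0 := by
  rw [classInner_perm_eq a χ hχ] at h
  have h0 : ∑ g ∈ Finset.univ.filter (fun g : G => g • a = a), χ g = 0 := by
    rcases mul_eq_zero.mp h with h | h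
    · exact absurd (inv_eq_zero.mp h) (card_stabilizer_ne_zero a)
    · exact h
  obtain ⟨n, ρ, -, rfl⟩ := hχ
  exact tau_eq_zero ρ a A hA h0

theorem tau_one (a : Ω) (A : Matrix Ω Ω ℤ) :
    tau a A (fun _ : G => (1 : ℂ)) = ∑ w, (A a w : ℂ) := by
  unfold tau
  simp only [mul_one]
  rw [← Finset.sum_fiberwise Finset.univ (fun g : G => g • a) _]
  have h1 : ∀ w, ∑ g ∈ Finset.univ.filter (fun g : G => g • a = w), (A a (g • a) : ℂ) =
      (Nat.card (stabilizer G a) : ℂ) * (A a w : ℂ) := by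
    intro w
    rw [Finset.sum_congr rfl (fun g hg => by rw [(Finset.mem_filter.mp hg).2] :
      ∀ g ∈ Finset.univ.filter (fun g : G => g • a = w), (A a (g • a) : ℂ) = (A a w : ℂ))]
    rw [Finset.sum_const, card_fiber a w, nsmul_eq_mul]
  simp only [h1]
  rw [← Finset.mul_sum, ← mul_assoc, inv_mul_cancel₀ (card_stabilizer_ne_zero a), one_mul]

omit [Fintype G] [Fintype Ω] [DecidableEq Ω] in
theorem card_eq_card_mul_card_stabilizer (a : Ω) :
    (Nat.card G : ℂ) = (Nat.card Ω : ℂ) * (Nat.card (stabilizer G a) : ℂ) := by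
  rw [← index_stabilizer_of_transitive G a, ← Nat.cast_mul, mul_comm, Subgroup.card_mul_index]

theorem sum_degree_mul_tau [Fintype (IrrCharacter G)] (a : Ω) (A : Matrix Ω Ω ℤ) :
    ∑ χ : IrrCharacter G, (χ : G → ℂ) 1 * tau a A (χ : G → ℂ) = (Nat.card Ω : ℂ) * (A a a : ℂ) := by
  classical
  unfold tau
  have h1 : ∀ χ : IrrCharacter G, (χ : G → ℂ) 1 *
      ((Nat.card (stabilizer G a) : ℂ)⁻¹ * ∑ g : G, (A a (g • a) : ℂ) * (χ : G → ℂ) g) =
      ∑ g : G, (Nat.card (stabilizer G a) : ℂ)⁻¹ * (A a (g • a) : ℂ) *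
        ((χ : G → ℂ) 1 * (χ : G → ℂ) g) := by
    intro χ
    rw [mul_left_comm, Finset.mul_sum, Finset.mul_sum]
    apply Finset.sum_congr rfl
    intro g _
    ring
  simp only [h1]
  rw [Finset.sum_comm]
  simp only [← Finset.mul_sum, Cfsg.Agent.Lib.Helper83.sum_irr_degree_mul]
  simp only [mul_ite, mul_zero]
  rw [Finset.sum_ite_eq' Finset.univ (1 : G), if_pos (Finset.mem_univ _), one_smul,
    card_eq_card_mul_card_stabilizer (G := G) a]
  have := card_stabilizer_ne_zero (G := G) a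
  field_simp

end PermTau

/-- A natural number which is `f` times an algebraic integer is divisible by `f`. -/
theorem nat_dvd_of_eq_mul_isIntegral {n f : ℕ} {z : ℂ} (hz : IsIntegral ℤ z)
    (h : (n : ℂ) = (f : ℂ) * z) : f ∣ n := by
  rcases Nat.eq_zero_or_pos f with hf | hf
  · subst hf
    rw [Nat.cast_zero, zero_mul] at h
    have : n = 0 := by exact_mod_cast h
    rw [this]
  · have hf' : (f : ℂ) ≠ 0 := by exact_mod_cast hf.ne'
    have hz' : z = (((n : ℚ) / (f : ℚ) : ℚ) : ℂ) := by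
      push_cast
      rw [h]
      field_simp
    rw [hz'] at hz
    have h1 : IsIntegral ℤ ((n : ℚ) / (f : ℚ) : ℚ) := by
      have := (isIntegral_algebraMap_iff (R := ℤ) (A := ℚ) (B := ℂ)
        (algebraMap ℚ ℂ).injective (x := ((n : ℚ) / (f : ℚ) : ℚ))).1
      exact this (by simpa using hz)
    obtain ⟨k, hk⟩ := IsIntegrallyClosed.isIntegral_iff.1 h1
    have hf'' : (f : ℚ) ≠ 0 := by exact_mod_cast hf.ne'
    have h2 : (n : ℚ) = (f : ℚ) * (k : ℚ) := by
      have : ((k : ℤ) : ℚ) = (n : ℚ) / (f : ℚ) := by simpa using hk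
      rw [this]
      field_simp
    have h3 : (n : ℤ) = (f : ℤ) * k := by exact_mod_cast h2
    have h4 : (f : ℤ) ∣ (n : ℤ) := ⟨k, h3⟩
    exact_mod_cast h4

end Cfsg.Agent.Lib.Helper17
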