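import Mathlib
import Cfsg.Prelude.Def_Characters
import Cfsg.Agent.Lib.Helper17.PermTau
import Cfsg.Agent.Lib.Helper17.Hecke2

set_option autoImplicit false

namespace Cfsg.Agent.Lib.Helper17

open MulAction Cfsg
open scoped ComplexConjugate

section PermSigma

variable {G : Type*} [Group G] [Fintype G] {Ω : Type*} [Fintype Ω] [DecidableEq Ω]
  [MulAction G Ω]

/-- `σ_χ(A, k) = |H|⁻¹ ∑_g A(a, g a) χ(g k)`. -/
noncomputable def sigma (a : Ω) (A : Matrix Ω Ω ℤ) (χ : G → ℂ) (k : G) : ℂ :=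
  (Nat.card (stabilizer G a) : ℂ)⁻¹ * ∑ g : G, (A a (g • a) : ℂ) * χ (g * k)

variable [IsPretransitive G Ω]

omit [Fintype Ω] [DecidableEq Ω] in
theorem sum_degree_mul_sigma [Fintype (IrrCharacter G)] (a : Ω) (A : Matrix Ω Ω ℤ) (k : G) :
    ∑ χ : IrrCharacter G, (χ : G → ℂ) 1 * sigma a A (χ : G → ℂ) k =
      (Nat.card Ω : ℂ) * (A a (k⁻¹ • a) : ℂ) := by
  classical
  unfold sigma
  have h1 : ∀ χ : IrrCharacter G, (χ : G → ℂ) 1 *
      ((Nat.card (stabilizer G a) : ℂ)⁻¹ * ∑ g : G, (A a (g • a) : ℂ) * (χ : G → ℂ) (g * k)) =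
      ∑ g : G, (Nat.card (stabilizer G a) : ℂ)⁻¹ * (A a (g • a) : ℂ) *
        ((χ : G → ℂ) 1 * (χ : G → ℂ) (g * k)) := by
    intro χ
    rw [mul_left_comm, Finset.mul_sum, Finset.mul_sum]
    apply Finset.sum_congr rfl
    intro g _
    ring
  simp only [h1]
  rw [Finset.sum_comm]
  simp only [← Finset.mul_sum, Cfsg.Agent.Lib.Helper83.sum_irr_degree_mul]
  simp only [mul_ite, mul_zero]
  have h2 : ∀ g : G, (g * k = 1) ↔ (g = k⁻¹) := fun g => mul_eq_one_iff_eq_inv
  simp only [h2]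
  rw [Finset.sum_ite_eq' Finset.univ (k⁻¹ : G), if_pos (Finset.mem_univ _),
    card_eq_card_mul_card_stabilizer (G := G) a]
  have := card_stabilizer_ne_zero (G := G) a
  field_simp

omit [Fintype Ω] [DecidableEq Ω] [IsPretransitive G Ω] in
theorem tau_transpose (a : Ω) (A : Matrix Ω Ω ℤ)
    (hA : ∀ (g : G) (y w : Ω), A (g • y) (g • w) = A y w) {χ : G → ℂ} (hχ : IsCharacter G χ)
    (hreal : ∀ g : G, conj (χ g) = χ g) : tau a A.transpose χ = tau a A χ := by
  unfold tau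
  congr 1
  rw [← Equiv.sum_comp (Equiv.inv G)]
  apply Finset.sum_congr rfl
  intro g _
  rw [Equiv.inv_apply, Matrix.transpose_apply, Cfsg.Agent.Lib.Helper83.char_inv hχ, hreal]
  congr 2
  rw [← hA g (g⁻¹ • a) a, smul_inv_smul]

theorem sigma_transpose_eq (a : Ω) (A : Matrix Ω Ω ℤ)
    (hA : ∀ (g : G) (y w : Ω), A (g • y) (g • w) = A y w) {χ : G → ℂ} (hχ : IsIrrCharacter G χ)
    (hm : classInner (fun g : G => (Nat.card (fixedBy Ω g) : ℂ)) χ = 0 ∨
      classInner (fun g : G => (Nat.card (fixedBy Ω g) : ℂ)) χ = 1)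
    (hreal : classInner (fun g : G => (Nat.card (fixedBy Ω g) : ℂ)) χ ≠ 0 →
      ∀ g : G, conj (χ g) = χ g) (k : G) :
    sigma a A.transpose χ k = sigma a A χ k := by
  have hAt : ∀ (g : G) (y w : Ω), A.transpose (g • y) (g • w) = A.transpose y w := by
    intro g y w
    rw [Matrix.transpose_apply, Matrix.transpose_apply, hA]
  have hχc : IsCharacter G χ := let ⟨n, ρ, _, h⟩ := hχ; ⟨n, ρ, h⟩
  have hinner := classInner_perm_eq a χ hχ
  obtain ⟨n, ρ, -, rfl⟩ := hχ
  have htr : LinearMap.trace ℂ _ (heckeE ρ a a) =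
      classInner (fun g : G => (Nat.card (fixedBy Ω g) : ℂ)) ρ.character := by
    rw [hinner, trace_heckeE]
  have hs : ∀ B : Matrix Ω Ω ℤ, sigma a B ρ.character k =
      LinearMap.trace ℂ _ (heckeT ρ a B * ρ k) := by
    intro B
    rw [trace_heckeT_mul_rho]
    rfl
  rw [hs, hs]
  rcases hm with hm | hm
  · rw [hm] at htr
    rw [heckeT_eq_zero_of_trace_zero ρ a A hA htr,
      heckeT_eq_zero_of_trace_zero ρ a A.transpose hAt htr]
  · have hreal' := hreal (by rw [hm]; exact one_ne_zero)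
    rw [hm] at htr
    rw [heckeT_eq_trace_smul ρ a A hA htr, heckeT_eq_trace_smul ρ a A.transpose hAt htr,
      trace_heckeT, trace_heckeT]
    have := tau_transpose a A hA hχc hreal'
    unfold tau at this
    rw [this]

end PermSigma

end Cfsg.Agent.Lib.Helper17
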