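import Mathlib
import Cfsg.Prelude.Def_Characters
import Cfsg.Agent.Lib.Helper17.PermSigma
import Cfsg.Agent.Lib.Helper80.GaloisValues
import Cfsg.Agent.Lib.Helper05.CharValues

set_option autoImplicit false

namespace Cfsg.Agent.Lib.Helper17

open MulAction Cfsg
open scoped ComplexConjugate

section HeckeMul

variable {G : Type*} [Group G] [Fintype G] {Ω : Type*} [Fintype Ω] [DecidableEq Ω]
  [MulAction G Ω] {V : Type*} [AddCommGroup V] [Module ℂ V] (ρ : Representation ℂ G V) (a : Ω)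

theorem heckeT_mul [IsPretransitive G Ω] (A B : Matrix Ω Ω ℤ)
    (hB : ∀ (g : G) (y w : Ω), B (g • y) (g • w) = B y w) :
    heckeT ρ a A * heckeT ρ a B = heckeT ρ a (A * B) := by
  conv_lhs => arg 1; rw [heckeT]
  rw [Finset.sum_mul]
  have h1 : ∀ w, A a w • heckeE ρ a w * heckeT ρ a B =
      ∑ z, (A a w * B w z) • heckeE ρ a z := by
    intro w
    rw [smul_mul_assoc, heckeT, heckeE_mul_sum ρ a B hB w, Finset.smul_sum]
    apply Finset.sum_congr rfl
    intro z _
    rw [smul_smul]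
  simp only [h1]
  rw [Finset.sum_comm]
  unfold heckeT
  apply Finset.sum_congr rfl
  intro z _
  rw [← Finset.sum_smul, Matrix.mul_apply]

end HeckeMul

section TauMul

variable {G : Type*} [Group G] [Fintype G] {Ω : Type*} [Fintype Ω] [DecidableEq Ω]
  [MulAction G Ω] [IsPretransitive G Ω]

/-- On a constituent of multiplicity one, `τ` is multiplicative. -/
theorem tau_mul (a : Ω) (A B : Matrix Ω Ω ℤ)
    (hA : ∀ (g : G) (y w : Ω), A (g • y) (g • w) = A y w)
    (hB : ∀ (g : G) (y w : Ω), B (g • y) (g • w) = B y w) {χ : G → ℂ} (hχ : IsIrrCharacter G χ)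
    (h1 : classInner (fun g : G => (Nat.card (fixedBy Ω g) : ℂ)) χ = 1) :
    tau a (A * B) χ = tau a A χ * tau a B χ := by
  have hinner := classInner_perm_eq a χ hχ
  obtain ⟨n, ρ, -, rfl⟩ := hχ
  have htr : LinearMap.trace ℂ _ (heckeE ρ a a) = 1 := by
    rw [trace_heckeE, ← hinner, h1]
  have ht : ∀ C : Matrix Ω Ω ℤ, tau a C ρ.character = LinearMap.trace ℂ _ (heckeT ρ a C) := by
    intro C
    rw [trace_heckeT]
    rfl
  rw [ht, ht, ht, ← heckeT_mul ρ a A B hB]
  conv_lhs => rw [heckeT_eq_trace_smul ρ a A hA htr, heckeT_eq_trace_smul ρ a B hB htr]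
  rw [smul_mul_smul_comm, heckeE_idem, map_smul, htr, smul_eq_mul, mul_one]

omit [Fintype G] [DecidableEq Ω] in
theorem row_sum_const (a : Ω) (A : Matrix Ω Ω ℤ)
    (hA : ∀ (g : G) (y w : Ω), A (g • y) (g • w) = A y w) (z : Ω) :
    ∑ w, A z w = ∑ w, A a w := by
  obtain ⟨g, rfl⟩ := exists_smul_eq G a z
  rw [← Equiv.sum_comp (MulAction.toPerm g)]
  apply Finset.sum_congr rfl
  intro w _
  exact hA g a w

omit [Fintype G] [DecidableEq Ω] in
theorem row_sum_mul (a : Ω) (A B : Matrix Ω Ω ℤ)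
    (hB : ∀ (g : G) (y w : Ω), B (g • y) (g • w) = B y w) :
    ∑ w, (A * B) a w = (∑ w, A a w) * (∑ w, B a w) := by
  simp only [Matrix.mul_apply]
  rw [Finset.sum_comm, Finset.sum_mul]
  apply Finset.sum_congr rfl
  intro z _
  rw [← Finset.mul_sum, row_sum_const a B hB z]

end TauMul

section Rational

variable {G : Type*} [Group G] [Fintype G]

/-- A character value invariant under all coprime power maps is rational. -/
theorem char_rat_of_pow_invariant {χ : G → ℂ} (hχ : IsCharacter G χ) (g : G)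
    (hg : ∀ m : ℕ, m.Coprime (Nat.card G) → χ (g ^ m) = χ g) :
    ∃ q : ℚ, χ g = (q : ℂ) := by
  obtain ⟨d, ρ, rfl⟩ := hχ
  obtain ⟨b, μ, hμ, -, hk', -⟩ :=
    Cfsg.Agent.Lib.Helper05.exists_eigenvalues ρ g (isOfFinOrder_of_finite g)
  have h1 := hk' 1
  simp only [pow_one] at h1
  have hμn : ∀ i, μ i ^ Nat.card G = 1 := by
    intro i
    obtain ⟨m, hm⟩ := orderOf_dvd_natCard g
    rw [hm, pow_mul, hμ, one_pow]
  obtain ⟨q, hq⟩ := Cfsg.Agent.Lib.Helper80.exists_rat_of_pow_invariant (Nat.card G)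
    Nat.card_pos μ hμn (by
      intro m hm
      rw [← hk' m, ← h1]
      exact hg m hm)
  exact ⟨q, by rw [h1, hq]⟩

variable {Ω : Type*} [Fintype Ω] [DecidableEq Ω] [MulAction G Ω]

omit [Fintype G] [Fintype Ω] [DecidableEq Ω] in
theorem fixedBy_pow_coprime [Finite G] (g : G) (k : ℕ) (hk : k.Coprime (Nat.card G)) :
    fixedBy Ω (g ^ k) = fixedBy Ω g := by
  apply Set.Subset.antisymm
  · intro x hx
    have h2 : (g ^ k) ^ ((Nat.card G).gcdB k) = g := (powCoprime hk.symm).symm_apply_apply g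
    have h3 := mem_fixedBy_zpow hx ((Nat.card G).gcdB k)
    rwa [h2] at h3
  · intro x hx
    have := mem_fixedBy_zpow hx (k : ℤ)
    rwa [zpow_natCast] at this

variable [IsPretransitive G Ω]

omit [Fintype Ω] [DecidableEq Ω] [IsPretransitive G Ω] in
/-- The permutation character has the same inner product with all Galois conjugates. -/
theorem classInner_perm_pow (χ : G → ℂ) (k : ℕ) (hk : k.Coprime (Nat.card G)) :
    classInner (fun g : G => (Nat.card (fixedBy Ω g) : ℂ)) (fun g => χ (g ^ k)) =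
      classInner (fun g : G => (Nat.card (fixedBy Ω g) : ℂ)) χ := by
  unfold classInner
  congr 1
  rw [← Equiv.sum_comp (powCoprime hk.symm)
    (fun g => (Nat.card (fixedBy Ω g) : ℂ) * conj (χ g))]
  apply Finset.sum_congr rfl
  intro g _
  simp only [powCoprime_apply]
  rw [fixedBy_pow_coprime g k hk]

omit [Fintype Ω] [IsPretransitive G Ω] in
theorem tau_rat (a : Ω) (A : Matrix Ω Ω ℤ) {χ : G → ℂ} (hχ : ∀ g : G, ∃ q : ℚ, χ g = (q : ℂ)) :
    ∃ q : ℚ, tau a A χ = (q : ℂ) := by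
  choose q hq using hχ
  refine ⟨((Nat.card (stabilizer G a) : ℚ))⁻¹ * ∑ g : G, ((A a (g • a) : ℤ) : ℚ) * q g, ?_⟩
  unfold tau
  push_cast
  congr 1
  apply Finset.sum_congr rfl
  intro g _
  rw [hq]

/-- For a rational-valued character, `τ` is an ordinary integer. -/
theorem tau_int (a : Ω) (A : Matrix Ω Ω ℤ)
    (hA : ∀ (g : G) (y w : Ω), A (g • y) (g • w) = A y w) {χ : G → ℂ} (hχ : IsCharacter G χ)
    (hrat : ∀ g : G, ∃ q : ℚ, χ g = (q : ℂ)) : ∃ z : ℤ, tau a A χ = (z : ℂ) := by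
  obtain ⟨q, hq⟩ := tau_rat a A hrat
  have hint := isIntegral_tau_char a A hA hχ
  rw [hq] at hint
  have h1 : IsIntegral ℤ q := by
    have := (isIntegral_algebraMap_iff (R := ℤ) (A := ℚ) (B := ℂ)
      (algebraMap ℚ ℂ).injective (x := q)).1
    exact this (by simpa using hint)
  obtain ⟨z, hz⟩ := IsIntegrallyClosed.isIntegral_iff.1 h1
  refine ⟨z, ?_⟩
  rw [hq, ← hz]
  simp

end Rational

end Cfsg.Agent.Lib.Helper17
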