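import Mathlib
import Cfsg.Agent.Lib.Helper28.ZassPSL
import Cfsg.Agent.Lib.Helper28.PGL2
import Cfsg.Agent.Lib.Helper17.PrimeDeg

/-!
# Sharply triply transitive groups of degree `p + 1`, `p` an odd prime, are `PGL₂(p)`
-/

set_option autoImplicit false
set_option linter.style.haveILetI false

namespace Cfsg.Agent.Lib.Helper17.Sharp3Prime

open Matrix Projectivization Cfsg.Agent.Lib.Helper07 Cfsg.Agent.Lib.Helper28 MulAction
open Cfsg.Agent.Lib.Helper17.PrimeDeg

open scoped MatrixGroups LinearAlgebra.Projectivization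

/-- a ring isomorphism induces an isomorphism of projective general linear groups -/
noncomputable def pglCongr {n : Type*} [Fintype n] [DecidableEq n] {R S : Type*} [CommRing R]
    [CommRing S] (e : R ≃+* S) : PGL(n, R) ≃* PGL(n, S) where
  toFun := ProjGenLinGroup.map e.toRingHom
  invFun := ProjGenLinGroup.map e.symm.toRingHom
  left_inv := by
    intro x
    rw [← MonoidHom.comp_apply, ← ProjGenLinGroup.map_comp]
    have : e.symm.toRingHom.comp e.toRingHom = RingHom.id R := by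
      ext r; simp
    rw [this, ProjGenLinGroup.map_id]
    rfl
  right_inv := by
    intro x
    rw [← MonoidHom.comp_apply, ← ProjGenLinGroup.map_comp]
    have : e.toRingHom.comp e.symm.toRingHom = RingHom.id S := by
      ext r; simp
    rw [this, ProjGenLinGroup.map_id]
    rfl
  map_mul' := map_mul _

section main

theorem sharp3_prime {G Ω : Type*} [Group G] [Finite G] [MulAction G Ω] [Fintype Ω]
    (hfaith : ∀ g : G, (∀ x : Ω, g • x = x) → g = 1)
    (htrans2 : ∀ a b c d : Ω, a ≠ b → c ≠ d → ∃ g : G, g • a = c ∧ g • b = d)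
    (hthree : ∀ (g : G) (a b c : Ω), a ≠ b → b ≠ c → a ≠ c → g • a = a → g • b = b →
      g • c = c → g = 1)
    {p₀ : ℕ} (hp₀ : p₀.Prime) (hGc : Nat.card G = (p₀ + 1) * p₀ * (p₀ - 1))
    (_hΩ : Fintype.card Ω = p₀ + 1) {a b : Ω} (hab : a ≠ b) (K : Subgroup G)
    (hK : Kernel p₀ a K)
    (hD : Nat.card ↥(stabilizer G a ⊓ stabilizer G b : Subgroup G) = p₀ - 1) :
    Nonempty (G ≃* PGL(Fin 2, ZMod p₀)) := by
  classical
  set H : Subgroup G := stabilizer G a ⊓ stabilizer G b with hH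
  have hp₀3 : 2 ≤ p₀ := hp₀.two_le
  have hHa : ∀ g ∈ H, g • a = a := fun g hg => mem_stabilizer_iff.mp (Subgroup.mem_inf.mp hg).1
  have hHb : ∀ g ∈ H, g • b = b := fun g hg => mem_stabilizer_iff.mp (Subgroup.mem_inf.mp hg).2
  have hHmem : ∀ g : G, g • a = a → g • b = b → g ∈ H := fun g h1 h2 =>
    Subgroup.mem_inf.mpr ⟨mem_stabilizer_iff.mpr h1, mem_stabilizer_iff.mpr h2⟩
  have hKle := hK.le
  have hreg := hK.reg
  have hKcomm := hK.comm
  have hKa : ∀ u ∈ K, u • a = a := fun u hu => mem_stabilizer_iff.mp (hKle hu)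
  have hfpf : ∀ k ∈ K, k ≠ 1 → ∀ c : Ω, c ≠ a → k • c ≠ c := fun k hk hk1 c hc =>
    hK.free hk hk1 hc
  have hTreg : ∀ x : Ω, x ≠ a → ∃! t : K, (t : G) • b = x := fun x hx => hreg b x hab.symm hx
  have hnorm : ∀ g ∈ H, ∀ t ∈ K, g * t * g⁻¹ ∈ K := fun g hg t ht => hK.conj_mem (hHa g hg) ht
  -- the base point `e`
  have hK1 : 1 < Nat.card K := by rw [hK.card]; omega
  haveI := Finite.one_lt_card_iff_nontrivial.mp hK1
  obtain ⟨⟨e, heK⟩, hene⟩ := exists_ne (1 : K)
  have he1 : e ≠ 1 := fun h => hene (Subtype.ext h)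
  -- freeness of the action of `H` on `K`
  have hfree : ∀ g ∈ H, g ≠ 1 → ∀ x ∈ K, g * x = x * g → x = 1 := by
    intro g hg hg1 x hx hcomm
    by_contra hx1
    apply hg1
    have hxb : x • b ≠ b := hfpf x hx hx1 b hab.symm
    have hxba : x • b ≠ a := by
      intro hh
      have : x⁻¹ • a = b := by rw [← hh, inv_smul_smul]
      rw [hKa _ (K.inv_mem hx)] at this
      exact hab this
    have hgx : g • (x • b) = x • b := by rw [← mul_smul, hcomm, mul_smul, hHb g hg]
    exact hthree g a b (x • b) hab (Ne.symm hxb) (Ne.symm hxba) (hHa g hg) (hHb g hg) hgx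
  -- `H` is abelian
  have hconjpow : ∀ g ∈ H, ∃ m : ℤ, ∀ t ∈ K, g * t * g⁻¹ = t ^ m := by
    intro g hg
    obtain ⟨m, hm⟩ := Subgroup.mem_zpowers_iff.mp (hK.gen e heK he1 _ (hnorm g hg e heK))
    refine ⟨m, ?_⟩
    intro t ht
    obtain ⟨k, rfl⟩ := Subgroup.mem_zpowers_iff.mp (hK.gen e heK he1 t ht)
    rw [← conj_zpow, ← hm, ← _root_.zpow_mul, ← _root_.zpow_mul, mul_comm]
  have hHcomm : ∀ x ∈ H, ∀ y ∈ H, x * y = y * x := by
    intro x hx y hy
    obtain ⟨m, hm⟩ := hconjpow x hx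
    obtain ⟨m', hm'⟩ := hconjpow y hy
    have h1 : (x * y) * e * (x * y)⁻¹ = (y * x) * e * (y * x)⁻¹ := by
      have e1 : (x * y) * e * (x * y)⁻¹ = x * (y * e * y⁻¹) * x⁻¹ := by group
      have e2 : (y * x) * e * (y * x)⁻¹ = y * (x * e * x⁻¹) * y⁻¹ := by group
      rw [e1, e2, hm' e heK, hm e heK, hm _ (K.zpow_mem heK m'), hm' _ (K.zpow_mem heK m),
        ← _root_.zpow_mul, ← _root_.zpow_mul, mul_comm]
    by_contra hne
    have hne1 : (y * x)⁻¹ * (x * y) ≠ 1 := by
      intro h2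
      apply hne
      have : x * y = (y * x) * ((y * x)⁻¹ * (x * y)) := by group
      rw [this, h2, mul_one]
    apply he1
    apply hfree _ (H.mul_mem (H.inv_mem (H.mul_mem hy hx)) (H.mul_mem hx hy)) hne1 e heK
    calc (y * x)⁻¹ * (x * y) * e = (y * x)⁻¹ * ((x * y) * e * (x * y)⁻¹) * (x * y) := by group
      _ = (y * x)⁻¹ * ((y * x) * e * (y * x)⁻¹) * (x * y) := by rw [h1]
      _ = e * ((y * x)⁻¹ * (x * y)) := by group
  -- irreducibility
  have hirr : ∀ M : Subgroup G, M ≤ K → (∀ g ∈ H, ∀ m ∈ M, g * m * g⁻¹ ∈ M) →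
      M = ⊥ ∨ M = K := by
    intro M hMK _
    by_cases hMbot : M = ⊥
    · exact Or.inl hMbot
    right
    obtain ⟨⟨m, hm⟩, hm1'⟩ := (Subgroup.ne_bot_iff_exists_ne_one (H := M)).mp hMbot
    have hm1 : m ≠ 1 := fun h => hm1' (Subtype.ext h)
    apply le_antisymm hMK
    intro t ht
    obtain ⟨k, rfl⟩ := Subgroup.mem_zpowers_iff.mp (hK.gen m (hMK hm) hm1 t ht)
    exact M.zpow_mem hm k
  have : Finite K := inferInstance
  obtain ⟨p, n, hp, φ, hn, hφbij, hadd, hφe, hmul⟩ :=
    exists_coord_schur K H hKcomm hHcomm hnorm e heK he1 hirr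
  -- the field
  letI : Fintype (GaloisField p n) := Fintype.ofFinite _
  have hFcardN : Nat.card (GaloisField p n) = p₀ := by
    rw [← Nat.card_eq_of_bijective φ hφbij, hK.card]
  have hFcard : Fintype.card (GaloisField p n) = p₀ := by
    rw [← Nat.card_eq_fintype_card, hFcardN]
  -- the labelling
  obtain ⟨β, hβbij, hβinf, hβo⟩ := exists_beta K a b φ hφbij hKa hab.symm hTreg
  have hX : ∀ x : Ω, x = a ∨ ∃ t : K, x = (t : G) • b := by
    intro x
    by_cases hx : x = a
    · exact Or.inl hx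
    · obtain ⟨t, ht, -⟩ := hTreg x hx
      exact Or.inr ⟨t, ht.symm⟩
  let M : MData G Ω (GaloisField p n) :=
    { T := K, D := H, inf := a, o := b, e := e, heT := heK, he1 := he1, φ := φ, hφ := hφbij,
      hadd := hadd, hφe := hφe, hnorm := hnorm, hmul := hmul, hTinf := hKa, hDinf := hHa,
      hDo := hHb, β := β, hβinf := hβinf, hβo := hβo, hX := hX }
  -- the multiplier character
  have hχdef : ∀ g (hg : g ∈ H), M.χ g hg = φ ⟨g * e * g⁻¹, hnorm g hg e heK⟩ := fun g hg => rfl
  have hχmul : ∀ g g' (hg : g ∈ H) (hg' : g' ∈ H),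
      M.χ (g * g') (H.mul_mem hg hg') = M.χ g hg * M.χ g' hg' := by
    intro g g' hg hg'
    rw [hχdef, hχdef, hχdef, ← hmul g hg ⟨g' * e * g'⁻¹, hnorm g' hg' e heK⟩]
    congr 1
    apply Subtype.ext
    show g * g' * e * (g * g')⁻¹ = g * (g' * e * g'⁻¹) * g⁻¹
    group
  have hχone : M.χ 1 H.one_mem = 1 := by
    rw [hχdef, ← hφe]
    congr 1
    apply Subtype.ext
    show 1 * e * 1⁻¹ = e
    group
  have hχcongr : ∀ g g' (hg : g ∈ H) (hg' : g' ∈ H), g = g' → M.χ g hg = M.χ g' hg' := by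
    intro g g' hg hg' h
    subst h
    rfl
  have hχpow : ∀ g (hg : g ∈ H) (k : ℕ), M.χ (g ^ k) (H.pow_mem hg k) = (M.χ g hg) ^ k := by
    intro g hg k
    induction k with
    | zero =>
      have h0 := hχcongr (g ^ 0) 1 (H.pow_mem hg 0) H.one_mem (pow_zero g)
      rw [h0, hχone]
      exact (pow_zero _).symm
    | succ k ih =>
      have h0 := hχcongr (g ^ (k + 1)) (g ^ k * g) (H.pow_mem hg (k + 1))
        (H.mul_mem (H.pow_mem hg k) hg) (pow_succ g k)
      rw [h0, hχmul (g ^ k) g (H.pow_mem hg k) hg, ih]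
      exact (pow_succ _ k).symm
  have hχinj : ∀ g g' (hg : g ∈ H) (hg' : g' ∈ H), M.χ g hg = M.χ g' hg' → g = g' := by
    intro g g' hg hg' hχ
    rw [hχdef, hχdef] at hχ
    have h1 : g * e * g⁻¹ = g' * e * g'⁻¹ := congrArg Subtype.val (hφbij.1 hχ)
    by_contra hne
    have hne1 : g'⁻¹ * g ≠ 1 := by
      intro h2
      apply hne
      have : g = g' * (g'⁻¹ * g) := by group
      rw [this, h2, mul_one]
    apply he1
    apply hfree (g'⁻¹ * g) (H.mul_mem (H.inv_mem hg') hg) hne1 e heK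
    calc g'⁻¹ * g * e = g'⁻¹ * (g * e * g⁻¹) * g := by group
      _ = g'⁻¹ * (g' * e * g'⁻¹) * g := by rw [h1]
      _ = e * (g'⁻¹ * g) := by group
  -- `χ` is onto the nonzero elements
  have hχsurj : ∀ s : GaloisField p n, s ≠ 0 → ∃ g, ∃ hg : g ∈ M.D, M.χ g hg = s := by
    intro s hs
    haveI : Fintype ↥H := Fintype.ofFinite _
    set I : Finset (GaloisField p n) := Finset.univ.image (fun g : ↥H => M.χ g.1 g.2) with hI
    have hIcard : I.card = p₀ - 1 := by
      rw [hI, Finset.card_image_of_injective, Finset.card_univ, ← Nat.card_eq_fintype_card, hD]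
      intro g g' hgg
      exact Subtype.ext (hχinj g.1 g'.1 g.2 g'.2 hgg)
    have hIR : I ⊆ Finset.univ.erase (0 : GaloisField p n) := by
      intro x hx
      obtain ⟨g, -, rfl⟩ := Finset.mem_image.mp hx
      rw [Finset.mem_erase]
      exact ⟨M.χ_ne_zero g.1 g.2, Finset.mem_univ _⟩
    have hIeq : I = Finset.univ.erase (0 : GaloisField p n) :=
      Finset.eq_of_subset_of_card_le hIR (by
        rw [Finset.card_erase_of_mem (Finset.mem_univ _), Finset.card_univ, hFcard, hIcard])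
    have hsI : s ∈ I := by
      rw [hIeq, Finset.mem_erase]
      exact ⟨hs, Finset.mem_univ _⟩
    obtain ⟨g, -, hg⟩ := Finset.mem_image.mp hsI
    exact ⟨g.1, g.2, hg⟩
  -- the involution `u`
  obtain ⟨u₀, hu₀a, hu₀b⟩ := htrans2 a b b a hab hab.symm
  have hu₀1 : u₀ • M.pt 1 ≠ a := by
    intro h
    rw [← hu₀b] at h
    have h2 := MulAction.injective u₀ h
    have h3 : M.pt 1 = M.pt 0 := by rw [h2]; exact M.pt_zero.symm
    exact one_ne_zero (M.pt_injective h3)
  obtain ⟨c, hc⟩ := (M.cases (u₀ • M.pt 1)).resolve_left hu₀1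
  have hc0 : c ≠ 0 := by
    rintro rfl
    rw [M.pt_zero] at hc
    have h1 : u₀ • M.pt 1 = u₀ • a := by rw [hc, hu₀a]
    exact M.pt_ne_inf 1 (MulAction.injective u₀ h1)
  obtain ⟨d₀, hd₀, hd₀c⟩ := hχsurj c⁻¹ (inv_ne_zero hc0)
  obtain ⟨u, hudef⟩ : ∃ u : G, u = d₀ * u₀ := ⟨_, rfl⟩
  have hua : u • a = b := by rw [hudef, mul_smul, hu₀a, hHb d₀ hd₀]
  have hub : u • b = a := by rw [hudef, mul_smul, hu₀b, hHa d₀ hd₀]
  have hu1pt : u • M.pt 1 = M.pt 1 := by
    rw [hudef, mul_smul, hc, M.D_smul_pt d₀ hd₀, hd₀c, inv_mul_cancel₀ hc0]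
  have hpt1a : M.pt 1 ≠ a := M.pt_ne_inf 1
  have hpt1b : M.pt 1 ≠ b := by
    intro h
    have h' : M.pt 1 = M.pt 0 := h.trans M.pt_zero.symm
    exact one_ne_zero (M.pt_injective h')
  have hu2 : u * u = 1 := by
    apply hthree (u * u) a b (M.pt 1) hab (Ne.symm hpt1b) (Ne.symm hpt1a)
    · rw [mul_smul, hua, hub]
    · rw [mul_smul, hub, hua]
    · rw [mul_smul, hu1pt, hu1pt]
  have hui : u⁻¹ = u := inv_eq_of_mul_eq_one_right hu2
  -- the map `σ`
  have huinf : u • M.inf = M.o := hua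
  have huo : u • M.o = M.inf := hub
  have hu_ne : ∀ x : GaloisField p n, x ≠ 0 → u • M.pt x ≠ M.inf := by
    intro x hx h
    rw [← huo] at h
    have := MulAction.injective u h
    rw [← M.pt_zero] at this
    exact hx (M.pt_injective this)
  have hex : ∀ x : GaloisField p n, x ≠ 0 → ∃ y, u • M.pt x = M.pt y := fun x hx =>
    (M.cases _).resolve_left (hu_ne x hx)
  let σ : GaloisField p n → GaloisField p n :=
    fun x => if h : x ≠ 0 then (hex x h).choose else 0
  have hσ : ∀ x : GaloisField p n, x ≠ 0 → u • M.pt x = M.pt (σ x) := by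
    intro x hx
    show u • M.pt x = M.pt (if h : x ≠ 0 then (hex x h).choose else 0)
    rw [dif_pos hx]
    exact (hex x hx).choose_spec
  have hσ0 : ∀ x : GaloisField p n, x ≠ 0 → σ x ≠ 0 := by
    intro x hx h0
    have h1 := hσ x hx
    rw [h0, M.pt_zero, ← huinf] at h1
    have := MulAction.injective u h1
    exact M.pt_ne_inf x this
  have hσσ : ∀ x : GaloisField p n, x ≠ 0 → σ (σ x) = x := by
    intro x hx
    have h1 := hσ x hx
    have h2 := hσ (σ x) (hσ0 x hx)
    rw [← h1, ← mul_smul, hu2, one_smul] at h2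
    exact (M.pt_injective h2).symm
  have hσ1 : σ 1 = 1 := by
    have := hσ 1 one_ne_zero
    rw [hu1pt] at this
    exact (M.pt_injective this).symm
  have hσinj : ∀ x y : GaloisField p n, x ≠ 0 → y ≠ 0 → σ x = σ y → x = y := by
    intro x y hx hy h
    rw [← hσσ x hx, ← hσσ y hy, h]
  -- `u` normalizes `H`
  have huH : ∀ d ∈ H, u * d * u⁻¹ ∈ H := by
    intro d hd
    apply hHmem
    · rw [hui, mul_smul, mul_smul, hua, hHb d hd, hub]
    · rw [hui, mul_smul, mul_smul, hub, hHa d hd, hua]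
  have hσD : ∀ (d : G) (hd : d ∈ H) (x : GaloisField p n), x ≠ 0 →
      σ (M.χ d hd * x) = M.χ (u * d * u⁻¹) (huH d hd) * σ x := by
    intro d hd x hx
    have h1 : u • (d • M.pt x) = (u * d * u⁻¹) • (u • M.pt x) := by
      rw [← mul_smul, ← mul_smul]
      congr 1
      group
    rw [M.D_smul_pt d hd, hσ _ (mul_ne_zero (M.χ_ne_zero d hd) hx), hσ x hx,
      M.D_smul_pt _ (huH d hd)] at h1
    exact M.pt_injective h1
  have hσmul : ∀ s x : GaloisField p n, s ≠ 0 → x ≠ 0 → σ (s * x) = σ s * σ x := by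
    intro s x hs hx
    obtain ⟨d, hd, rfl⟩ := hχsurj s hs
    have h1 := hσD d hd 1 one_ne_zero
    rw [mul_one, hσ1, mul_one] at h1
    rw [hσD d hd x hx, h1]
  have hm1ne : (-1 : GaloisField p n) ≠ 0 := neg_ne_zero.mpr one_ne_zero
  have hσm1 : σ (-1) = -1 := by
    by_cases hchar : (2 : GaloisField p n) = 0
    · have h11 : (-1 : GaloisField p n) = 1 := by linear_combination (-1 : GaloisField p n) * hchar
      rw [h11, hσ1]
    have h1 : σ (-1) * σ (-1) = 1 := by
      rw [← hσmul _ _ hm1ne hm1ne, neg_one_mul, neg_neg, hσ1]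
    have h2 : (σ (-1) - 1) * (σ (-1) + 1) = 0 := by linear_combination h1
    rcases mul_eq_zero.mp h2 with h | h
    · exfalso
      have h3 : σ (-1) = σ 1 := by rw [hσ1]; exact sub_eq_zero.mp h
      have h4 := hσinj _ _ hm1ne one_ne_zero h3
      apply hchar
      linear_combination -h4
    · exact eq_neg_of_add_eq_zero_left h
  -- the Kerby--Tits identity
  have hpt0 : M.pt 0 = b := M.pt_zero
  have he_act : ∀ x : GaloisField p n, e • M.pt x = M.pt (1 + x) := by
    intro x
    have h1 := M.T_smul_pt e heK x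
    rw [h1]
    congr 1
    have : M.φ ⟨e, heK⟩ = 1 := hφe
    rw [this]
  have hea : e • a = a := hKa e heK
  have he_b : e • b = M.pt 1 := by
    have := he_act 0
    rw [hpt0, add_zero] at this
    exact this
  obtain ⟨dm, hdm, hdmχ⟩ := hχsurj (-1) hm1ne
  have hdm1 : dm • M.pt 1 = M.pt (-1) := by
    rw [M.D_smul_pt dm hdm, hdmχ, mul_one]
  have hem1 : e • M.pt (-1) = b := by
    rw [he_act, add_neg_cancel, hpt0]
  have hKT : ∀ x : GaloisField p n, x ≠ 0 → x ≠ -1 → σ (1 + σ x) = 1 - σ (1 + x) := by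
    intro x hx hx1
    have hg : (e * dm * u * e)⁻¹ * (u * e * u) = 1 := by
      have hL : ∀ y : Ω, (u * e * u) • y = u • (e • (u • y)) := by
        intro y; rw [mul_smul, mul_smul]
      have hR : ∀ y : Ω, (e * dm * u * e) • y = e • (dm • (u • (e • y))) := by
        intro y; rw [mul_smul, mul_smul, mul_smul]
      have hptm1a : M.pt (-1) ≠ a := M.pt_ne_inf _
      have hptm1b : M.pt (-1) ≠ b := by
        intro h
        have h' : M.pt (-1) = M.pt 0 := h.trans hpt0.symm
        exact hm1ne (M.pt_injective h')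
      apply hthree _ a b (M.pt (-1)) hab (Ne.symm hptm1b) (Ne.symm hptm1a)
      · rw [mul_smul, inv_smul_eq_iff, hL, hR, hua, he_b, hu1pt, hea, hua, hHb dm hdm, he_b]
      · rw [mul_smul, inv_smul_eq_iff, hL, hR, hub, hea, hua, he_b, hu1pt, hdm1, hem1]
      · rw [mul_smul, inv_smul_eq_iff, hL, hR, hσ _ hm1ne, hσm1, hem1, hub, hHa dm hdm, hea]
    have hgx : (u * e * u) • M.pt x = (e * dm * u * e) • M.pt x := by
      have : u * e * u = (e * dm * u * e) * ((e * dm * u * e)⁻¹ * (u * e * u)) := by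
        group
      rw [this, hg, mul_one]
    have h1x : 1 + x ≠ 0 := by
      intro h
      apply hx1
      linear_combination h
    have h1σ : 1 + σ x ≠ 0 := by
      intro h
      have h2 : σ x = σ (-1) := by rw [hσm1]; linear_combination h
      exact hx1 (hσinj _ _ hx hm1ne h2)
    rw [mul_smul, mul_smul, mul_smul, mul_smul, mul_smul, hσ x hx, he_act, hσ _ h1σ, he_act,
      hσ _ h1x, M.D_smul_pt dm hdm, hdmχ, he_act] at hgx
    have := M.pt_injective hgx
    rw [this]
    ring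
  -- `σ` is inversion on the prime field
  have hσnat : ∀ m : ℕ, (m : GaloisField p n) ≠ 0 → σ (m : GaloisField p n) = (m : GaloisField p n)⁻¹ := by
    intro m
    induction m with
    | zero => intro h; exact absurd (by simp) h
    | succ m ih =>
      intro hm1
      by_cases hm : (m : GaloisField p n) = 0
      · have : ((m + 1 : ℕ) : GaloisField p n) = 1 := by push_cast; rw [hm, zero_add]
        rw [this, hσ1, inv_one]
      · have hx1 : (m : GaloisField p n) ≠ -1 := by
          intro h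
          apply hm1
          push_cast
          rw [h]; ring
        have hkt := hKT (m : GaloisField p n) hm hx1
        rw [ih hm] at hkt
        have hsum : (1 : GaloisField p n) + (m : GaloisField p n) = ((m + 1 : ℕ) : GaloisField p n) := by
          push_cast; ring
        have hsum0 : (1 : GaloisField p n) + (m : GaloisField p n) ≠ 0 := by rw [hsum]; exact hm1
        have h2 : (1 : GaloisField p n) + (m : GaloisField p n)⁻¹ =
            (1 + (m : GaloisField p n)) * (m : GaloisField p n)⁻¹ := by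
          rw [add_mul, one_mul, mul_inv_cancel₀ hm, add_comm]
        rw [h2, hσmul _ _ hsum0 (inv_ne_zero hm), ← ih hm, hσσ _ hm] at hkt
        rw [← hsum]
        have h3 : σ (1 + (m : GaloisField p n)) * (1 + (m : GaloisField p n)) = 1 := by
          linear_combination hkt
        exact eq_inv_of_mul_eq_one_left h3
  have hσall : ∀ x : GaloisField p n, x ≠ 0 → σ x = x⁻¹ := by
    intro x hx
    let ee := ZMod.ringEquivOfPrime (GaloisField p n) hp₀ hFcard
    have hx' : x = ((ZMod.val (ee.symm x) : ℕ) : GaloisField p n) := by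
      haveI : NeZero p₀ := ⟨hp₀.ne_zero⟩
      have h1 : ee (ee.symm x) = x := ee.apply_symm_apply x
      rw [← h1]
      conv_lhs => rw [← ZMod.natCast_zmod_val (ee.symm x)]
      rw [map_natCast, RingEquiv.symm_apply_apply]
    rw [hx'] at hx ⊢
    exact hσnat _ hx
  -- `u` inverts `H`
  have hinv : ∀ d ∈ H, u * d * u⁻¹ = d⁻¹ := by
    intro d hd
    apply hχinj _ _ (huH d hd) (H.inv_mem hd)
    have h1 := hσD d hd 1 one_ne_zero
    rw [mul_one, hσ1, mul_one, hσall _ (M.χ_ne_zero d hd)] at h1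
    rw [← h1]
    have h3 := M.χ_inv_mul d hd
    exact (eq_inv_of_mul_eq_one_left h3).symm
  -- generation
  have hgen : Subgroup.closure ((M.T : Set G) ∪ M.D ∪ {u}) = ⊤ := by
    rw [eq_top_iff]
    intro g _
    show g ∈ Subgroup.closure ((K : Set G) ∪ H ∪ {u})
    set L := Subgroup.closure ((K : Set G) ∪ H ∪ {u}) with hL
    have hKL : ∀ k ∈ K, k ∈ L := fun k hk => Subgroup.subset_closure (Or.inl (Or.inl hk))
    have hHL : ∀ k ∈ H, k ∈ L := fun k hk => Subgroup.subset_closure (Or.inl (Or.inr hk))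
    have huL : u ∈ L := Subgroup.subset_closure (Or.inr rfl)
    have hstabL : ∀ g : G, g • a = a → g ∈ L := by
      intro g hga
      have hgb : g • b ≠ a := by
        intro hh
        rw [← hga] at hh
        exact hab (MulAction.injective g hh).symm
      obtain ⟨k, hk, -⟩ := hTreg (g • b) hgb
      have hk' : (k : G) • b = g • b := hk
      have h1 : (k : G)⁻¹ * g ∈ H :=
        hHmem _ (by rw [mul_smul, hga, hKa _ (K.inv_mem k.2)])
          (by rw [mul_smul, ← hk', inv_smul_smul])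
      have h2 : g = (k : G) * ((k : G)⁻¹ * g) := by group
      rw [h2]
      exact L.mul_mem (hKL k k.2) (hHL _ h1)
    by_cases hga : g • a = a
    · exact hstabL g hga
    · obtain ⟨k, hk, -⟩ := hTreg (g • a) hga
      have hk' : (k : G) • b = g • a := hk
      have h1 : (u * (k : G)⁻¹ * g) • a = a := by
        rw [mul_smul, mul_smul, ← hk', inv_smul_smul, hub]
      have h2 := hstabL _ h1
      have h3 : g = (k : G) * u⁻¹ * (u * (k : G)⁻¹ * g) := by group
      rw [h3]
      exact L.mul_mem (L.mul_mem (hKL k k.2) (L.inv_mem huL)) h2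
  -- regularity of `H` on `K`
  have hregD : ∀ t ∈ K, t ≠ 1 → ∃ d ∈ H, d * e * d⁻¹ = t := by
    intro t ht ht1
    have hφt : φ ⟨t, ht⟩ ≠ 0 := by
      intro h0
      rw [← M.φ_one] at h0
      exact ht1 (congrArg Subtype.val (hφbij.1 h0))
    obtain ⟨d, hd, hdχ⟩ := hχsurj _ hφt
    refine ⟨d, hd, ?_⟩
    rw [hχdef] at hdχ
    exact congrArg Subtype.val (hφbij.1 hdχ)
  -- orders
  have hcard : Nat.card (PGL(Fin 2, GaloisField p n)) ≤ Nat.card G := by
    rw [card_pgl_two (by rw [hFcard]; omega), hFcard, hGc, mul_assoc]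
  obtain ⟨iso⟩ := nonempty_mulEquiv_pgl K H u a b e heK he1 φ hφbij hadd hφe hnorm hmul hregD hKa
    hHa hHb hua hub hinv hab.symm hTreg hgen hfaith hcard
  exact ⟨iso.trans (pglCongr (ZMod.ringEquivOfPrime (GaloisField p n) hp₀ hFcard).symm)⟩

end main

end Cfsg.Agent.Lib.Helper17.Sharp3Prime
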