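import Mathlib
import Cfsg.Agent.Lib.Helper28.ZassPSL

/-!
# Zassenhaus groups of degree `q + 1` with two-point stabilizer of odd order `(q - 1) / 2`
are `PSL₂(q)` (`q ≡ 3 mod 4`)
-/

set_option autoImplicit false
set_option linter.style.haveILetI false

namespace Cfsg.Agent.Lib.Helper17.ZassPSLOdd

open Matrix Projectivization Cfsg.Agent.Lib.Helper07 Cfsg.Agent.Lib.Helper28 MulAction

open scoped MatrixGroups LinearAlgebra.Projectivization

section field

variable {F : Type*} [Field F] [Fintype F]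

/-- in a finite field the product of two non-squares is a square -/
lemma isSquare_mul_of_not {a b : F} (ha : ¬ IsSquare a) (hb : ¬ IsSquare b) :
    IsSquare (a * b) := by
  classical
  have ha0 : a ≠ 0 := fun h => ha (h ▸ IsSquare.zero)
  have hb0 : b ≠ 0 := fun h => hb (h ▸ IsSquare.zero)
  rw [← quadraticChar_one_iff_isSquare (mul_ne_zero ha0 hb0), map_mul,
    quadraticChar_neg_one_iff_not_isSquare.mpr ha, quadraticChar_neg_one_iff_not_isSquare.mpr hb]
  norm_num

/-- in a finite field the quotient of two non-squares is a square -/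
lemma isSquare_div_of_not {a b : F} (ha : ¬ IsSquare a) (hb : ¬ IsSquare b) :
    IsSquare (a / b) := by
  have hb0 : b ≠ 0 := fun h => hb (h ▸ IsSquare.zero)
  have hbi : ¬ IsSquare b⁻¹ := by
    rintro ⟨r, hr⟩
    apply hb
    refine ⟨r⁻¹, ?_⟩
    rw [← mul_inv, ← hr, inv_inv]
  rw [div_eq_mul_inv]
  exact isSquare_mul_of_not ha hbi

end field

section act

variable {G X F : Type*} [Group G] [MulAction G X] [Field F]

/-- a fixed-point-free involution `u` swapping `∞` and `0` and inverting `D` acts as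
`x ↦ c / x` with `c` a non-square, when `-1` is not a square. -/
theorem actsAs_u_nonsq [Fintype F] (M : MData G X F) (hm1 : ¬ IsSquare (-1 : F)) (u : G)
    (huinf : u • M.inf = M.o) (huo : u • M.o = M.inf) (hu2 : u * u = 1)
    (hinv : ∀ d ∈ M.D, u * d * u⁻¹ = d⁻¹) (hfpf : ∀ y : X, u • y ≠ y)
    (hsq : ∀ s : F, s ≠ 0 → IsSquare s → ∃ d, ∃ hd : d ∈ M.D, M.χ d hd = s) :
    ∃ c : F, ∃ hc : c ≠ 0, ¬ IsSquare c ∧
      ActsAs M.β u (ProjGenLinGroup.mk (mSwap c hc)) := by
  classical
  have hu_ne : ∀ x : F, x ≠ 0 → u • M.pt x ≠ M.inf := by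
    intro x hx h
    rw [← huo] at h
    have := MulAction.injective u h
    rw [← M.pt_zero] at this
    exact hx (M.pt_injective this)
  have hex : ∀ x : F, x ≠ 0 → ∃ y, u • M.pt x = M.pt y := fun x hx =>
    (M.cases _).resolve_left (hu_ne x hx)
  let σ : F → F := fun x => if h : x ≠ 0 then (hex x h).choose else 0
  have hσ : ∀ x : F, x ≠ 0 → u • M.pt x = M.pt (σ x) := by
    intro x hx
    show u • M.pt x = M.pt (if h : x ≠ 0 then (hex x h).choose else 0)
    rw [dif_pos hx]
    exact (hex x hx).choose_spec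
  have hσ0 : ∀ x : F, x ≠ 0 → σ x ≠ 0 := by
    intro x hx h0
    have h1 := hσ x hx
    rw [h0, M.pt_zero, ← huinf] at h1
    have := MulAction.injective u h1
    exact M.pt_ne_inf x this
  have hσσ : ∀ x : F, x ≠ 0 → σ (σ x) = x := by
    intro x hx
    have h1 := hσ x hx
    have h2 := hσ (σ x) (hσ0 x hx)
    rw [← h1, ← mul_smul, hu2, one_smul] at h2
    exact (M.pt_injective h2).symm
  have hS2 : ∀ s x : F, s ≠ 0 → IsSquare s → x ≠ 0 → σ (s * x) = s⁻¹ * σ x := by
    intro s x hs hss hx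
    obtain ⟨d, hd, hds⟩ := hsq s hs hss
    have hd' : d⁻¹ ∈ M.D := M.D.inv_mem hd
    have hud : u * d = d⁻¹ * u := by
      have := hinv d hd
      rw [← this]; group
    have h1 : u • (d • M.pt x) = d⁻¹ • (u • M.pt x) := by
      rw [← mul_smul, hud, mul_smul]
    rw [M.D_smul_pt d hd, hds, hσ _ (mul_ne_zero hs hx), hσ x hx, M.D_smul_pt d⁻¹ hd'] at h1
    have h2 := M.pt_injective h1
    rw [h2]
    have h3 := M.χ_inv_mul d hd
    rw [hds] at h3
    have : M.χ d⁻¹ hd' = s⁻¹ := eq_inv_of_mul_eq_one_left h3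
    rw [this]
  set c : F := σ 1 with hc
  have hc0 : c ≠ 0 := hσ0 1 one_ne_zero
  have hσsq : ∀ s : F, s ≠ 0 → IsSquare s → σ s = c / s := by
    intro s hs hss
    have := hS2 s 1 hs hss one_ne_zero
    rw [mul_one] at this
    rw [this, div_eq_inv_mul]
  have hcns : ¬ IsSquare c := by
    rintro ⟨r, hr⟩
    have hr0 : r ≠ 0 := by
      rintro rfl
      rw [mul_zero] at hr
      exact hc0 hr
    by_cases hrs : IsSquare r
    · have h1 := hσsq r hr0 hrs
      rw [hr, mul_div_assoc, div_self hr0, mul_one] at h1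
      have h2 := hσ r hr0
      rw [h1] at h2
      exact hfpf _ h2
    · have hnr : IsSquare (-r) := by
        have := isSquare_mul_of_not hm1 hrs
        rwa [neg_one_mul] at this
      have hnr0 : -r ≠ 0 := neg_ne_zero.mpr hr0
      have h1 := hσsq (-r) hnr0 hnr
      have h3 : c / -r = -r := by
        rw [hr]
        field_simp
      rw [h3] at h1
      have h2 := hσ (-r) hnr0
      rw [h1] at h2
      exact hfpf _ h2
  have hmain : ∀ x : F, x ≠ 0 → σ x = c / x := by
    intro x hx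
    by_cases hxs : IsSquare x
    · exact hσsq x hx hxs
    · have hs : IsSquare (x / c) := isSquare_div_of_not hxs hcns
      have hs0 : x / c ≠ 0 := div_ne_zero hx hc0
      have h1 := hS2 (x / c) c hs0 hs hc0
      have h2 : x / c * c = x := div_mul_cancel₀ x hc0
      rw [h2, hc, hσσ 1 one_ne_zero, mul_one, ← hc, inv_div] at h1
      exact h1
  refine ⟨c, hc0, hcns, ?_⟩
  intro x
  rcases M.cases x with rfl | ⟨y, rfl⟩
  · rw [huinf, M.hβinf, mSwap_pInf, ← M.pt_zero, M.β_pt]
  · by_cases hy : y = 0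
    · rw [hy, M.pt_zero, huo, M.hβinf, ← M.pt_zero, M.β_pt, mSwap_pAff_zero]
    · rw [hσ y hy, M.β_pt, M.β_pt, mSwap_pAff _ _ _ hy, hmain y hy]

/-- Recognition of `PSL₂(F)`, `F` finite with `-1` a non-square. -/
theorem nonempty_mulEquiv_psl_nonsq [Finite G] [Fintype F] (M : MData G X F)
    (hm1 : ¬ IsSquare (-1 : F)) (u : G)
    (huinf : u • M.inf = M.o) (huo : u • M.o = M.inf) (hu2 : u * u = 1)
    (hinv : ∀ d ∈ M.D, u * d * u⁻¹ = d⁻¹) (hfpf : ∀ y : X, u • y ≠ y)
    (hsq : ∀ s : F, s ≠ 0 → IsSquare s → ∃ d, ∃ hd : d ∈ M.D, M.χ d hd = s)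
    (hDsq : ∀ d (hd : d ∈ M.D), IsSquare (M.χ d hd))
    (hβbij : Function.Bijective M.β)
    (hgen : Subgroup.closure ((M.T : Set G) ∪ M.D ∪ {u}) = ⊤)
    (hfaith : ∀ g : G, (∀ x : X, g • x = x) → g = 1)
    (hcard : Nat.card (Matrix.ProjectiveSpecialLinearGroup (Fin 2) F) ≤ Nat.card G) :
    Nonempty (G ≃* Matrix.ProjectiveSpecialLinearGroup (Fin 2) F) := by
  have hT : ∀ t ∈ M.T, t ∈ actsAsPSLSubgroup (G := G) (F := F) M.β := by
    intro t ht
    obtain ⟨m, hm⟩ := exists_psl_toPGL_eq (!![1, M.φ ⟨t, ht⟩; 0, 1] : Matrix (Fin 2) (Fin 2) F)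
      (by simp [det_fin_two_of]) 1 (by simp [det_fin_two_of])
    exact ⟨m, by rw [hm]; exact M.actsAs_T t ht⟩
  have hD : ∀ d ∈ M.D, d ∈ actsAsPSLSubgroup (G := G) (F := F) M.β := by
    intro d hd
    obtain ⟨r, hr⟩ := hDsq d hd
    obtain ⟨m, hm⟩ := exists_psl_toPGL_eq (!![M.χ d hd, 0; 0, 1] : Matrix (Fin 2) (Fin 2) F)
      (by simpa [det_fin_two_of] using M.χ_ne_zero d hd) r (by simpa [det_fin_two_of] using hr)
    exact ⟨m, by rw [hm]; exact M.actsAs_D d hd⟩
  have hu : u ∈ actsAsPSLSubgroup (G := G) (F := F) M.β := by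
    obtain ⟨c, hc0, hcns, hact⟩ := actsAs_u_nonsq M hm1 u huinf huo hu2 hinv hfpf hsq
    obtain ⟨r, hr⟩ : IsSquare (-c) := by
      have := isSquare_mul_of_not hm1 hcns
      rwa [neg_one_mul] at this
    obtain ⟨m, hm⟩ := exists_psl_toPGL_eq (!![0, c; 1, 0] : Matrix (Fin 2) (Fin 2) F)
      (by simpa [det_fin_two_of] using hc0) r (by simpa [det_fin_two_of] using hr)
    exact ⟨m, by rw [hm]; exact hact⟩
  have hle : Subgroup.closure ((M.T : Set G) ∪ M.D ∪ {u}) ≤
      actsAsPSLSubgroup (G := G) (F := F) M.β := by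
    rw [Subgroup.closure_le]
    rintro g ((hg | hg) | hg)
    · exact hT g hg
    · exact hD g hg
    · rw [Set.mem_singleton_iff] at hg; rw [hg]; exact hu
  have hall : ∀ g : G, ∃ m : Matrix.ProjectiveSpecialLinearGroup (Fin 2) F,
      ActsAs M.β g (Matrix.ProjectiveSpecialLinearGroup.toPGL m) := by
    intro g
    have : g ∈ actsAsPSLSubgroup (G := G) (F := F) M.β := hle (by rw [hgen]; trivial)
    exact this
  obtain ⟨f, hf⟩ := exists_injective_hom_psl M.β hβbij hall hfaith
  have : Finite (Matrix.ProjectiveSpecialLinearGroup (Fin 2) F) :=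
    Finite.of_surjective _ (QuotientGroup.mk_surjective (s := Subgroup.center _))
  have hbij : Function.Bijective f := hf.bijective_of_nat_card_le hcard
  exact ⟨MulEquiv.ofBijective f hbij⟩

end act

section main

theorem zassenhaus_psl_odd {G Ω : Type*} [Group G] [Finite G] [MulAction G Ω] [Fintype Ω]
    (hZ : Cfsg.IsZassenhausGroup G Ω) {a b : Ω} (hab : a ≠ b)
    (hodd : Odd (Nat.card ↥(stabilizer G a ⊓ stabilizer G b)))
    (hN2d' : Fintype.card Ω - 2 = 2 * Nat.card ↥(stabilizer G a ⊓ stabilizer G b))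
    (K : Subgroup G) (hKle : K ≤ stabilizer G a) (hKn : (K.subgroupOf (stabilizer G a)).Normal)
    (hKcomm : ∀ x ∈ K, ∀ y ∈ K, x * y = y * x)
    (hreg : ∀ y z : Ω, y ≠ a → z ≠ a → ∃! u : K, (u : G) • y = z)
    (hinv0 : ∀ s : G, s • a = b → s • b = a → ∀ h ∈ stabilizer G a ⊓ stabilizer G b,
      s * h * s⁻¹ = h⁻¹) :
    ∃ (p n : ℕ) (_ : Fact p.Prime), n ≠ 0 ∧ p ≠ 2 ∧ Fintype.card Ω = p ^ n + 1 ∧
      Nonempty (G ≃* Matrix.ProjectiveSpecialLinearGroup (Fin 2) (GaloisField p n)) := by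
  classical
  have hpre := zpre_of_isZassenhausGroup hZ
  set H : Subgroup G := stabilizer G a ⊓ stabilizer G b with hH
  set d := Nat.card ↥H with hdd
  set N := Fintype.card Ω with hN
  have hN2d : N - 2 = 2 * d := hN2d'
  have hdpos : 0 < d := Nat.card_pos
  have hN2 : 2 ≤ N := by
    have : ({a, b} : Finset Ω).card ≤ Fintype.card Ω := Finset.card_le_univ _
    rw [Finset.card_pair hab] at this
    exact this
  have hNeq : N = 2 * d + 2 := by omega
  have hHa : ∀ g ∈ H, g • a = a := fun g hg => mem_stabilizer_iff.mp (Subgroup.mem_inf.mp hg).1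
  have hHb : ∀ g ∈ H, g • b = b := fun g hg => mem_stabilizer_iff.mp (Subgroup.mem_inf.mp hg).2
  have hHmem : ∀ g : G, g • a = a → g • b = b → g ∈ H := fun g h1 h2 =>
    Subgroup.mem_inf.mpr ⟨mem_stabilizer_iff.mpr h1, mem_stabilizer_iff.mpr h2⟩
  have hKa : ∀ u ∈ K, u • a = a := fun u hu => mem_stabilizer_iff.mp (hKle hu)
  have hfpf : ∀ k ∈ K, k ≠ 1 → ∀ c : Ω, c ≠ a → k • c ≠ c := by
    intro k hk hk1 c hca hc
    obtain ⟨w, -, hw⟩ := hreg c c hca hca
    have h1 := hw ⟨k, hk⟩ hc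
    have h2 := hw 1 (by show ((1 : K) : G) • c = c; rw [Subgroup.coe_one, one_smul])
    apply hk1
    have := h1.trans h2.symm
    exact congrArg Subtype.val this
  obtain ⟨hKcard, hGcard⟩ := hpre.card_of_regular_kernel hab K hKle hreg
  have hKcard' : Nat.card K = 2 * d + 1 := by omega
  have hTreg : ∀ x : Ω, x ≠ a → ∃! t : K, (t : G) • b = x := fun x hx => hreg b x hab.symm hx
  have hnorm : ∀ g ∈ H, ∀ t ∈ K, g * t * g⁻¹ ∈ K := by
    intro g hg t ht
    have := hKn.conj_mem ⟨t, hKle ht⟩ (Subgroup.mem_subgroupOf.mpr ht)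
      ⟨g, (Subgroup.mem_inf.mp hg).1⟩
    exact Subgroup.mem_subgroupOf.mp this
  -- point stabilizers have odd order
  haveI : IsPretransitive G Ω := ⟨fun c c' => hpre.trans1 c c'⟩
  have hstabcard : ∀ y : Ω, Nat.card (stabilizer G y) = (2 * d + 1) * d := by
    intro y
    have h1 := Subgroup.card_mul_index (stabilizer G y)
    rw [index_stabilizer_of_transitive G y, Nat.card_eq_fintype_card (α := Ω), hGcard,
      hKcard'] at h1
    have hpos : 0 < Fintype.card Ω := by omega
    rw [mul_comm] at h1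
    exact Nat.eq_of_mul_eq_mul_left hpos h1
  have hstabodd : ∀ y : Ω, Odd (Nat.card (stabilizer G y)) := by
    intro y
    rw [hstabcard y]
    exact Odd.mul (by exact ⟨d, by ring⟩) hodd
  have hinvol_fpf : ∀ t : G, t * t = 1 → t ≠ 1 → ∀ y : Ω, t • y ≠ y := by
    intro t ht2 ht1 y hty
    have hmem : t ∈ stabilizer G y := mem_stabilizer_iff.mpr hty
    have ho : orderOf (⟨t, hmem⟩ : stabilizer G y) = 2 := by
      apply orderOf_eq_prime
      · apply Subtype.ext
        show t ^ 2 = 1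
        rw [pow_two, ht2]
      · intro h
        exact ht1 (congrArg Subtype.val h)
    have hdvd : 2 ∣ Nat.card (stabilizer G y) := by
      rw [← ho]
      exact orderOf_dvd_natCard _
    exact (Nat.not_even_iff_odd.2 (hstabodd y)) (even_iff_two_dvd.2 hdvd)
  -- the swapper
  have h2G : 2 ∣ Nat.card G := by
    rw [hGcard]
    exact Dvd.dvd.mul_right (by rw [← hN, hNeq]; exact ⟨d + 1, by ring⟩) _
  obtain ⟨t, ht⟩ := exists_prime_orderOf_dvd_card' (G := G) 2 h2G
  have ht2 : t * t = 1 := by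
    have := pow_orderOf_eq_one t
    rwa [ht, pow_two] at this
  have ht1 : t ≠ 1 := by
    intro h
    rw [h, orderOf_one] at ht
    omega
  have htc : t • a ≠ a := hinvol_fpf t ht2 ht1 a
  obtain ⟨g, hga, hgc⟩ := hpre.trans2 a (t • a) a b (Ne.symm htc) hab
  obtain ⟨u, hudef⟩ : ∃ u : G, u = g * t * g⁻¹ := ⟨_, rfl⟩
  have hgia : g⁻¹ • a = a := by rw [inv_smul_eq_iff, hga]
  have hua : u • a = b := by
    rw [hudef, mul_smul, mul_smul, hgia, hgc]
  have hub : u • b = a := by
    calc u • b = (g * t * g⁻¹) • (g • t • a) := by rw [hudef, hgc]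
      _ = g • ((t * t) • a) := by simp only [mul_smul, inv_smul_smul]
      _ = a := by rw [ht2, one_smul, hga]
  have hu2 : u * u = 1 := by
    rw [hudef]
    calc g * t * g⁻¹ * (g * t * g⁻¹) = g * (t * t) * g⁻¹ := by group
      _ = 1 := by rw [ht2]; group
  have hu1 : u ≠ 1 := by
    intro h
    rw [h, one_smul] at hua
    exact hab hua
  have hufpf : ∀ y : Ω, u • y ≠ y := hinvol_fpf u hu2 hu1
  have hinv : ∀ g ∈ H, u * g * u⁻¹ = g⁻¹ := hinv0 u hua hub
  have hHcomm : ∀ x ∈ H, ∀ y ∈ H, x * y = y * x := by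
    intro x hx y hy
    have h1 := hinv (x * y) (H.mul_mem hx hy)
    have h2 : u * (x * y) * u⁻¹ = (u * x * u⁻¹) * (u * y * u⁻¹) := by group
    rw [h2, hinv x hx, hinv y hy, _root_.mul_inv_rev] at h1
    have h3 := congrArg (fun g => g⁻¹) h1
    simpa using h3.symm
  -- the base point `e`
  have hK1 : 1 < Nat.card K := by omega
  haveI := Finite.one_lt_card_iff_nontrivial.mp hK1
  obtain ⟨⟨e, heK⟩, hene⟩ := exists_ne (1 : K)
  have he1 : e ≠ 1 := fun h => hene (Subtype.ext h)
  -- freeness of the action of `H` on `K`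
  have hfree : ∀ g ∈ H, g ≠ 1 → ∀ x ∈ K, g * x = x * g → x = 1 := by
    intro g hg hg1 x hx hcomm
    by_contra hx1
    apply hg1
    have hxb : x • b ≠ b := hfpf x hx hx1 b hab.symm
    have hxba : x • b ≠ a := by
      intro hh
      have : x⁻¹ • a = b := by rw [← hh, inv_smul_smul]
      rw [hKa _ (K.inv_mem hx)] at this
      exact hab this
    have hgx : g • (x • b) = x • b := by rw [← mul_smul, hcomm, mul_smul, hHb g hg]
    exact hpre.three g a b (x • b) hab (Ne.symm hxb) (Ne.symm hxba) (hHa g hg) (hHb g hg) hgx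
  -- irreducibility
  have hirr : ∀ M : Subgroup G, M ≤ K → (∀ g ∈ H, ∀ m ∈ M, g * m * g⁻¹ ∈ M) →
      M = ⊥ ∨ M = K := by
    intro M hMK hMinv
    by_cases hMbot : M = ⊥
    · exact Or.inl hMbot
    right
    have hdvd : Nat.card H ∣ Nat.card M - Nat.card (⊥ : Subgroup G) := by
      apply Helper26.card_dvd_card_sub_of_free H M ⊥ bot_le
      · intro g hg
        rw [Subgroup.mem_normalizer_iff]
        intro m
        constructor
        · intro hm
          exact hMinv g hg m hm
        · intro hm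
          have := hMinv g⁻¹ (H.inv_mem hg) _ hm
          have h2 : g⁻¹ * (g * m * g⁻¹) * g⁻¹⁻¹ = m := by group
          rwa [h2] at this
      · intro g _
        rw [Subgroup.mem_normalizer_iff]
        intro m
        rw [Subgroup.mem_bot, Subgroup.mem_bot]
        constructor
        · rintro rfl; group
        · intro hm
          have : m = g⁻¹ * (g * m * g⁻¹) * g := by group
          rw [this, hm]; group
      · intro g hg hg1 x hx hcomm
        rw [Subgroup.mem_bot]
        exact hfree g hg hg1 x (hMK hx) hcomm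
    rw [Subgroup.card_bot] at hdvd
    have hM1 : 1 < Nat.card M := by
      rw [Subgroup.one_lt_card_iff_ne_bot]
      exact hMbot
    have hMdvd : Nat.card M ∣ Nat.card K := Subgroup.card_dvd_of_le hMK
    have hdle : d ≤ Nat.card M - 1 := Nat.le_of_dvd (by omega) hdvd
    obtain ⟨q, hq⟩ := hMdvd
    have hq1 : q = 1 := by
      rw [hKcard'] at hq
      rcases q with _ | _ | q
      · omega
      · rfl
      · exfalso
        have : Nat.card M * (q + 1 + 1) ≥ Nat.card M * 2 := Nat.mul_le_mul_left _ (by omega)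
        omega
    rw [hq1, mul_one] at hq
    exact Subgroup.eq_of_le_of_card_ge hMK (le_of_eq hq)
  have : Finite K := inferInstance
  obtain ⟨p, n, hp, φ, hn, hφbij, hadd, hφe, hmul⟩ :=
    exists_coord_schur K H hKcomm hHcomm hnorm e heK he1 hirr
  -- the field
  letI : Fintype (GaloisField p n) := Fintype.ofFinite _
  have hFcardN : Nat.card (GaloisField p n) = 2 * d + 1 := by
    rw [← Nat.card_eq_of_bijective φ hφbij, hKcard']
  have hFcard : Fintype.card (GaloisField p n) = 2 * d + 1 := by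
    rw [← Nat.card_eq_fintype_card, hFcardN]
  have hpn : p ^ n = 2 * d + 1 := by rw [← GaloisField.card p n hn, hFcardN]
  have hp2 : p ≠ 2 := by
    rintro rfl
    have h1 : Even (2 ^ n) := (Nat.even_pow.mpr ⟨even_two, hn⟩)
    rw [hpn] at h1
    rcases h1 with ⟨r, hr⟩
    omega
  have hF : ringChar (GaloisField p n) ≠ 2 := by
    rw [ringChar.eq (GaloisField p n) p]
    exact hp2
  have hm1 : ¬ IsSquare (-1 : GaloisField p n) := by
    rw [FiniteField.isSquare_neg_one_iff, hFcard]
    rcases hodd with ⟨r, hr⟩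
    have : d = 2 * r + 1 := hr
    omega
  have hdiv2 : Fintype.card (GaloisField p n) / 2 = d := by rw [hFcard]; omega
  -- the labelling
  obtain ⟨β, hβbij, hβinf, hβo⟩ := exists_beta K a b φ hφbij hKa hab.symm hTreg
  have hX : ∀ x : Ω, x = a ∨ ∃ t : K, x = (t : G) • b := by
    intro x
    by_cases hx : x = a
    · exact Or.inl hx
    · obtain ⟨t, ht, -⟩ := hTreg x hx
      exact Or.inr ⟨t, ht.symm⟩
  let M : MData G Ω (GaloisField p n) :=
    { T := K, D := H, inf := a, o := b, e := e, heT := heK, he1 := he1, φ := φ, hφ := hφbij,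
      hadd := hadd, hφe := hφe, hnorm := hnorm, hmul := hmul, hTinf := hKa, hDinf := hHa,
      hDo := hHb, β := β, hβinf := hβinf, hβo := hβo, hX := hX }
  -- the multiplier character
  have hχdef : ∀ g (hg : g ∈ H), M.χ g hg = φ ⟨g * e * g⁻¹, hnorm g hg e heK⟩ := fun g hg => rfl
  have hχmul : ∀ g g' (hg : g ∈ H) (hg' : g' ∈ H),
      M.χ (g * g') (H.mul_mem hg hg') = M.χ g hg * M.χ g' hg' := by
    intro g g' hg hg'
    rw [hχdef, hχdef, hχdef, ← hmul g hg ⟨g' * e * g'⁻¹, hnorm g' hg' e heK⟩]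
    congr 1
    apply Subtype.ext
    show g * g' * e * (g * g')⁻¹ = g * (g' * e * g'⁻¹) * g⁻¹
    group
  have hχone : M.χ 1 H.one_mem = 1 := by
    rw [hχdef, ← hφe]
    congr 1
    apply Subtype.ext
    show 1 * e * 1⁻¹ = e
    group
  have hχcongr : ∀ g g' (hg : g ∈ H) (hg' : g' ∈ H), g = g' → M.χ g hg = M.χ g' hg' := by
    intro g g' hg hg' h
    subst h
    rfl
  have hχpow : ∀ g (hg : g ∈ H) (k : ℕ), M.χ (g ^ k) (H.pow_mem hg k) = (M.χ g hg) ^ k := by
    intro g hg k
    induction k with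
    | zero =>
      have h0 := hχcongr (g ^ 0) 1 (H.pow_mem hg 0) H.one_mem (pow_zero g)
      rw [h0, hχone]
      exact (pow_zero _).symm
    | succ k ih =>
      have h0 := hχcongr (g ^ (k + 1)) (g ^ k * g) (H.pow_mem hg (k + 1))
        (H.mul_mem (H.pow_mem hg k) hg) (pow_succ g k)
      rw [h0, hχmul (g ^ k) g (H.pow_mem hg k) hg, ih]
      exact (pow_succ _ k).symm
  have hpowd : ∀ g ∈ H, g ^ d = 1 := by
    intro g hg
    have := pow_card_eq_one' (G := ↥H) (x := ⟨g, hg⟩)
    exact congrArg Subtype.val this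
  have hχd : ∀ g (hg : g ∈ H), (M.χ g hg) ^ d = 1 := by
    intro g hg
    rw [← hχpow g hg d, ← hχone]
    exact hχcongr _ _ _ _ (hpowd g hg)
  have hDsq : ∀ g (hg : g ∈ M.D), IsSquare (M.χ g hg) := by
    intro g hg
    rw [FiniteField.isSquare_iff hF (M.χ_ne_zero g hg), hdiv2]
    exact hχd g hg
  have hχinj : ∀ g g' (hg : g ∈ H) (hg' : g' ∈ H), M.χ g hg = M.χ g' hg' → g = g' := by
    intro g g' hg hg' hχ
    rw [hχdef, hχdef] at hχ
    have h1 : g * e * g⁻¹ = g' * e * g'⁻¹ := congrArg Subtype.val (hφbij.1 hχ)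
    by_contra hne
    have hne1 : g'⁻¹ * g ≠ 1 := by
      intro h2
      apply hne
      have : g = g' * (g'⁻¹ * g) := by group
      rw [this, h2, mul_one]
    apply he1
    apply hfree (g'⁻¹ * g) (H.mul_mem (H.inv_mem hg') hg) hne1 e heK
    calc g'⁻¹ * g * e = g'⁻¹ * (g * e * g⁻¹) * g := by group
      _ = g'⁻¹ * (g' * e * g'⁻¹) * g := by rw [h1]
      _ = e * (g'⁻¹ * g) := by group
  have hsq : ∀ s : GaloisField p n, s ≠ 0 → IsSquare s → ∃ g, ∃ hg : g ∈ M.D, M.χ g hg = s := by
    intro s hs hss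
    have hsd : s ^ d = 1 := by
      rw [← hdiv2]
      exact (FiniteField.isSquare_iff hF hs).mp hss
    haveI : Fintype ↥H := Fintype.ofFinite _
    set R : Finset (GaloisField p n) := (Polynomial.nthRoots d (1 : GaloisField p n)).toFinset
      with hR
    set I : Finset (GaloisField p n) := Finset.univ.image (fun g : ↥H => M.χ g.1 g.2) with hI
    have hIcard : I.card = d := by
      rw [hI, Finset.card_image_of_injective, Finset.card_univ, ← Nat.card_eq_fintype_card]
      intro g g' hgg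
      exact Subtype.ext (hχinj g.1 g'.1 g.2 g'.2 hgg)
    have hIR : I ⊆ R := by
      intro x hx
      obtain ⟨g, -, rfl⟩ := Finset.mem_image.mp hx
      rw [hR, Multiset.mem_toFinset, Polynomial.mem_nthRoots hdpos]
      exact hχd g.1 g.2
    have hRcard : R.card ≤ d :=
      (Multiset.toFinset_card_le _).trans (Polynomial.card_nthRoots d 1)
    have hIeqR : I = R := Finset.eq_of_subset_of_card_le hIR (by rw [hIcard]; exact hRcard)
    have hsR : s ∈ R := by
      rw [hR, Multiset.mem_toFinset, Polynomial.mem_nthRoots hdpos]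
      exact hsd
    rw [← hIeqR] at hsR
    obtain ⟨g, -, hg⟩ := Finset.mem_image.mp hsR
    exact ⟨g.1, g.2, hg⟩
  -- generation
  have hgen : Subgroup.closure ((M.T : Set G) ∪ M.D ∪ {u}) = ⊤ := by
    rw [eq_top_iff]
    intro g _
    show g ∈ Subgroup.closure ((K : Set G) ∪ H ∪ {u})
    set L := Subgroup.closure ((K : Set G) ∪ H ∪ {u}) with hL
    have hKL : ∀ k ∈ K, k ∈ L := fun k hk => Subgroup.subset_closure (Or.inl (Or.inl hk))
    have hHL : ∀ k ∈ H, k ∈ L := fun k hk => Subgroup.subset_closure (Or.inl (Or.inr hk))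
    have huL : u ∈ L := Subgroup.subset_closure (Or.inr rfl)
    have hstabL : ∀ g : G, g • a = a → g ∈ L := by
      intro g hga
      have hgb : g • b ≠ a := by
        intro hh
        rw [← hga] at hh
        exact hab (MulAction.injective g hh).symm
      obtain ⟨k, hk, -⟩ := hTreg (g • b) hgb
      have hk' : (k : G) • b = g • b := hk
      have h1 : (k : G)⁻¹ * g ∈ H :=
        hHmem _ (by rw [mul_smul, hga, hKa _ (K.inv_mem k.2)])
          (by rw [mul_smul, ← hk', inv_smul_smul])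
      have h2 : g = (k : G) * ((k : G)⁻¹ * g) := by group
      rw [h2]
      exact L.mul_mem (hKL k k.2) (hHL _ h1)
    by_cases hga : g • a = a
    · exact hstabL g hga
    · obtain ⟨k, hk, -⟩ := hTreg (g • a) hga
      have hk' : (k : G) • b = g • a := hk
      have h1 : (u * (k : G)⁻¹ * g) • a = a := by
        rw [mul_smul, mul_smul, ← hk', inv_smul_smul, hub]
      have h2 := hstabL _ h1
      have h3 : g = (k : G) * u⁻¹ * (u * (k : G)⁻¹ * g) := by group
      rw [h3]
      exact L.mul_mem (L.mul_mem (hKL k k.2) (L.inv_mem huL)) h2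
  -- orders
  have hGcard' : Nat.card G = (2 * d + 2) * ((2 * d + 1) * d) := by
    have : Nat.card G = N * (Nat.card K * d) := hGcard
    rw [this, hKcard', hNeq]
  have hcard : Nat.card (Matrix.ProjectiveSpecialLinearGroup (Fin 2) (GaloisField p n)) ≤
      Nat.card G := by
    have h1 := Cfsg.Agent.Lib.Helper07.card_psl_two (F := GaloisField p n)
    rw [hFcard] at h1
    have e1 : 2 * d + 1 - 1 = 2 * d := by omega
    have e2 : (2 * d + 1) ^ 2 - 1 = 4 * d * d + 4 * d := by
      have : (2 * d + 1) ^ 2 = 4 * d * d + 4 * d + 1 := by ring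
      omega
    have e3 : (2 * d + 1) ^ 2 - (2 * d + 1) = (2 * d + 1) * (2 * d) := by
      have : (2 * d + 1) ^ 2 = (2 * d + 1) * (2 * d) + (2 * d + 1) := by ring
      omega
    have e4 : Nat.gcd 2 (2 * d) = 2 := Nat.gcd_eq_left (dvd_mul_right 2 d)
    rw [e1, e2, e3, e4] at h1
    rw [hGcard']
    set P := Nat.card (Matrix.ProjectiveSpecialLinearGroup (Fin 2) (GaloisField p n)) with hP
    have h2 : (4 * d) * P = (4 * d) * ((2 * d + 2) * ((2 * d + 1) * d)) := by
      calc (4 * d) * P = 2 * (2 * d * P) := by ring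
        _ = (4 * d * d + 4 * d) * ((2 * d + 1) * (2 * d)) := h1
        _ = _ := by ring
    exact le_of_eq (Nat.eq_of_mul_eq_mul_left (by omega) h2)
  refine ⟨p, n, hp, hn, hp2, ?_, ?_⟩
  · show N = p ^ n + 1
    rw [hpn, hNeq]
  · exact nonempty_mulEquiv_psl_nonsq M hm1 u hua hub hu2 hinv hufpf hsq hDsq hβbij hgen
      hpre.faithful hcard

end main

end Cfsg.Agent.Lib.Helper17.ZassPSLOdd
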