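import Mathlib
import Cfsg.Agent.Lib.Helper17.PrimeDeg
import Cfsg.Agent.Lib.Helper17.Sharp3Prime
import Cfsg.Agent.Lib.Helper17.AffinePrime
import Cfsg.Agent.Lib.Helper17.FeitZass
import Cfsg.Agent.Lib.Helper17.ZassPSLOdd
import Cfsg.Agent.Lib.Helper26.MinConf
import Cfsg.Agent.Lib.Helper07.PSL27
import Cfsg.Agent.S0035
import Cfsg.Agent.S0741
import Cfsg.Agent.S0742

/-!
# Transitive groups of degree `p + 1` and order `(p + 1) p d`, `d < p`
-/

set_option autoImplicit false
set_option linter.style.haveILetI false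

namespace Cfsg.Agent.Lib.Helper17.PrimeDegMain

open MulAction Cfsg.Agent.Lib.Helper28 Cfsg.Agent.Lib.Helper17 Cfsg.Agent.Lib.Helper17.PrimeDeg
open Cfsg.Agent.Lib.Helper07
open scoped Pointwise

variable {G Ω : Type*} [Group G] [Finite G] [MulAction G Ω] [Fintype Ω]

/-- sharply doubly transitive: a regular normal subgroup exists (Frobenius) -/
theorem exists_regular_normal_of_sharp2
    (htrans1 : ∀ x y : Ω, ∃ g : G, g • x = y) {p : ℕ} (hp : 2 ≤ p)
    (hΩ : Fintype.card Ω = p + 1) (hG : Nat.card G = (p + 1) * p)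
    {a : Ω} (hcs : Nat.card (stabilizer G a) = p)
    (hE : ∀ b : Ω, a ≠ b → Nat.card ↥(stabilizer G a ⊓ stabilizer G b : Subgroup G) = 1) :
    ∃ N : Subgroup G, N.Normal ∧ ∀ x y : Ω, ∃! n : N, (n : G) • x = y := by
  classical
  have hmemconj : ∀ (g x : G), x ∈ MulAut.conj g • stabilizer G a ↔ x • (g • a) = g • a := by
    intro g x
    rw [Subgroup.mem_smul_pointwise_iff_exists]
    constructor
    · rintro ⟨s, hs, rfl⟩
      rw [MulAut.smul_def, MulAut.conj_apply, mul_smul, mul_smul, inv_smul_smul,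
        mem_stabilizer_iff.mp hs]
    · intro hx
      refine ⟨g⁻¹ * x * g, ?_, ?_⟩
      · rw [mem_stabilizer_iff, mul_smul, mul_smul, hx, inv_smul_smul]
      · rw [MulAut.smul_def, MulAut.conj_apply]; group
  have hFrob : Cfsg.IsFrobeniusComplement (stabilizer G a) := by
    refine ⟨?_, ?_, ?_⟩
    · intro h
      rw [h, Subgroup.card_bot] at hcs
      omega
    · intro h
      have h1 : Nat.card (stabilizer G a) = Nat.card G := by rw [h, Subgroup.card_top]
      rw [hcs, hG] at h1
      nlinarith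
    · intro g hg
      have hga : a ≠ g • a := fun h => hg (mem_stabilizer_iff.mpr h.symm)
      have h1 := hE (g • a) hga
      have h2 : (stabilizer G a ⊓ stabilizer G (g • a) : Subgroup G) = ⊥ :=
        Subgroup.card_eq_one.mp h1
      rw [eq_bot_iff]
      intro x hx
      rw [← h2]
      obtain ⟨hx1, hx2⟩ := Subgroup.mem_inf.mp hx
      exact Subgroup.mem_inf.mpr ⟨hx1, mem_stabilizer_iff.mpr ((hmemconj g x).mp hx2)⟩
  obtain ⟨N, hNset, hNn, hNc⟩ := Cfsg.Agent.S0035.result (stabilizer G a) hFrob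
  have hNfix : ∀ n ∈ N, ∀ x : Ω, n • x = x → n = 1 := by
    intro n hn x hx
    have h1 : n ∈ Cfsg.frobeniusKernel (stabilizer G a) := by rw [← hNset]; exact hn
    rcases h1 with h1 | h1
    · exact h1
    · exfalso
      obtain ⟨g, rfl⟩ := htrans1 a x
      exact h1 g ((hmemconj g n).mpr hx)
  have hNcard : Nat.card N = p + 1 := by
    have h1 := hNc.card_mul_card
    rw [hcs, hG] at h1
    exact Nat.eq_of_mul_eq_mul_right (by omega) h1
  refine ⟨N, hNn, ?_⟩
  intro x y
  have hinj : Function.Injective (fun n : N => (n : G) • x) := by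
    intro n m hnm
    have hnm' : (n : G) • x = (m : G) • x := hnm
    have h1 : ((m : G)⁻¹ * (n : G)) • x = x := by
      rw [mul_smul, hnm', inv_smul_smul]
    have h2 := hNfix _ (N.mul_mem (N.inv_mem m.2) n.2) x h1
    apply Subtype.ext
    have : (n : G) = (m : G) * ((m : G)⁻¹ * (n : G)) := by group
    rw [this, h2, mul_one]
  have hbij : Function.Bijective (fun n : N => (n : G) • x) :=
    hinj.bijective_of_nat_card_le (by rw [hNcard, Nat.card_eq_fintype_card, hΩ])
  exact hbij.existsUnique y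

open scoped MatrixGroups in
/-- the classification of transitive groups of degree `p + 1` and order `(p + 1) p d`, `d < p` -/
theorem prime_degree_main [FaithfulSMul G Ω] [IsPretransitive G Ω] {p d : ℕ} (hp : p.Prime)
    (hΩ : Fintype.card Ω = p + 1) (hG : Nat.card G = (p + 1) * p * d) (hd : d < p) :
    (d = p - 1 ∧ Nonempty (G ≃* Matrix.ProjGenLinGroup (Fin 2) (ZMod p))) ∨
    (2 * d = p - 1 ∧ Nonempty (G ≃* Matrix.ProjectiveSpecialLinearGroup (Fin 2) (ZMod p))) ∨
    (∃ q : ℕ, q.Prime ∧ p + 1 = 2 ^ q ∧ (d = 1 ∨ d = q) ∧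
      ∃ e : Ω ≃ GaloisField 2 q, ∀ g : G, ∃ (c : (GaloisField 2 q)ˣ) (t : GaloisField 2 q)
        (ψ : GaloisField 2 q ≃+* GaloisField 2 q),
        ∀ x, e (g • e.symm x) = (c : GaloisField 2 q) * ψ x + t) := by
  classical
  have hK : ∀ a : Ω, ∃ F : Subgroup G, Kernel p a F := fun a => exists_kernel hp hΩ hG hd a
  have htrans2 := trans2 hK
  have hthree := three hK
  have hfaith : ∀ g : G, (∀ x : Ω, g • x = x) → g = 1 := fun g hg =>
    FaithfulSMul.eq_of_smul_eq_smul (α := Ω) (by intro x; rw [hg x, one_smul])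
  have htrans1 : ∀ x y : Ω, ∃ g : G, g • x = y := fun x y => exists_smul_eq G x y
  have hcs : ∀ a : Ω, Nat.card (stabilizer G a) = p * d := card_stabilizer hΩ hG
  have hE : ∀ a b : Ω, a ≠ b →
      Nat.card ↥(stabilizer G a ⊓ stabilizer G b : Subgroup G) = d := by
    intro a b hab
    obtain ⟨F, hF⟩ := hK a
    exact card_two_stab hab hF (hcs a) hp.pos
  have hp2le := hp.two_le
  have hdpos : 0 < d := by
    rcases Nat.eq_zero_or_pos d with h | h
    · exfalso
      rw [h, mul_zero] at hG
      have := Nat.card_pos (α := G)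
      omega
    · exact h
  obtain ⟨a, b, hab⟩ : ∃ a b : Ω, a ≠ b := by
    have h1 : 1 < Fintype.card Ω := by rw [hΩ]; omega
    obtain ⟨a, b, hab⟩ := Fintype.one_lt_card_iff.mp h1
    exact ⟨a, b, hab⟩
  obtain ⟨F, hF⟩ := hK a
  by_cases hdp : d = p - 1
  · left
    refine ⟨hdp, ?_⟩
    exact Sharp3Prime.sharp3_prime hfaith htrans2 hthree hp (by rw [hG, hdp]) hΩ hab F hF
      (by rw [hE a b hab, hdp])
  right
  by_cases hN : ∃ N : Subgroup G, N.Normal ∧ ∀ x y : Ω, ∃! n : N, (n : G) • x = y
  · right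
    obtain ⟨N, hNn, hNreg⟩ := hN
    have hp2 : p ≠ 2 := by
      rintro rfl
      omega
    exact AffinePrime.affine_branch hfaith hp hp2 hΩ F hF (fun b hb => hE a b hb.symm) N hNn hNreg
  left
  -- `d > 1`
  have hd1 : 1 < d := by
    by_contra hle
    have hd1 : d = 1 := by omega
    apply hN
    apply exists_regular_normal_of_sharp2 htrans1 hp2le hΩ (by rw [hG, hd1, mul_one])
      (a := a) (by rw [hcs a, hd1, mul_one])
    intro b hab
    rw [hE a b hab, hd1]
  have hpre : ZPre G Ω := by
    refine ⟨hfaith, htrans2, hthree, ?_⟩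
    haveI : Nontrivial ↥(stabilizer G a ⊓ stabilizer G b : Subgroup G) := by
      apply Finite.one_lt_card_iff_nontrivial.mp
      rw [hE a b hab]; exact hd1
    obtain ⟨⟨g, hg⟩, hg1⟩ := exists_ne (1 : ↥(stabilizer G a ⊓ stabilizer G b : Subgroup G))
    refine ⟨g, fun h => hg1 (Subtype.ext h), a, b, hab, ?_, ?_⟩
    · exact mem_stabilizer_iff.mp (Subgroup.mem_inf.mp hg).1
    · exact mem_stabilizer_iff.mp (Subgroup.mem_inf.mp hg).2
  have hzreg : ZReg G Ω := by
    intro M hMn hMtr
    by_contra hcon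
    push Not at hcon
    apply hN
    refine ⟨M, hMn, ?_⟩
    intro x y
    obtain ⟨m, hm, hmx⟩ := hMtr x y
    refine ⟨⟨m, hm⟩, hmx, ?_⟩
    intro m' hm'
    have hm'' : (m' : G) • x = y := hm'
    have h1 : (m⁻¹ * (m' : G)) • x = x := by
      rw [mul_smul, hm'', ← hmx, inv_smul_smul]
    have h2 : m⁻¹ * (m' : G) = 1 := by
      by_contra h3
      exact hcon x _ (M.mul_mem (M.inv_mem hm) m'.2) h3 h1
    apply Subtype.ext
    show (m' : G) = m
    have : (m' : G) = m * (m⁻¹ * (m' : G)) := by group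
    rw [this, h2, mul_one]
  have hZ := isZassenhausGroup_of_zpre hpre hzreg
  have hFab : ∀ x ∈ F, ∀ y ∈ F, x * y = y * x := hF.comm
  have hFle := hF.le
  have hFn := hF.normal
  have hreg := hF.reg
  have he := hE a b hab
  have hEmem : ∀ g : G, g ∈ (stabilizer G a ⊓ stabilizer G b : Subgroup G) ↔
      g • a = a ∧ g • b = b := by
    intro g
    rw [Subgroup.mem_inf, mem_stabilizer_iff, mem_stabilizer_iff]
  have hnorm : ∀ g ∈ (stabilizer G a ⊓ stabilizer G b : Subgroup G), ∀ t ∈ F,
      g * t * g⁻¹ ∈ F := fun g hg t ht => hF.conj_mem ((hEmem g).mp hg).1 ht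
  have hfree : ∀ g ∈ (stabilizer G a ⊓ stabilizer G b : Subgroup G), g ≠ 1 → ∀ y ∈ F,
      g * y = y * g → y = 1 := by
    intro g hg hg1 y hy hcomm
    by_contra hy1
    apply hg1
    obtain ⟨hgx, hgb⟩ := (hEmem g).mp hg
    have hyb : y • b ≠ b := hF.free hy hy1 hab.symm
    have hybx : y • b ≠ a := by
      intro hh
      have : y⁻¹ • a = b := by rw [← hh, inv_smul_smul]
      rw [hF.smul_eq (F.inv_mem hy)] at this
      exact hab this
    have hgy : g • (y • b) = y • b := by rw [← mul_smul, hcomm, mul_smul, hgb]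
    exact hthree g a b (y • b) hab (Ne.symm hyb) (Ne.symm hybx) hgx hgb hgy
  have hdvd : d ∣ p - 1 := by
    have h1 : Nat.card ↥(stabilizer G a ⊓ stabilizer G b : Subgroup G) ∣
        Nat.card F - Nat.card (⊥ : Subgroup G) := by
      apply Cfsg.Agent.Lib.Helper26.card_dvd_card_sub_of_free _ F ⊥ bot_le
      · intro g hg
        rw [Subgroup.mem_normalizer_iff]
        intro m
        constructor
        · intro hm
          exact hnorm g hg m hm
        · intro hm
          have := hnorm g⁻¹ (Subgroup.inv_mem _ hg) _ hm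
          have h2 : g⁻¹ * (g * m * g⁻¹) * g⁻¹⁻¹ = m := by group
          rwa [h2] at this
      · intro g _
        rw [Subgroup.mem_normalizer_iff]
        intro m
        rw [Subgroup.mem_bot, Subgroup.mem_bot]
        constructor
        · rintro rfl; group
        · intro hm
          have : m = g⁻¹ * (g * m * g⁻¹) * g := by group
          rw [this, hm]; group
      · intro g hg hg1 y hy hcomm
        rw [Subgroup.mem_bot]
        exact hfree g hg hg1 y hy hcomm
    rwa [Subgroup.card_bot, he, hF.card] at h1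
  have hbound : Fintype.card Ω - 2 ≤ 2 * d := by
    rcases Nat.even_or_odd d with heven | hodd
    · have := Cfsg.Agent.S0741.result hZ hab (by rw [he]; exact heven)
      rwa [he] at this
    · have := FeitZass.feit_abelian hZ hab F hFle hFn hFab hreg (by rw [he]; exact hodd)
      rwa [he] at this
  rw [hΩ] at hbound
  obtain ⟨k, hk⟩ := hdvd
  have hk12 : k = 1 ∨ k = 2 := by
    have hk0 : k ≠ 0 := by
      rintro rfl
      omega
    have hk2 : k ≤ 2 := by
      by_contra h
      push Not at h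
      have : d * 3 ≤ d * k := Nat.mul_le_mul_left d h
      omega
    omega
  have h2d : 2 * d = p - 1 := by
    rcases hk12 with rfl | rfl
    · exfalso
      apply hdp
      omega
    · omega
  refine ⟨h2d, ?_⟩
  rcases Nat.even_or_odd d with heven | hodd
  · obtain ⟨p', f, K, iK, iF, hp', hp'2, hKcard, hΩ', ⟨iso⟩⟩ :=
      Cfsg.Agent.S0742.result hZ hab (by rw [he]; exact heven) (by rw [he, hΩ]; omega)
    have hKp : Fintype.card K = p := by
      rw [hKcard]; omega
    exact ⟨iso.trans (pslCongr (ZMod.ringEquivOfPrime K hp hKp).symm)⟩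
  · have hodd' : Odd (Nat.card ↥(stabilizer G a ⊓ stabilizer G b : Subgroup G)) := by
      rw [he]; exact hodd
    have heq' : Fintype.card Ω - 2 =
        2 * Nat.card ↥(stabilizer G a ⊓ stabilizer G b : Subgroup G) := by
      rw [he, hΩ]; omega
    haveI : IsSimpleGroup G :=
      FeitZass.isSimpleGroup_of_eq hZ hab F hFle hFn hFab hreg hodd' heq'
    have hinv := FeitZass.swap_inverts hZ hab hodd'
    obtain ⟨p', n, hp', hn, hp'2, hΩ', ⟨iso⟩⟩ :=
      ZassPSLOdd.zassenhaus_psl_odd hZ hab hodd' heq' F hFle hFn hFab hreg hinv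
    letI : Fintype (GaloisField p' n) := Fintype.ofFinite _
    have hKp : Fintype.card (GaloisField p' n) = p := by
      rw [← Nat.card_eq_fintype_card, GaloisField.card p' n hn]; omega
    exact ⟨iso.trans (pslCongr (ZMod.ringEquivOfPrime _ hp hKp).symm)⟩

end Cfsg.Agent.Lib.Helper17.PrimeDegMain
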