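/-
S1628 pack (architect helper17): basic general lemmas on `ruNorm`, `crd`, `oddSet`, `block`.
-/
import Cfsg.Agent.Lib.Helper17.RuDefs

set_option autoImplicit false

namespace Cfsg.Agent.Lib.Helper17.RuL

open Cfsg.Spor

theorem ruNorm_eq_sum_crd (x : RuVec) : ruNorm x = ∑ pe : RuIdx × Fin 2, crd x pe ^ 2 := by
  unfold ruNorm
  rw [Fintype.sum_prod_type (f := fun pe : RuIdx × Fin 2 => crd x pe ^ 2)]
  refine Finset.sum_congr rfl fun p _ => ?_
  rw [Fin.sum_univ_two]
  simp only [crd, Zsqrtd.norm]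
  simp
  ring

theorem ruNorm_eq_beta (x : RuVec) : ruNorm x = beta x x := by
  unfold ruNorm beta
  refine Finset.sum_congr rfl fun p _ => ?_
  simp only [Zsqrtd.norm]
  ring

theorem card_oddSet_le_norm (x : RuVec) : ((oddSet x).card : ℤ) ≤ ruNorm x := by
  rw [ruNorm_eq_sum_crd]
  calc ((oddSet x).card : ℤ) = ∑ pe ∈ oddSet x, (1 : ℤ) := by simp
    _ ≤ ∑ pe ∈ oddSet x, crd x pe ^ 2 := by
        refine Finset.sum_le_sum fun pe hpe => ?_
        have h : crd x pe % 2 = 1 := by
          simpa [oddSet] using hpe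
        have h0 : crd x pe ≠ 0 := by
          intro h0; rw [h0] at h; norm_num at h
        have : 0 < crd x pe ^ 2 := by positivity
        omega
    _ ≤ ∑ pe : RuIdx × Fin 2, crd x pe ^ 2 :=
        Finset.sum_le_sum_of_subset_of_nonneg (Finset.subset_univ _) fun _ _ _ => by positivity

theorem card_block (n : Fin 7) : (block n).card = 8 := by
  revert n; decide

end Cfsg.Agent.Lib.Helper17.RuL
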