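/-
S1628 pack, leaf R1 (keystone 162801), part a: the additive maps and the kernel-checked certificates (heavy: ~6 min).
-/
import Cfsg.Agent.Lib.Helper17.RuCert

set_option autoImplicit false

namespace Cfsg.Agent.Lib.Helper17.RuL

open Cfsg.Spor

/-- multiplication by `i` as an additive map. -/
def aI : RuVec →+ RuVec where
  toFun v := gI • v
  map_zero' := smul_zero _
  map_add' := smul_add _

/-- `ruRj` as an additive map. -/
def aJ : RuVec →+ RuVec where
  toFun := ruRj
  map_zero' := by
    funext p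
    obtain ⟨n, t⟩ := p
    fin_cases t <;> simp [ruRj]
  map_add' v w := by
    funext p
    obtain ⟨n, t⟩ := p
    fin_cases t <;> simp [ruRj, mul_add, add_comm]

/-- `ruRk` as an additive map. -/
def aK : RuVec →+ RuVec where
  toFun := ruRk
  map_zero' := by
    funext p
    obtain ⟨n, t⟩ := p
    fin_cases t <;> simp [ruRk]
  map_add' v w := by
    funext p
    obtain ⟨n, t⟩ := p
    fin_cases t <;> simp [ruRk, mul_add, add_comm]

/-- `ruSign` as an additive map. -/
def aS : RuVec →+ RuVec where
  toFun := ruSign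
  map_zero' := by
    funext p
    simp [ruSign]
  map_add' v w := by
    funext p
    simp only [ruSign, Pi.add_apply]
    split_ifs <;> simp [add_comm]

/-- `ruShift` as an additive map. -/
def aH : RuVec →+ RuVec where
  toFun := ruShift
  map_zero' := rfl
  map_add' _ _ := rfl

theorem comb_mem (z : Fin 56 → ℤ) : (∑ m : Fin 56, z m • uB m) ∈ spanU := by
  change (∑ m : Fin 56, z m • uB m) ∈ Submodule.span ℤ (Set.range uB)
  exact Submodule.sum_mem _ fun m _ =>
    Submodule.smul_mem _ _ (Submodule.subset_span ⟨m, rfl⟩)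

theorem eq_comb_of_apply (v : RuVec) (z : Fin 56 → ℤ)
    (h : ∀ p : RuIdx, v p = ∑ m : Fin 56, ((z m : ℤ) : GaussianInt) * uB m p) :
    v = ∑ m : Fin 56, z m • uB m := by
  funext p
  rw [h p, Finset.sum_apply]
  refine Finset.sum_congr rfl fun m _ => ?_
  rw [Pi.smul_apply, zsmul_eq_mul]

/-- an additive map sending every basis vector into `spanU` preserves `spanU`. -/
theorem map_mem_of_cert (f : RuVec →+ RuVec) (c : List ℕ)
    (h : ∀ l : Fin 56, ∀ p : RuIdx,
      f (uB l) p = ∑ m : Fin 56, ((coefOf c l m : ℤ) : GaussianInt) * uB m p) :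
    ∀ v ∈ spanU, f v ∈ spanU := by
  intro v hv
  change v ∈ Submodule.span ℤ (Set.range uB) at hv
  induction hv using Submodule.span_induction with
  | mem x hx =>
    obtain ⟨l, rfl⟩ := hx
    rw [eq_comb_of_apply (f (uB l)) (fun m => coefOf c l m) (h l)]
    exact comb_mem _
  | zero => rw [map_zero]; exact spanU.zero_mem
  | add x y _ _ hx hy => rw [map_add]; exact spanU.add_mem hx hy
  | smul a x _ hx => rw [map_zsmul]; exact spanU.zsmul_mem hx a

set_option maxRecDepth 100000 in
theorem cert_I : ∀ l : Fin 56, ∀ p : RuIdx,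
    aI (uB l) p = ∑ m : Fin 56, ((coefOf cI l m : ℤ) : GaussianInt) * uB m p := by
  decide +kernel

set_option maxRecDepth 100000 in
theorem cert_J : ∀ l : Fin 56, ∀ p : RuIdx,
    aJ (uB l) p = ∑ m : Fin 56, ((coefOf cJ l m : ℤ) : GaussianInt) * uB m p := by
  decide +kernel

set_option maxRecDepth 100000 in
theorem cert_K : ∀ l : Fin 56, ∀ p : RuIdx,
    aK (uB l) p = ∑ m : Fin 56, ((coefOf cK l m : ℤ) : GaussianInt) * uB m p := by
  decide +kernel

set_option maxRecDepth 100000 in
theorem cert_S : ∀ l : Fin 56, ∀ p : RuIdx,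
    aS (uB l) p = ∑ m : Fin 56, ((coefOf cS l m : ℤ) : GaussianInt) * uB m p := by
  decide +kernel

set_option maxRecDepth 100000 in
theorem cert_H : ∀ l : Fin 56, ∀ p : RuIdx,
    aH (uB l) p = ∑ m : Fin 56, ((coefOf cH l m : ℤ) : GaussianInt) * uB m p := by
  decide +kernel

set_option maxRecDepth 100000 in
theorem cert_T : ∀ i : Fin 20, ∀ p : RuIdx,
    (ruTable.getD i.val 0) p = ∑ m : Fin 56, ((coefOf cT i m : ℤ) : GaussianInt) * uB m p := by
  decide +kernel

end Cfsg.Agent.Lib.Helper17.RuL
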