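/-
S1628 pack, leaf R1 (keystone 162801): `ruLattice ≤ spanU`, by the integer coefficient certificates of `RuCert`.
-/
import Cfsg.Agent.Lib.Helper17.RuR1a

set_option autoImplicit false

namespace Cfsg.Agent.Lib.Helper17.RuL

open Cfsg.Spor

theorem table_mem : ∀ v ∈ ruTable, v ∈ spanU := by
  intro v hv
  obtain ⟨i, hi, rfl⟩ := List.mem_iff_getElem.mp hv
  have hlen : ruTable.length = 20 := rfl
  have h20 : i < 20 := hlen ▸ hi
  have h : ruTable.getD i 0 = ∑ m : Fin 56, coefOf cT i m • uB m :=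
    eq_comb_of_apply _ (fun m => coefOf cT i m) (cert_T ⟨i, h20⟩)
  have hmem : ruTable.getD i 0 ∈ spanU := by
    rw [h]; exact comb_mem _
  have hget : ruTable.getD i 0 = ruTable[i]'hi := List.getD_eq_getElem _ _ hi
  rw [hget] at hmem
  exact hmem

/-- **K-Ru-R1** (keystone 162801). -/
theorem ruLattice_le_spanU : ruLattice ≤ spanU := by
  refine sInf_le ⟨table_mem, fun v hv => ⟨?_, ?_, ?_, ?_, ?_⟩⟩
  · exact map_mem_of_cert aI cI cert_I v hv
  · exact map_mem_of_cert aJ cJ cert_J v hv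
  · exact map_mem_of_cert aK cK cert_K v hv
  · exact map_mem_of_cert aS cS cert_S v hv
  · exact map_mem_of_cert aH cH cert_H v hv

end Cfsg.Agent.Lib.Helper17.RuL
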