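/-
S1628 pack, leaf R3 (keystone 162803), part a: the bitmask model and the enumeration of the `2^19` codewords.
-/
import Cfsg.Agent.Lib.Helper17.RuBasic

set_option autoImplicit false

namespace Cfsg.Agent.Lib.Helper17.RuL

open Cfsg.Spor

/-- parity bitmask of a list of integers (bit `j` = parity of entry `j`). -/
def maskOf : List ℤ → ℕ
  | [] => 0
  | a :: l => Nat.bit (decide (a % 2 = 1)) (maskOf l)

theorem testBit_maskOf (l : List ℤ) (j : ℕ) :
    (maskOf l).testBit j = decide (l.getD j 0 % 2 = 1) := by
  induction l generalizing j with
  | nil => simp [maskOf]
  | cons a l ih =>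
    cases j with
    | zero => simp [maskOf]
    | succ j => simp [maskOf, Nat.testBit_bit_succ, ih]

/-- entry `j` of row `m` of the basis table. -/
def tabE (m j : ℕ) : ℤ := (uTab.getD m []).getD j 0

/-- parity mask of row `m`. -/
def rowMask (m : ℕ) : ℕ := maskOf (uTab.getD m [])

theorem testBit_rowMask (m j : ℕ) : (rowMask m).testBit j = decide (tabE m j % 2 = 1) :=
  testBit_maskOf _ _

/-- the 19 parity masks of rows 0-18, as literals. -/
def gmLit : List ℕ := [63494237109389441, 48111420199428226, 22640603993483396, 36360002450538632,
  10232348377915536, 3069382341707936, 50804937564678336, 14450237094494208, 71793274167273728,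
  169585911294464, 14372380511095808, 14541496559599616, 72000790578917376, 67723576910348288,
  24371388204318720, 25068427039997952, 72056494526300160, 280379743272960, 71777214277877760]

theorem gmLit_eq : gmLit = (List.range 19).map rowMask := by decide +kernel

/-- the seven block masks. -/
def blkLit : List ℕ := [255, 65280, 16711680, 4278190080, 1095216660480, 280375465082880,
  71776119061217280]

/-- table of the popcounts of all bytes, 4 bits each. -/
def pcTbl : ℕ := 95125173855764218123276304889944061997689682402263585766959741291920687686033329201817409157123347502415384089435969498586180241031507595463600295898153685276653211633572815512294064538494957912327413386667662218713394765509704508661031522276467630197481635010039778342554499416459730172574551513689147646224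

/-- popcount of a byte, by table lookup (raw `Nat` functions: fast in the kernel). -/
def bytePc (b : ℕ) : ℕ := Nat.land (Nat.shiftRight pcTbl (Nat.mul 4 b)) 15

/-- number of set bits among the first 56, bytewise by table lookup. -/
def pcT (M : ℕ) : ℕ :=
  Nat.add (bytePc (Nat.land M 255)) (Nat.add (bytePc (Nat.land (Nat.shiftRight M 8) 255))
   (Nat.add (bytePc (Nat.land (Nat.shiftRight M 16) 255))
   (Nat.add (bytePc (Nat.land (Nat.shiftRight M 24) 255))
   (Nat.add (bytePc (Nat.land (Nat.shiftRight M 32) 255))
   (Nat.add (bytePc (Nat.land (Nat.shiftRight M 40) 255))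
    (bytePc (Nat.land (Nat.shiftRight M 48) 255)))))))

/-- the property checked for every codeword. -/
def goodMask (M : ℕ) : Bool := Nat.ble 16 (pcT M) || Nat.beq M 0 || blkLit.contains M

/-- all subset XORs of a list satisfy `P`. -/
def allXor (P : ℕ → Bool) : List ℕ → ℕ → Bool
  | [], acc => P acc
  | g :: gs, acc => allXor P gs acc && allXor P gs (Nat.xor acc g)

/-- XOR of the selected entries. -/
def xorSel : List Bool → List ℕ → ℕ
  | b :: bs, g :: gs => (bif b then g else 0) ^^^ xorSel bs gs
  | _, _ => 0

theorem allXor_sound (P : ℕ → Bool) (gs : List ℕ) (acc : ℕ) (h : allXor P gs acc = true)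
    (bs : List Bool) : P (acc ^^^ xorSel bs gs) = true := by
  induction gs generalizing acc bs with
  | nil =>
    cases bs <;> simpa [xorSel, allXor] using h
  | cons g gs ih =>
    rw [allXor, Bool.and_eq_true] at h
    cases bs with
    | nil => simpa [xorSel] using ih acc h.1 []
    | cons b bs =>
      cases b with
      | false =>
        have := ih acc h.1 bs
        simpa [xorSel] using this
      | true =>
        have := ih (acc ^^^ g) h.2 bs
        simpa [xorSel, Nat.xor_assoc] using this

set_option maxRecDepth 100000 in
set_option maxHeartbeats 0 in
theorem allXor_gmLit : allXor goodMask gmLit 0 = true := by decide +kernel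

theorem bytePc_spec : ∀ b < 256, bytePc b = (List.range 8).countP (fun k => b.testBit k) := by
  decide +kernel

set_option maxRecDepth 100000 in
/-- rows 19-55 of the table are even. -/
theorem tabE_even : ∀ m < 56, ∀ j < 56, 19 ≤ m → tabE m j % 2 = 0 := by decide +kernel

end Cfsg.Agent.Lib.Helper17.RuL
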