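/-
S1628 pack, leaf R3 (keystone 162803): the parity patterns of the vectors of `spanU`.
-/
import Cfsg.Agent.Lib.Helper17.RuR3a

set_option autoImplicit false

namespace Cfsg.Agent.Lib.Helper17.RuL

open Cfsg.Spor

/-- position of a real coordinate in the lists. -/
def posN (pe : RuIdx × Fin 2) : ℕ := 8 * pe.1.1.val + 2 * pe.1.2.val + pe.2.val

theorem posN_lt (pe : RuIdx × Fin 2) : posN pe < 56 := by
  obtain ⟨⟨n, t⟩, e⟩ := pe
  have := n.isLt; have := t.isLt; have := e.isLt
  simp only [posN]; omega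

theorem crd_vecOfList' (l : List ℤ) (pe : RuIdx × Fin 2) :
    crd (vecOfList l) pe = l.getD (posN pe) 0 := by
  obtain ⟨⟨n, t⟩, e⟩ := pe
  fin_cases e <;> simp [crd, vecOfList, posN]

theorem crd_uB (m : Fin 56) (pe : RuIdx × Fin 2) : crd (uB m) pe = tabE m.val (posN pe) := by
  rw [uB, crd_vecOfList']; rfl

/-- `crd · pe` as an additive map. -/
def crdHom (pe : RuIdx × Fin 2) : RuVec →+ ℤ where
  toFun v := crd v pe
  map_zero' := by simp [crd]
  map_add' v w := by
    simp only [crd, Pi.add_apply]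
    split_ifs <;> simp

theorem crd_comb (z : Fin 56 → ℤ) (pe : RuIdx × Fin 2) :
    crd (∑ m : Fin 56, z m • uB m) pe = ∑ m : Fin 56, z m * tabE m.val (posN pe) := by
  change crdHom pe (∑ m : Fin 56, z m • uB m) = _
  rw [map_sum]
  refine Finset.sum_congr rfl fun m _ => ?_
  rw [map_zsmul, smul_eq_mul]
  change z m * crd (uB m) pe = _
  rw [crd_uB]

theorem sum_map_range (f : ℕ → ℤ) (n : ℕ) :
    ((List.range n).map f).sum = ∑ m ∈ Finset.range n, f m := by
  induction n with
  | zero => simp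
  | succ n ih => rw [List.range_succ, List.map_append, List.sum_append, ih,
      Finset.sum_range_succ]; simp

theorem parity_lemma (a t S : ℤ) :
    ((decide (a % 2 = 1) && decide (t % 2 = 1)) ^^ decide (S % 2 = 1)) =
      decide ((a * t + S) % 2 = 1) := by
  rcases Int.emod_two_eq_zero_or_one a with ha | ha <;>
  rcases Int.emod_two_eq_zero_or_one t with ht | ht <;>
  rcases Int.emod_two_eq_zero_or_one S with hS | hS <;>
  simp [Int.add_emod, Int.mul_emod, ha, ht, hS]

theorem testBit_xorSel (zz : ℕ → ℤ) (j : ℕ) (ms : List ℕ) :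
    (xorSel (ms.map fun m => decide (zz m % 2 = 1)) (ms.map rowMask)).testBit j =
      decide (((ms.map fun m => zz m * tabE m j).sum) % 2 = 1) := by
  induction ms with
  | nil => simp [xorSel]
  | cons m ms ih =>
    simp only [List.map_cons, xorSel, List.sum_cons, Nat.testBit_xor, ih]
    rw [← parity_lemma (zz m) (tabE m j) ((ms.map fun m => zz m * tabE m j).sum)]
    congr 1
    by_cases h : zz m % 2 = 1
    · simp [h, testBit_rowMask]
    · simp [h]


/-- extension of the coefficients to `ℕ`. -/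
def zzOf (z : Fin 56 → ℤ) : ℕ → ℤ := fun m => if h : m < 56 then z ⟨m, h⟩ else 0

/-- the parity mask of the combination `Σ z_m uB_m`. -/
def maskZ (z : Fin 56 → ℤ) : ℕ :=
  xorSel ((List.range 19).map fun m => decide (zzOf z m % 2 = 1)) gmLit

theorem testBit_maskZ (z : Fin 56 → ℤ) (pe : RuIdx × Fin 2) :
    (maskZ z).testBit (posN pe) = decide (crd (∑ m : Fin 56, z m • uB m) pe % 2 = 1) := by
  have hj := posN_lt pe
  rw [maskZ, gmLit_eq, testBit_xorSel, sum_map_range, crd_comb]
  have h1 : ∑ m : Fin 56, z m * tabE m.val (posN pe) =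
      ∑ m ∈ Finset.range 56, zzOf z m * tabE m (posN pe) := by
    rw [← Fin.sum_univ_eq_sum_range (fun m => zzOf z m * tabE m (posN pe)) 56]
    refine Finset.sum_congr rfl fun m _ => ?_
    simp [zzOf]
  rw [h1, ← Finset.sum_range_add_sum_Ico _ (by norm_num : 19 ≤ 56)]
  have h2 : (2 : ℤ) ∣ ∑ m ∈ Finset.Ico 19 56, zzOf z m * tabE m (posN pe) := by
    refine Finset.dvd_sum fun m hm => ?_
    rw [Finset.mem_Ico] at hm
    exact Dvd.dvd.mul_left (Int.dvd_of_emod_eq_zero (tabE_even m hm.2 _ hj hm.1)) _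
  obtain ⟨k, hk⟩ := h2
  rw [hk, Int.add_mul_emod_self_left]

/-- number of set bits of `M` in byte `i`. -/
def byteCnt (M i : ℕ) : ℕ := (List.range 8).countP fun k => M.testBit (8 * i + k)

theorem bytePc_shift (M i : ℕ) :
    bytePc (Nat.land (Nat.shiftRight M (8 * i)) 255) = byteCnt M i := by
  have hb : Nat.land (Nat.shiftRight M (8 * i)) 255 < 256 :=
    Nat.and_lt_two_pow _ (by norm_num : 255 < 2 ^ 8)
  rw [bytePc_spec _ hb, byteCnt]
  refine List.countP_congr fun k hk => ?_
  rw [List.mem_range] at hk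
  change (((M >>> (8 * i)) &&& 255).testBit k = true) ↔ _
  rw [Nat.testBit_and, Nat.testBit_shiftRight]
  have h255 : Nat.testBit 255 k = true := by interval_cases k <;> rfl
  simp [h255]

theorem pcT_eq (M : ℕ) : pcT M = ∑ i ∈ Finset.range 7, byteCnt M i := by
  have h0 : bytePc (Nat.land M 255) = byteCnt M 0 := bytePc_shift M 0
  have h1 : bytePc (Nat.land (Nat.shiftRight M 8) 255) = byteCnt M 1 := bytePc_shift M 1
  have h2 : bytePc (Nat.land (Nat.shiftRight M 16) 255) = byteCnt M 2 := bytePc_shift M 2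
  have h3 : bytePc (Nat.land (Nat.shiftRight M 24) 255) = byteCnt M 3 := bytePc_shift M 3
  have h4 : bytePc (Nat.land (Nat.shiftRight M 32) 255) = byteCnt M 4 := bytePc_shift M 4
  have h5 : bytePc (Nat.land (Nat.shiftRight M 40) 255) = byteCnt M 5 := bytePc_shift M 5
  have h6 : bytePc (Nat.land (Nat.shiftRight M 48) 255) = byteCnt M 6 := bytePc_shift M 6
  unfold pcT
  rw [h0, h1, h2, h3, h4, h5, h6]
  simp only [Finset.sum_range_succ, Finset.sum_range_zero]
  show byteCnt M 0 + (byteCnt M 1 + (byteCnt M 2 + (byteCnt M 3 + (byteCnt M 4 +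
    (byteCnt M 5 + byteCnt M 6))))) = _
  ring


theorem card_eq_pcT (S : Finset (RuIdx × Fin 2)) (M : ℕ)
    (hS : ∀ pe, pe ∈ S ↔ M.testBit (posN pe) = true) : S.card = pcT M := by
  have hSf : S = Finset.univ.filter (fun pe : RuIdx × Fin 2 => M.testBit (posN pe) = true) := by
    ext pe; simp [hS]
  rw [hSf, Finset.card_filter, pcT_eq, Fintype.sum_prod_type,
    Fintype.sum_prod_type (f := fun p : RuIdx => ∑ e : Fin 2,
      if M.testBit (posN (p, e)) = true then 1 else 0),
    ← Fin.sum_univ_eq_sum_range (fun i => byteCnt M i) 7]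
  refine Finset.sum_congr rfl fun n _ => ?_
  have hr : List.range 8 = [0, 1, 2, 3, 4, 5, 6, 7] := by decide
  simp only [byteCnt, hr, List.countP_cons, List.countP_nil, Fin.sum_univ_four, Fin.sum_univ_two,
    posN]
  norm_num
  ring

theorem blk_testBit : ∀ n : Fin 7, ∀ pe : RuIdx × Fin 2,
    (blkLit.getD n.val 0).testBit (posN pe) = decide (pe.1.1 = n) := by decide +kernel

/-- **K-Ru-R3** (keystone 162803). -/
theorem oddSet_cases {x : RuVec} (hx : x ∈ spanU) :
    oddSet x = ∅ ∨ 16 ≤ (oddSet x).card ∨ ∃ n : Fin 7, oddSet x = block n := by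
  change x ∈ Submodule.span ℤ (Set.range uB) at hx
  obtain ⟨z, rfl⟩ := (Submodule.mem_span_range_iff_exists_fun ℤ).mp hx
  have hgood : goodMask (maskZ z) = true := by
    have := allXor_sound goodMask gmLit 0 allXor_gmLit
      ((List.range 19).map fun m => decide (zzOf z m % 2 = 1))
    simpa [maskZ] using this
  have hmem : ∀ pe, pe ∈ oddSet (∑ m : Fin 56, z m • uB m) ↔
      (maskZ z).testBit (posN pe) = true := by
    intro pe
    rw [testBit_maskZ]
    simp [oddSet]
  unfold goodMask at hgood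
  rw [Bool.or_eq_true, Bool.or_eq_true] at hgood
  rcases hgood with (h16 | h0) | hblk
  · right; left
    rw [card_eq_pcT _ _ hmem]
    exact Nat.le_of_ble_eq_true h16
  · left
    have hM : maskZ z = 0 := Nat.eq_of_beq_eq_true h0
    rw [Finset.eq_empty_iff_forall_notMem]
    intro pe hpe
    have := (hmem pe).mp hpe
    rw [hM] at this
    simp at this
  · right; right
    have hb : maskZ z ∈ blkLit := by simpa using hblk
    obtain ⟨i, hi, hiM⟩ := List.mem_iff_getElem.mp hb
    have hi7 : i < 7 := hi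
    refine ⟨⟨i, hi7⟩, ?_⟩
    ext pe
    rw [hmem pe, ← hiM]
    have := blk_testBit ⟨i, hi7⟩ pe
    rw [List.getD_eq_getElem _ _ hi] at this
    rw [this]
    simp [block]

end Cfsg.Agent.Lib.Helper17.RuL
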