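import Mathlib
import Cfsg.Agent.Lib.Helper17.PSMain
import Cfsg.Agent.Lib.Helper28.S3GroupE
import Cfsg.Agent.Lib.Helper28.Sharp3Conv

/-!
# From sharply 3-transitive geometry (helper28's `S3Setup`) to the principal series data (helper17)
-/

set_option autoImplicit false
set_option linter.style.haveILetI false
set_option linter.unusedSectionVars false

namespace Cfsg.Agent.Lib.Helper17.S3B

open MulAction Cfsg Cfsg.Agent.Lib Cfsg.Agent.Lib.Helper28

variable {G Ω : Type*} [Group G] [MulAction G Ω] {a b c : Ω} {s : G} {F : Subgroup G}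

/-- the fixed points of a nontrivial element of the two point stabilizer are `a` and `b` only -/
theorem fix_H (h : S3Setup G Ω a b c s) {g : G} (hga : g • a = a) (hgb : g • b = b) (hg1 : g ≠ 1)
    {y : Ω} (hy : g • y = y) : y = a ∨ y = b := by
  by_contra hcon
  push Not at hcon
  exact hg1 (h.pre.three g a b y h.hab (Ne.symm hcon.2) (Ne.symm hcon.1) hga hgb hy)

theorem s_inv' (h : S3Setup G Ω a b c s) : s⁻¹ = s := h.s_inv

/-- the principal series data of a sharply 3-transitive group -/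
theorem data [Finite G] [Fintype Ω] (h : S3Setup G Ω a b c s) (hF : IsKer G a F) {q : ℕ}
    (hq : Fintype.card Ω = q + 1) :
    PS.Data q (stabilizer G a) F (stabilizer G a ⊓ stabilizer G b) s := by
  have h3 := h.three_le_card
  have hcH := h.card_H
  have hcF := h.card_F hF
  have hcG := h.card_G hF
  refine
    { hKB := hF.le
      hHB := inf_le_left
      hKn := fun x hx k hk => hF.conj_mem (mem_stabilizer_iff.mp hx) hk
      hKH := ?_
      hBKH := ?_
      hcardK := by rw [hcF, hq]; omega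
      hcardH := by rw [hcH, hq]; omega
      hcardG := by rw [hcG, hcH, hq]; congr 2
      hv2 := h.s_sq
      hvB := ?_
      hvH := ?_
      hfixH := ?_
      hfixK := ?_
      hfree := ?_
      hKtrans := ?_ }
  · -- hKH
    intro x hxF hxH
    by_contra hx1
    exact hF.fpf x hxF hx1 b (Ne.symm h.hab) (S3Setup.mem_H_iff.mp hxH).2
  · -- hBKH
    intro x hx
    obtain ⟨y, hy, -⟩ := h.exists_unique_decomp hF (mem_stabilizer_iff.mp hx)
    exact ⟨x * (y : G)⁻¹, hy, (y : G), y.2, by group⟩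
  · -- hvB
    intro hs
    have := mem_stabilizer_iff.mp hs
    rw [h.sa] at this
    exact h.hab this.symm
  · -- hvH
    intro g hg
    obtain ⟨hga, hgb⟩ := S3Setup.mem_H_iff.mp hg
    rw [h.s_inv]
    refine S3Setup.mem_H_iff.mpr ⟨?_, ?_⟩
    · rw [mul_smul, mul_smul, h.sa, hgb, h.sb]
    · rw [mul_smul, mul_smul, h.sb, hga, h.sa]
  · -- hfixH
    intro g hg hg1 x hx
    obtain ⟨hga, hgb⟩ := S3Setup.mem_H_iff.mp hg
    have hx' := mem_stabilizer_iff.mp hx
    have hfix : g • (x • a) = x • a := by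
      have : x • ((x⁻¹ * g * x) • a) = x • a := by rw [hx']
      rwa [← mul_smul, show x * (x⁻¹ * g * x) = g * x by group, mul_smul] at this
    rcases fix_H h hga hgb hg1 hfix with h1 | h1
    · exact Or.inl (mem_stabilizer_iff.mpr h1)
    · right
      rw [mem_stabilizer_iff, mul_smul, h1, h.s_inv, h.sb]
  · -- hfixK
    intro k hk hk1 x hx
    have hx' := mem_stabilizer_iff.mp hx
    have hfix : k • (x • a) = x • a := by
      have : x • ((x⁻¹ * k * x) • a) = x • a := by rw [hx']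
      rwa [← mul_smul, show x * (x⁻¹ * k * x) = k * x by group, mul_smul] at this
    by_contra hxB
    exact hF.fpf k hk hk1 (x • a) (fun hh => hxB (mem_stabilizer_iff.mpr hh)) hfix
  · -- hfree
    intro g hg hg1 k hk hcomm
    obtain ⟨hga, hgb⟩ := S3Setup.mem_H_iff.mp hg
    have hfix : g • (k • b) = k • b := by
      rw [← mul_smul, hcomm, mul_smul, hgb]
    by_contra hk1
    rcases fix_H h hga hgb hg1 hfix with h1 | h1
    · have hka := hF.smul_a hk
      rw [← hka] at h1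
      exact h.hab (MulAction.injective k h1).symm
    · exact hF.fpf k hk hk1 b (Ne.symm h.hab) h1
  · -- hKtrans
    intro k hk hk1 k' hk' hk'1
    have hne : ∀ f ∈ F, f ≠ 1 → f • b ≠ a ∧ f • b ≠ b := by
      intro f hf hf1
      refine ⟨?_, hF.fpf f hf hf1 b (Ne.symm h.hab)⟩
      intro h1
      have hfa := hF.smul_a hf
      rw [← hfa] at h1
      exact h.hab (MulAction.injective f h1).symm
    obtain ⟨g, hga, hgb, hg⟩ := h.reg (k • b) (k' • b) (hne k hk hk1).1 (hne k hk hk1).2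
      (hne k' hk' hk'1).1 (hne k' hk' hk'1).2
    refine ⟨g, S3Setup.mem_H_iff.mpr ⟨hga, hgb⟩, ?_⟩
    apply hF.eq_of_smul_eq (hF.conj_mem hga hk) hk' (Ne.symm h.hab)
    rw [mul_smul, mul_smul, inv_smul_eq_iff.mpr hgb.symm, hg]

/-- the kernel has prime power order -/
theorem exists_prime_pow {G : Type*} [Group G] [Finite G] {q : ℕ} {B K H : Subgroup G} {v : G}
    (hd : PS.Data q B K H v) : ∃ p f : ℕ, p.Prime ∧ q = p ^ f ∧ 0 < f := by
  have hq2 : 2 ≤ q := by
    have h1 := hd.hcardH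
    have h2 : 0 < Nat.card H := Nat.card_pos
    omega
  obtain ⟨p, hp, hpq⟩ := Nat.exists_prime_and_dvd (by omega : q ≠ 1)
  haveI : Fact p.Prime := ⟨hp⟩
  obtain ⟨k₀, hk₀⟩ := exists_prime_orderOf_dvd_card' (G := K) p (by rw [hd.hcardK]; exact hpq)
  have hk₀1 : (k₀ : G) ≠ 1 := by
    intro h1
    have : k₀ = 1 := Subtype.ext h1
    rw [this, orderOf_one] at hk₀
    exact hp.one_lt.ne hk₀
  have hk₀p : (k₀ : G) ^ p = 1 := by
    have : k₀ ^ p = 1 := by rw [← hk₀]; exact pow_orderOf_eq_one k₀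
    have := congrArg (Subtype.val) this
    simpa using this
  have hP : IsPGroup p K := by
    intro k
    by_cases hk1 : (k : G) = 1
    · exact ⟨0, by rw [pow_zero, pow_one]; exact Subtype.ext hk1⟩
    · obtain ⟨h, hh, hhk⟩ := hd.hKtrans k₀ k₀.2 hk₀1 k k.2 hk1
      refine ⟨1, ?_⟩
      rw [pow_one]
      apply Subtype.ext
      rw [Subgroup.coe_pow, Subgroup.coe_one, ← hhk, conj_pow, hk₀p]
      group
  obtain ⟨n, hn⟩ := IsPGroup.iff_card.mp hP
  rw [hd.hcardK] at hn
  refine ⟨p, n, hp, hn, ?_⟩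
  rcases Nat.eq_zero_or_pos n with h0 | h0
  · rw [h0, pow_zero] at hn; omega
  · exact h0

/-- two involutions with fixed points whose product is a nontrivial element of the two point
stabilizer both interchange `a` and `b` -/
theorem pair_lemma [Fintype G] (h : S3Setup G Ω a b c s) (hF : IsKer G a F) {z : G}
    (hza : z • a = a) (hzb : z • b = b) (hz1 : z ≠ 1) (hzz : z * z = 1)
    {x y g : G} (hx : x ∈ invZ G Ω) (hy : y ∈ invZ G Ω) (hxy : x * y = g)
    (hga : g • a = a) (hgb : g • b = b) (hg1 : g ≠ 1) :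
    x ∈ invZc G a b ∧ y ∈ invZc G a b ∧ x ≠ y := by
  haveI : Finite G := Finite.of_fintype G
  obtain ⟨hxx, hx1, -⟩ := mem_invZ.mp hx
  obtain ⟨hyy, hy1, -⟩ := mem_invZ.mp hy
  have hxi : x⁻¹ = x := inv_eq_of_mul_eq_one_right hxx
  have hyi : y⁻¹ = y := inv_eq_of_mul_eq_one_right hyy
  have hinv : x * g * x⁻¹ = g⁻¹ := by
    rw [← hxy, mul_inv_rev, hxi, hyi]
    calc x * (x * y) * x = (x * x) * y * x := by group
      _ = y * x := by rw [hxx, one_mul]
  have hgia : g⁻¹ • a = a := by rw [inv_smul_eq_iff, hga]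
  have hgib : g⁻¹ • b = b := by rw [inv_smul_eq_iff, hgb]
  have hfixa : g • (x • a) = x • a := by
    have h1 : (x * g * x⁻¹) • (x • a) = x • a := by
      rw [← mul_smul, show x * g * x⁻¹ * x = x * g by group, mul_smul, hga]
    rw [hinv, inv_smul_eq_iff] at h1
    exact h1.symm
  have hfixb : g • (x • b) = x • b := by
    have h1 : (x * g * x⁻¹) • (x • b) = x • b := by
      rw [← mul_smul, show x * g * x⁻¹ * x = x * g by group, mul_smul, hgb]
    rw [hinv, inv_smul_eq_iff] at h1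
    exact h1.symm
  have hxne : x • a ≠ x • b := fun hh => h.hab (MulAction.injective x hh)
  have hne : x ≠ y := by
    intro hh
    rw [← hh, hxx] at hxy
    exact hg1 hxy.symm
  have hya_of : y • a = x • (g • a) := by
    rw [← hxy, ← mul_smul, ← mul_assoc, hxx, one_mul]
  have hyb_of : y • b = x • (g • b) := by
    rw [← hxy, ← mul_smul, ← mul_assoc, hxx, one_mul]
  rw [hga] at hya_of
  rw [hgb] at hyb_of
  rcases fix_H h hga hgb hg1 hfixa with hxa | hxa
  · -- `x` fixes `a`, hence `b`: contradiction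
    exfalso
    have hxb : x • b = b := by
      rcases fix_H h hga hgb hg1 hfixb with h2 | h2
      · exact absurd (hxa.trans h2.symm) hxne
      · exact h2
    have e1 : x = z := h.invol_unique hF hxa hxb hxx hx1 hza hzb hzz hz1
    have e2 : y = z :=
      h.invol_unique hF (hya_of.trans hxa) (hyb_of.trans hxb) hyy hy1 hza hzb hzz hz1
    exact hne (e1.trans e2.symm)
  · exact ⟨mem_invZc.mpr ⟨hx, hxa⟩, mem_invZc.mpr ⟨hy, hya_of.trans hxa⟩, hne⟩

/-- the conjugacy class of `z` is the set of involutions with a fixed point -/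
theorem isConj_iff_mem_invZ [Fintype G] [Fintype Ω] (h : S3Setup G Ω a b c s) (hF : IsKer G a F)
    (hev : Even (Fintype.card Ω)) {z : G} (hza : z • a = a) (hzb : z • b = b) (hz1 : z ≠ 1)
    (hzz : z * z = 1) (x : G) : IsConj z x ↔ x ∈ invZ G Ω := by
  constructor
  · intro hx
    obtain ⟨g, hg⟩ := isConj_iff.mp hx
    rw [← hg]
    exact conj_mem_invZ (mem_invZ.mpr ⟨hzz, hz1, a, hza⟩) g
  · intro hx
    obtain ⟨g, hg⟩ := h.invZ_conj hF hev hza hzb hz1 hzz hx
    exact isConj_iff.mpr ⟨g, hg.symm⟩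

/-- the size of the class of `z` -/
theorem card_class [Fintype G] [Fintype Ω] (h : S3Setup G Ω a b c s) (hF : IsKer G a F)
    (hev : Even (Fintype.card Ω)) {q : ℕ} (hq : Fintype.card Ω = q + 1) {z : G}
    (hza : z • a = a) (hzb : z • b = b) (hz1 : z ≠ 1)
    (hzz : z * z = 1) (hsz : s * z = z * s)
    (hzuniq : ∀ x : G, x • a = a → x • b = b → s * x = x * s → x = 1 ∨ x = z) :
    Nat.card {x : G // IsConj z x} * 2 = q * (q + 1) := by
  classical
  haveI : Finite G := Finite.of_fintype G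
  have h3 := h.three_le_card
  rw [Nat.card_congr (Equiv.subtypeEquivRight (isConj_iff_mem_invZ h hF hev hza hzb hz1 hzz)),
    Nat.card_eq_finsetCard, h.card_invZ, h.card_invZc_a hF hev hza hzb hz1 hzz, h.card_F hF]
  have h2 := h.card_invZc_b hza hzb hz1 hsz hzuniq
  rw [h.card_H] at h2
  rw [hq] at h2 ⊢
  have h4 : q + 1 - 1 = q := by omega
  rw [h4]
  have h5 : 2 * (invZc G a b).card + 1 = q := by omega
  generalize (invZc G a b).card = m at h5
  subst h5
  ring

/-- the number of pairs of conjugates of `z` with product in `H ∖ 1` -/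
theorem pair_count [Fintype G] [Fintype Ω] (h : S3Setup G Ω a b c s) (hF : IsKer G a F)
    (hev : Even (Fintype.card Ω)) {q : ℕ} (hq : Fintype.card Ω = q + 1) {z : G}
    (hza : z • a = a) (hzb : z • b = b) (hz1 : z ≠ 1)
    (hzz : z * z = 1) (hsz : s * z = z * s)
    (hzuniq : ∀ x : G, x • a = a → x • b = b → s * x = x * s → x = 1 ∨ x = z)
    [Fintype ↥(stabilizer G a ⊓ stabilizer G b)] [DecidableEq ↥(stabilizer G a ⊓ stabilizer G b)]
    (cnt : ↥(stabilizer G a ⊓ stabilizer G b) → ℕ)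
    (hcnt : ∀ g : ↥(stabilizer G a ⊓ stabilizer G b), cnt g = Nat.card {p : G × G //
      IsConj z p.1 ∧ IsConj z p.2 ∧ p.1 * p.2 = (g : G)}) :
    (∑ g : ↥(stabilizer G a ⊓ stabilizer G b), if g = 1 then 0 else cnt g) * 4 =
      (q - 1) * (q - 3) := by
  classical
  haveI : Finite G := Finite.of_fintype G
  have h3 := h.three_le_card
  have hconj := isConj_iff_mem_invZ h hF hev hza hzb hz1 hzz
  set Zab := invZc G a b with hZab
  -- the summands
  have hterm : ∀ g : ↥(stabilizer G a ⊓ stabilizer G b), (if g = 1 then 0 else cnt g) =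
      (Zab.offDiag.filter (fun p : G × G => p.1 * p.2 = (g : G))).card := by
    intro g
    obtain ⟨hga, hgb⟩ := S3Setup.mem_H_iff.mp g.2
    by_cases hg : g = 1
    · rw [if_pos hg]
      symm
      rw [Finset.card_eq_zero, Finset.filter_eq_empty_iff]
      intro p hp hpg
      rw [hg, Subgroup.coe_one] at hpg
      obtain ⟨hp1, hp2, hne⟩ := Finset.mem_offDiag.mp hp
      obtain ⟨hyy, -, -⟩ := mem_invZ.mp (mem_invZc.mp hp2).1
      apply hne
      calc p.1 = p.1 * (p.2 * p.2) := by rw [hyy, mul_one]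
        _ = (p.1 * p.2) * p.2 := by group
        _ = p.2 := by rw [hpg, one_mul]
    · rw [if_neg hg, hcnt g]
      have hg1 : (g : G) ≠ 1 := fun hh => hg (Subtype.ext hh)
      rw [← Nat.card_eq_finsetCard]
      apply Nat.card_congr
      apply Equiv.subtypeEquivRight
      intro p
      rw [Finset.mem_filter, Finset.mem_offDiag, hconj, hconj]
      constructor
      · rintro ⟨hp1, hp2, hpg⟩
        obtain ⟨k1, k2, k3⟩ := pair_lemma h hF hza hzb hz1 hzz hp1 hp2 hpg hga hgb hg1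
        exact ⟨⟨k1, k2, k3⟩, hpg⟩
      · rintro ⟨⟨k1, k2, -⟩, hpg⟩
        exact ⟨(mem_invZc.mp k1).1, (mem_invZc.mp k2).1, hpg⟩
  simp only [hterm]
  -- fibrewise count
  have hmaps : ∀ p ∈ Zab.offDiag, p.1 * p.2 ∈
      (Finset.univ : Finset ↥(stabilizer G a ⊓ stabilizer G b)).map
        (Function.Embedding.subtype _) := by
    intro p hp
    obtain ⟨hp1, hp2, -⟩ := Finset.mem_offDiag.mp hp
    obtain ⟨k1, k1a⟩ := mem_invZc.mp hp1
    obtain ⟨k2, k2a⟩ := mem_invZc.mp hp2
    obtain ⟨hxx, -, -⟩ := mem_invZ.mp k1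
    obtain ⟨hyy, -, -⟩ := mem_invZ.mp k2
    have k1b : p.1 • b = a := by rw [← k1a, ← mul_smul, hxx, one_smul]
    have k2b : p.2 • b = a := by rw [← k2a, ← mul_smul, hyy, one_smul]
    rw [Finset.mem_map]
    refine ⟨⟨p.1 * p.2, S3Setup.mem_H_iff.mpr ⟨?_, ?_⟩⟩, Finset.mem_univ _, rfl⟩
    · rw [mul_smul, k2a, k1b]
    · rw [mul_smul, k2b, k1a]
  have hfib := Finset.card_eq_sum_card_fiberwise hmaps
  rw [Finset.sum_map] at hfib
  have hfib' : ∑ g : ↥(stabilizer G a ⊓ stabilizer G b),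
      (Zab.offDiag.filter (fun p : G × G => p.1 * p.2 = (g : G))).card = Zab.offDiag.card := by
    rw [hfib]
    rfl
  rw [hfib', Finset.offDiag_card]
  have h2 := h.card_invZc_b hza hzb hz1 hsz hzuniq
  rw [h.card_H, hq] at h2
  rw [← hZab] at h2
  generalize Zab.card = m at h2
  have e1 : q - 1 = 2 * m := by omega
  have e2 : q - 3 = 2 * (m - 1) := by omega
  rw [e1, e2, ← Nat.mul_sub_one]
  ring

/-- **Main theorem**: a sharply 3-transitive group of even degree has a linear character which is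
`±1` on the two point stabilizer and takes the value `-1` there. -/
theorem exists_hom [Finite Ω] (h : S3Setup G Ω a b c s) (hev : Even (Nat.card Ω)) :
    ∃ φ : G →* ℂˣ, (∃ x : G, x • a = a ∧ x • b = b ∧ φ x = -1) ∧
      ∀ x : G, x • a = a → x • b = b → φ x = 1 ∨ φ x = -1 := by
  classical
  haveI : Finite G := h.pre.finite
  haveI : Fintype G := Fintype.ofFinite G
  haveI : Fintype Ω := Fintype.ofFinite Ω
  have hev' : Even (Fintype.card Ω) := by rwa [Nat.card_eq_fintype_card] at hev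
  obtain ⟨F, hF⟩ := h.pre.exists_isKer a
  have h3 := h.three_le_card
  obtain ⟨q, hq⟩ : ∃ q, Fintype.card Ω = q + 1 := ⟨Fintype.card Ω - 1, by omega⟩
  have hd := data h hF hq
  obtain ⟨p, f, hp, hqp, hf⟩ := exists_prime_pow hd
  obtain ⟨z, hza, hzb, hz1, hzz, hsz, hzu⟩ := h.exists_z hev'
  haveI : Fintype ↥F := Fintype.ofFinite _
  haveI : Fintype ↥(stabilizer G a ⊓ stabilizer G b) := Fintype.ofFinite _
  haveI : Fintype (IrrCharacter G) := Fintype.ofFinite _
  haveI : Fintype (IrrCharacter ↥(stabilizer G a ⊓ stabilizer G b)) := Fintype.ofFinite _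
  let zH : ↥(stabilizer G a ⊓ stabilizer G b) := ⟨z, S3Setup.mem_H_iff.mpr ⟨hza, hzb⟩⟩
  have hzH1 : zH ≠ 1 := fun hh => hz1 (congrArg Subtype.val hh)
  have hzH2 : zH * zH = 1 := Subtype.ext hzz
  have hzHc : ∀ x : ↥(stabilizer G a ⊓ stabilizer G b), x * zH = zH * x := by
    intro x
    obtain ⟨hxa, hxb⟩ := S3Setup.mem_H_iff.mp x.2
    exact Subtype.ext (h.invol_central hF hza hzb hzz hz1 hxa hxb)
  have hzHv : hd.tau zH = zH := by
    apply Subtype.ext
    rw [PS.Data.tau_apply]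
    show s * z * s⁻¹ = z
    rw [hsz]; group
  have hcls : Nat.card {x : G // IsConj ((zH : ↥(stabilizer G a ⊓ stabilizer G b)) : G) x} * 2 =
      q * (q + 1) := card_class h hF hev' hq hza hzb hz1 hzz hsz hzu
  obtain ⟨ν, hν1, hνne, -, hν2, ψ, hψ1, hψν⟩ := hd.main hp hqp hf zH hzH1 hzH2 hzHc hzHv hcls
    (fun g => Nat.card {p : G × G // IsConj (zH : G) p.1 ∧ IsConj (zH : G) p.2 ∧
      p.1 * p.2 = (g : G)}) (fun g => rfl)
    (pair_count h hF hev' hq hza hzb hz1 hzz hsz hzu _ (fun g => rfl))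
  obtain ⟨φ, hφ⟩ := Helper20.exists_hom_of_linear (Helper83.IrrCharacter_isCharacter ψ) hψ1
  have hφv : ∀ g : G, ((φ g : ℂˣ) : ℂ) = (ψ : G → ℂ) g := by
    intro g
    rw [← hφ, Helper20.homFun_apply]
  -- the values of `ψ` on `H`
  have hvals : ∀ x : ↥(stabilizer G a ⊓ stabilizer G b),
      (ψ : G → ℂ) (x : G) = (ν : ↥(stabilizer G a ⊓ stabilizer G b) → ℂ) x := by
    intro x
    by_cases hx : x = 1
    · rw [hx, Subgroup.coe_one, hψ1, hν1]
    · exact hψν x hx
  have hpm : ∀ x : ↥(stabilizer G a ⊓ stabilizer G b),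
      (ν : ↥(stabilizer G a ⊓ stabilizer G b) → ℂ) x = 1 ∨
      (ν : ↥(stabilizer G a ⊓ stabilizer G b) → ℂ) x = -1 := by
    intro x
    have := hν2 x
    have h0 : ((ν : ↥(stabilizer G a ⊓ stabilizer G b) → ℂ) x - 1) *
        ((ν : ↥(stabilizer G a ⊓ stabilizer G b) → ℂ) x + 1) = 0 := by
      linear_combination this
    rcases mul_eq_zero.mp h0 with h1 | h1
    · left; linear_combination h1
    · right; linear_combination h1
  refine ⟨φ, ?_, ?_⟩
  · -- a value `-1`
    have hex : ∃ x : ↥(stabilizer G a ⊓ stabilizer G b),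
        (ν : ↥(stabilizer G a ⊓ stabilizer G b) → ℂ) x ≠ 1 := by
      by_contra hcon
      push Not at hcon
      apply hνne
      apply Helper83.eq_trivChar_of_forall_eq
      intro g
      rw [hcon g, hν1]
    obtain ⟨x, hx⟩ := hex
    obtain ⟨hxa, hxb⟩ := S3Setup.mem_H_iff.mp x.2
    refine ⟨(x : G), hxa, hxb, ?_⟩
    apply Units.ext
    rw [hφv, hvals x]
    rcases hpm x with h1 | h1
    · exact absurd h1 hx
    · rw [h1]; simp
  · intro x hxa hxb
    have hxH : x ∈ stabilizer G a ⊓ stabilizer G b := S3Setup.mem_H_iff.mpr ⟨hxa, hxb⟩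
    rcases hpm ⟨x, hxH⟩ with h1 | h1
    · left
      apply Units.ext
      rw [hφv, hvals ⟨x, hxH⟩, h1]; simp
    · right
      apply Units.ext
      rw [hφv, hvals ⟨x, hxH⟩, h1]; simp

/-- a sharply 3-transitive group of even degree: nontrivial linear character, and an `s`-invariant
normal subgroup of index two of the two point stabilizer -/
theorem exists_index_two [Finite Ω] (h : S3Setup G Ω a b c s) (hev : Even (Nat.card Ω)) :
    (∃ φ : G →* ℂˣ, ∃ x : G, x • a = a ∧ x • b = b ∧ φ x ≠ 1) ∧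
    (∃ N0 : Subgroup G, N0 ≤ stabilizer G a ⊓ stabilizer G b ∧
      (N0.subgroupOf (stabilizer G a ⊓ stabilizer G b)).Normal ∧
      N0.relIndex (stabilizer G a ⊓ stabilizer G b) = 2 ∧ ∀ n ∈ N0, s * n * s⁻¹ ∈ N0) := by
  obtain ⟨φ, ⟨x₀, hx₀a, hx₀b, hx₀⟩, hpm⟩ := exists_hom h hev
  have hneg : (-1 : ℂˣ) ≠ 1 := by
    intro hh
    have := congrArg (fun u : ℂˣ => (u : ℂ)) hh
    simp only [Units.val_neg, Units.val_one] at this
    norm_num at this
  refine ⟨⟨φ, x₀, hx₀a, hx₀b, by rw [hx₀]; exact hneg⟩, ?_⟩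
  refine ⟨φ.ker ⊓ (stabilizer G a ⊓ stabilizer G b), inf_le_right, ?_, ?_, ?_⟩
  · -- normal
    constructor
    intro n hn g
    rw [Subgroup.mem_subgroupOf] at hn ⊢
    have h1 : φ (n : G) = 1 := MonoidHom.mem_ker.mp (Subgroup.mem_inf.mp hn).1
    refine Subgroup.mem_inf.mpr ⟨?_, ?_⟩
    · show ((g * n * g⁻¹ : ↥(stabilizer G a ⊓ stabilizer G b)) : G) ∈ φ.ker
      rw [MonoidHom.mem_ker]
      simp only [Subgroup.coe_mul, Subgroup.coe_inv, map_mul, map_inv, h1]
      simp
    · exact (g * n * g⁻¹).2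
  · -- index two
    rw [Subgroup.relIndex, Subgroup.index_eq_two_iff]
    refine ⟨⟨x₀, S3Setup.mem_H_iff.mpr ⟨hx₀a, hx₀b⟩⟩, ?_⟩
    intro y
    obtain ⟨hya, hyb⟩ := S3Setup.mem_H_iff.mp y.2
    have hmem : ∀ w : ↥(stabilizer G a ⊓ stabilizer G b),
        w ∈ (φ.ker ⊓ (stabilizer G a ⊓ stabilizer G b)).subgroupOf
          (stabilizer G a ⊓ stabilizer G b) ↔ φ (w : G) = 1 := by
      intro w
      rw [Subgroup.mem_subgroupOf, Subgroup.mem_inf, MonoidHom.mem_ker]
      exact ⟨fun hh => hh.1, fun hh => ⟨hh, w.2⟩⟩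
    rw [hmem, hmem]
    have hmul : φ ((y * ⟨x₀, S3Setup.mem_H_iff.mpr ⟨hx₀a, hx₀b⟩⟩ :
        ↥(stabilizer G a ⊓ stabilizer G b)) : G) = φ (y : G) * -1 := by
      rw [Subgroup.coe_mul, map_mul, hx₀]
    rw [hmul]
    rcases hpm (y : G) hya hyb with h1 | h1
    · rw [h1, one_mul]
      exact Or.inr ⟨rfl, hneg⟩
    · rw [h1]
      refine Or.inl ⟨by simp, hneg⟩
  · intro n hn
    obtain ⟨hn1, hn2⟩ := Subgroup.mem_inf.mp hn
    obtain ⟨hna, hnb⟩ := S3Setup.mem_H_iff.mp hn2
    refine Subgroup.mem_inf.mpr ⟨?_, ?_⟩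
    · rw [MonoidHom.mem_ker] at hn1 ⊢
      simp only [map_mul, map_inv, hn1]
      simp
    · rw [h.s_inv]
      refine S3Setup.mem_H_iff.mpr ⟨?_, ?_⟩
      · rw [mul_smul, mul_smul, h.sa, hnb, h.sb]
      · rw [mul_smul, mul_smul, h.sb, hna, h.sa]

theorem exists_ne3 [Finite Ω] (h4 : 4 ≤ Nat.card Ω) (x y z : Ω) :
    ∃ w, w ≠ x ∧ w ≠ y ∧ w ≠ z := by
  classical
  haveI := Fintype.ofFinite Ω
  by_contra hcon
  push Not at hcon
  have hsub : (Finset.univ : Finset Ω) ⊆ {x, y, z} := by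
    intro w _
    simp only [Finset.mem_insert, Finset.mem_singleton]
    by_cases h1 : w = x
    · exact Or.inl h1
    · by_cases h2 : w = y
      · exact Or.inr (Or.inl h2)
      · exact Or.inr (Or.inr (hcon w h1 h2))
  have h1 := Finset.card_le_card hsub
  have h2 : ({x, y, z} : Finset Ω).card ≤ 3 := Finset.card_le_three
  rw [Finset.card_univ, ← Nat.card_eq_fintype_card] at h1
  omega

/-- a faithful sharply 3-transitive action on at least four points gives an `S3Setup` -/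
theorem setup_of_sharp3 [Finite Ω] (h : Sharp3 G Ω)
    (hfaith : ∀ g : G, (∀ x : Ω, g • x = x) → g = 1) (h4 : 4 ≤ Nat.card Ω)
    (hab : a ≠ b) (hca : c ≠ a) (hcb : c ≠ b) (sa : s • a = b) (sb : s • b = a) (sc : s • c = c) :
    S3Setup G Ω a b c s := by
  refine
    { pre := ⟨hfaith, ?_, ?_, ?_⟩
      hab := hab
      hca := hca
      hcb := hcb
      reg := ?_
      sa := sa
      sb := sb
      sc := sc }
  · intro x y x' y' hxy hxy'
    obtain ⟨w, hw1, hw2, -⟩ := exists_ne3 h4 x y y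
    obtain ⟨w', hw1', hw2', -⟩ := exists_ne3 h4 x' y' y'
    obtain ⟨g, hg1, hg2, -⟩ := h.trans x y w x' y' w' hxy (Ne.symm hw1) (Ne.symm hw2) hxy'
      (Ne.symm hw1') (Ne.symm hw2')
    exact ⟨g, hg1, hg2⟩
  · intro g x y w hxy hyw hxw
    exact h.sharp g x y w hxy hxw hyw
  · obtain ⟨d, hd1, hd2, hd3⟩ := exists_ne3 h4 a b c
    obtain ⟨g, hg1, hg2, hg3⟩ := h.trans a b c a b d hab (Ne.symm hca) (Ne.symm hcb) hab
      (Ne.symm hd1) (Ne.symm hd2)
    refine ⟨g, ?_, a, b, hab, hg1, hg2⟩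
    intro hg
    rw [hg, one_smul] at hg3
    exact hd3 hg3.symm
  · intro x y hxa hxb hya hyb
    exact h.trans a b x a b y hab (Ne.symm hxa) (Ne.symm hxb) hab (Ne.symm hya) (Ne.symm hyb)

end Cfsg.Agent.Lib.Helper17.S3B

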