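import Cfsg.Agent.Lib.Helper17.Small1092Tests
import Cfsg.Agent.S0499

/-! Generated case split for S0496: orders 1001..1092. -/

set_option autoImplicit false
set_option maxHeartbeats 4000000
set_option maxRecDepth 100000

namespace Cfsg.Agent.Lib.Helper17.Small1092

theorem chunk10 {G : Type*} [Group G] [Finite G] [IsSimpleGroup G] (hG : ¬ IsMulCommutative G)
    (n : ℕ) (hn : Nat.card G = n) (hlo : 1001 ≤ n) (hhi : n ≤ 1092) (h1092 : n ≠ 1092) : False := by
  interval_cases n
  · exact Cfsg.Agent.Lib.Helper12.false_of_sylow_test hG 1001 13 1 77 hn (by norm_num) (by norm_num) (by norm_num) (by norm_num) (by decide)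
  · exact Cfsg.Agent.Lib.Helper12.false_of_sylow_test hG 1002 167 1 6 hn (by norm_num) (by norm_num) (by norm_num) (by norm_num) (by decide)
  · exact Cfsg.Agent.Lib.Helper12.false_of_sylow_test hG 1003 59 1 17 hn (by norm_num) (by norm_num) (by norm_num) (by norm_num) (by decide)
  · exact Cfsg.Agent.Lib.Helper12.false_of_sylow_test hG 1004 251 1 4 hn (by norm_num) (by norm_num) (by norm_num) (by norm_num) (by decide)
  · exact Cfsg.Agent.Lib.Helper12.false_of_sylow_test hG 1005 67 1 15 hn (by norm_num) (by norm_num) (by norm_num) (by norm_num) (by decide)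
  · exact Cfsg.Agent.Lib.Helper12.false_of_sylow_test hG 1006 503 1 2 hn (by norm_num) (by norm_num) (by norm_num) (by norm_num) (by decide)
  · exact Cfsg.Agent.Lib.Helper12.false_of_sylow_test hG 1007 53 1 19 hn (by norm_num) (by norm_num) (by norm_num) (by norm_num) (by decide)
  · exact false_of_refined_test hG 1008 7 144 hn (by norm_num) (by norm_num) (by norm_num) (by decide)
  · exact Cfsg.Agent.Lib.Helper12.false_of_sylow_test hG 1009 1009 1 1 hn (by norm_num) (by norm_num) (by norm_num) (by norm_num) (by decide)
  · exact Cfsg.Agent.Lib.Helper12.false_of_sylow_test hG 1010 101 1 10 hn (by norm_num) (by norm_num) (by norm_num) (by norm_num) (by decide)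
  · exact Cfsg.Agent.Lib.Helper12.false_of_sylow_test hG 1011 337 1 3 hn (by norm_num) (by norm_num) (by norm_num) (by norm_num) (by decide)
  · exact Cfsg.Agent.Lib.Helper12.false_of_sylow_test hG 1012 23 1 44 hn (by norm_num) (by norm_num) (by norm_num) (by norm_num) (by decide)
  · exact Cfsg.Agent.Lib.Helper12.false_of_sylow_test hG 1013 1013 1 1 hn (by norm_num) (by norm_num) (by norm_num) (by norm_num) (by decide)
  · exact Cfsg.Agent.Lib.Helper12.false_of_sylow_test hG 1014 13 2 6 hn (by norm_num) (by norm_num) (by norm_num) (by norm_num) (by decide)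
  · exact Cfsg.Agent.Lib.Helper12.false_of_sylow_test hG 1015 29 1 35 hn (by norm_num) (by norm_num) (by norm_num) (by norm_num) (by decide)
  · exact Cfsg.Agent.Lib.Helper12.false_of_sylow_test hG 1016 127 1 8 hn (by norm_num) (by norm_num) (by norm_num) (by norm_num) (by decide)
  · exact Cfsg.Agent.Lib.Helper12.false_of_sylow_test hG 1017 113 1 9 hn (by norm_num) (by norm_num) (by norm_num) (by norm_num) (by decide)
  · exact Cfsg.Agent.Lib.Helper12.false_of_sylow_test hG 1018 509 1 2 hn (by norm_num) (by norm_num) (by norm_num) (by norm_num) (by decide)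
  · exact Cfsg.Agent.Lib.Helper12.false_of_sylow_test hG 1019 1019 1 1 hn (by norm_num) (by norm_num) (by norm_num) (by norm_num) (by decide)
  · exact Cfsg.Agent.Lib.Helper12.false_of_sylow_test hG 1020 17 1 60 hn (by norm_num) (by norm_num) (by norm_num) (by norm_num) (by decide)
  · exact Cfsg.Agent.Lib.Helper12.false_of_sylow_test hG 1021 1021 1 1 hn (by norm_num) (by norm_num) (by norm_num) (by norm_num) (by decide)
  · exact Cfsg.Agent.Lib.Helper12.false_of_sylow_test hG 1022 73 1 14 hn (by norm_num) (by norm_num) (by norm_num) (by norm_num) (by decide)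
  · exact Cfsg.Agent.Lib.Helper12.false_of_sylow_test hG 1023 31 1 33 hn (by norm_num) (by norm_num) (by norm_num) (by norm_num) (by decide)
  · exact Cfsg.Agent.Lib.Helper12.false_of_sylow_test hG 1024 2 10 1 hn (by norm_num) (by norm_num) (by norm_num) (by norm_num) (by decide)
  · exact Cfsg.Agent.Lib.Helper12.false_of_sylow_test hG 1025 41 1 25 hn (by norm_num) (by norm_num) (by norm_num) (by norm_num) (by decide)
  · exact Cfsg.Agent.Lib.Helper12.false_of_sylow_test hG 1026 19 1 54 hn (by norm_num) (by norm_num) (by norm_num) (by norm_num) (by decide)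
  · exact Cfsg.Agent.Lib.Helper12.false_of_sylow_test hG 1027 79 1 13 hn (by norm_num) (by norm_num) (by norm_num) (by norm_num) (by decide)
  · exact Cfsg.Agent.Lib.Helper12.false_of_sylow_test hG 1028 257 1 4 hn (by norm_num) (by norm_num) (by norm_num) (by norm_num) (by decide)
  · exact Cfsg.Agent.Lib.Helper12.false_of_sylow_test hG 1029 7 3 3 hn (by norm_num) (by norm_num) (by norm_num) (by norm_num) (by decide)
  · exact Cfsg.Agent.Lib.Helper12.false_of_sylow_test hG 1030 103 1 10 hn (by norm_num) (by norm_num) (by norm_num) (by norm_num) (by decide)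
  · exact Cfsg.Agent.Lib.Helper12.false_of_sylow_test hG 1031 1031 1 1 hn (by norm_num) (by norm_num) (by norm_num) (by norm_num) (by decide)
  · exact Cfsg.Agent.Lib.Helper12.false_of_sylow_test hG 1032 43 1 24 hn (by norm_num) (by norm_num) (by norm_num) (by norm_num) (by decide)
  · exact Cfsg.Agent.Lib.Helper12.false_of_sylow_test hG 1033 1033 1 1 hn (by norm_num) (by norm_num) (by norm_num) (by norm_num) (by decide)
  · exact Cfsg.Agent.Lib.Helper12.false_of_sylow_test hG 1034 47 1 22 hn (by norm_num) (by norm_num) (by norm_num) (by norm_num) (by decide)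
  · exact Cfsg.Agent.Lib.Helper12.false_of_sylow_test hG 1035 23 1 45 hn (by norm_num) (by norm_num) (by norm_num) (by norm_num) (by decide)
  · exact Cfsg.Agent.Lib.Helper12.false_of_sylow_test hG 1036 37 1 28 hn (by norm_num) (by norm_num) (by norm_num) (by norm_num) (by decide)
  · exact Cfsg.Agent.Lib.Helper12.false_of_sylow_test hG 1037 61 1 17 hn (by norm_num) (by norm_num) (by norm_num) (by norm_num) (by decide)
  · exact Cfsg.Agent.Lib.Helper12.false_of_sylow_test hG 1038 173 1 6 hn (by norm_num) (by norm_num) (by norm_num) (by norm_num) (by decide)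
  · exact Cfsg.Agent.Lib.Helper12.false_of_sylow_test hG 1039 1039 1 1 hn (by norm_num) (by norm_num) (by norm_num) (by norm_num) (by decide)
  · exact false_of_exceptional_two_test hG 1040 13 80 hn (by norm_num) (by norm_num) (by norm_num) (by norm_num) (by decide) (by decide)
  · exact Cfsg.Agent.Lib.Helper12.false_of_sylow_test hG 1041 347 1 3 hn (by norm_num) (by norm_num) (by norm_num) (by norm_num) (by decide)
  · exact Cfsg.Agent.Lib.Helper12.false_of_sylow_test hG 1042 521 1 2 hn (by norm_num) (by norm_num) (by norm_num) (by norm_num) (by decide)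
  · exact Cfsg.Agent.Lib.Helper12.false_of_sylow_test hG 1043 149 1 7 hn (by norm_num) (by norm_num) (by norm_num) (by norm_num) (by decide)
  · exact Cfsg.Agent.Lib.Helper12.false_of_sylow_test hG 1044 29 1 36 hn (by norm_num) (by norm_num) (by norm_num) (by norm_num) (by decide)
  · exact Cfsg.Agent.Lib.Helper12.false_of_sylow_test hG 1045 19 1 55 hn (by norm_num) (by norm_num) (by norm_num) (by norm_num) (by decide)
  · exact Cfsg.Agent.Lib.Helper12.false_of_sylow_test hG 1046 523 1 2 hn (by norm_num) (by norm_num) (by norm_num) (by norm_num) (by decide)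
  · exact Cfsg.Agent.Lib.Helper12.false_of_sylow_test hG 1047 349 1 3 hn (by norm_num) (by norm_num) (by norm_num) (by norm_num) (by decide)
  · exact Cfsg.Agent.Lib.Helper12.false_of_sylow_test hG 1048 131 1 8 hn (by norm_num) (by norm_num) (by norm_num) (by norm_num) (by decide)
  · exact Cfsg.Agent.Lib.Helper12.false_of_sylow_test hG 1049 1049 1 1 hn (by norm_num) (by norm_num) (by norm_num) (by norm_num) (by decide)
  · have h2 := Cfsg.Agent.S0499.result hG (by rw [hn]; decide)
    rw [hn] at h2; omega
  · exact Cfsg.Agent.Lib.Helper12.false_of_sylow_test hG 1051 1051 1 1 hn (by norm_num) (by norm_num) (by norm_num) (by norm_num) (by decide)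
  · exact Cfsg.Agent.Lib.Helper12.false_of_sylow_test hG 1052 263 1 4 hn (by norm_num) (by norm_num) (by norm_num) (by norm_num) (by decide)
  · exact false_of_two_primes hG 1053 3 13 4 1 hn (by norm_num) (by norm_num) (by norm_num)
  · exact Cfsg.Agent.Lib.Helper12.false_of_sylow_test hG 1054 31 1 34 hn (by norm_num) (by norm_num) (by norm_num) (by norm_num) (by decide)
  · exact Cfsg.Agent.Lib.Helper12.false_of_sylow_test hG 1055 211 1 5 hn (by norm_num) (by norm_num) (by norm_num) (by norm_num) (by decide)
  · exact false_of_refined_test hG 1056 11 96 hn (by norm_num) (by norm_num) (by norm_num) (by decide)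
  · exact Cfsg.Agent.Lib.Helper12.false_of_sylow_test hG 1057 151 1 7 hn (by norm_num) (by norm_num) (by norm_num) (by norm_num) (by decide)
  · exact Cfsg.Agent.Lib.Helper12.false_of_sylow_test hG 1058 23 2 2 hn (by norm_num) (by norm_num) (by norm_num) (by norm_num) (by decide)
  · exact Cfsg.Agent.Lib.Helper12.false_of_sylow_test hG 1059 353 1 3 hn (by norm_num) (by norm_num) (by norm_num) (by norm_num) (by decide)
  · exact Cfsg.Agent.Lib.Helper12.false_of_sylow_test hG 1060 53 1 20 hn (by norm_num) (by norm_num) (by norm_num) (by norm_num) (by decide)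
  · exact Cfsg.Agent.Lib.Helper12.false_of_sylow_test hG 1061 1061 1 1 hn (by norm_num) (by norm_num) (by norm_num) (by norm_num) (by decide)
  · exact Cfsg.Agent.Lib.Helper12.false_of_sylow_test hG 1062 59 1 18 hn (by norm_num) (by norm_num) (by norm_num) (by norm_num) (by decide)
  · exact Cfsg.Agent.Lib.Helper12.false_of_sylow_test hG 1063 1063 1 1 hn (by norm_num) (by norm_num) (by norm_num) (by norm_num) (by decide)
  · exact Cfsg.Agent.Lib.Helper12.false_of_sylow_test hG 1064 19 1 56 hn (by norm_num) (by norm_num) (by norm_num) (by norm_num) (by decide)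
  · exact Cfsg.Agent.Lib.Helper12.false_of_sylow_test hG 1065 71 1 15 hn (by norm_num) (by norm_num) (by norm_num) (by norm_num) (by decide)
  · exact Cfsg.Agent.Lib.Helper12.false_of_sylow_test hG 1066 41 1 26 hn (by norm_num) (by norm_num) (by norm_num) (by norm_num) (by decide)
  · exact Cfsg.Agent.Lib.Helper12.false_of_sylow_test hG 1067 97 1 11 hn (by norm_num) (by norm_num) (by norm_num) (by norm_num) (by decide)
  · exact Cfsg.Agent.Lib.Helper12.false_of_sylow_test hG 1068 89 1 12 hn (by norm_num) (by norm_num) (by norm_num) (by norm_num) (by decide)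
  · exact Cfsg.Agent.Lib.Helper12.false_of_sylow_test hG 1069 1069 1 1 hn (by norm_num) (by norm_num) (by norm_num) (by norm_num) (by decide)
  · exact Cfsg.Agent.Lib.Helper12.false_of_sylow_test hG 1070 107 1 10 hn (by norm_num) (by norm_num) (by norm_num) (by norm_num) (by decide)
  · exact Cfsg.Agent.Lib.Helper12.false_of_sylow_test hG 1071 17 1 63 hn (by norm_num) (by norm_num) (by norm_num) (by norm_num) (by decide)
  · exact Cfsg.Agent.Lib.Helper12.false_of_sylow_test hG 1072 67 1 16 hn (by norm_num) (by norm_num) (by norm_num) (by norm_num) (by decide)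
  · exact Cfsg.Agent.Lib.Helper12.false_of_sylow_test hG 1073 37 1 29 hn (by norm_num) (by norm_num) (by norm_num) (by norm_num) (by decide)
  · exact Cfsg.Agent.Lib.Helper12.false_of_sylow_test hG 1074 179 1 6 hn (by norm_num) (by norm_num) (by norm_num) (by norm_num) (by decide)
  · exact Cfsg.Agent.Lib.Helper12.false_of_sylow_test hG 1075 43 1 25 hn (by norm_num) (by norm_num) (by norm_num) (by norm_num) (by decide)
  · exact Cfsg.Agent.Lib.Helper12.false_of_sylow_test hG 1076 269 1 4 hn (by norm_num) (by norm_num) (by norm_num) (by norm_num) (by decide)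
  · exact Cfsg.Agent.Lib.Helper12.false_of_sylow_test hG 1077 359 1 3 hn (by norm_num) (by norm_num) (by norm_num) (by norm_num) (by decide)
  · exact Cfsg.Agent.Lib.Helper12.false_of_sylow_test hG 1078 11 1 98 hn (by norm_num) (by norm_num) (by norm_num) (by norm_num) (by decide)
  · exact Cfsg.Agent.Lib.Helper12.false_of_sylow_test hG 1079 83 1 13 hn (by norm_num) (by norm_num) (by norm_num) (by norm_num) (by decide)
  · exact Cfsg.Agent.Lib.Helper17.Small1092K.no_simple_1080 hG hn
  · exact Cfsg.Agent.Lib.Helper12.false_of_sylow_test hG 1081 47 1 23 hn (by norm_num) (by norm_num) (by norm_num) (by norm_num) (by decide)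
  · exact Cfsg.Agent.Lib.Helper12.false_of_sylow_test hG 1082 541 1 2 hn (by norm_num) (by norm_num) (by norm_num) (by norm_num) (by decide)
  · exact Cfsg.Agent.Lib.Helper12.false_of_sylow_test hG 1083 19 2 3 hn (by norm_num) (by norm_num) (by norm_num) (by norm_num) (by decide)
  · exact Cfsg.Agent.Lib.Helper12.false_of_sylow_test hG 1084 271 1 4 hn (by norm_num) (by norm_num) (by norm_num) (by norm_num) (by decide)
  · exact Cfsg.Agent.Lib.Helper12.false_of_sylow_test hG 1085 31 1 35 hn (by norm_num) (by norm_num) (by norm_num) (by norm_num) (by decide)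
  · exact Cfsg.Agent.Lib.Helper12.false_of_sylow_test hG 1086 181 1 6 hn (by norm_num) (by norm_num) (by norm_num) (by norm_num) (by decide)
  · exact Cfsg.Agent.Lib.Helper12.false_of_sylow_test hG 1087 1087 1 1 hn (by norm_num) (by norm_num) (by norm_num) (by norm_num) (by decide)
  · exact Cfsg.Agent.Lib.Helper12.false_of_sylow_test hG 1088 17 1 64 hn (by norm_num) (by norm_num) (by norm_num) (by norm_num) (by decide)
  · exact Cfsg.Agent.Lib.Helper12.false_of_sylow_test hG 1089 11 2 9 hn (by norm_num) (by norm_num) (by norm_num) (by norm_num) (by decide)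
  · exact Cfsg.Agent.Lib.Helper12.false_of_sylow_test hG 1090 109 1 10 hn (by norm_num) (by norm_num) (by norm_num) (by norm_num) (by decide)
  · exact Cfsg.Agent.Lib.Helper12.false_of_sylow_test hG 1091 1091 1 1 hn (by norm_num) (by norm_num) (by norm_num) (by norm_num) (by decide)
  · exact absurd rfl h1092

end Cfsg.Agent.Lib.Helper17.Small1092
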