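import Mathlib
import Cfsg.Agent.Lib.Helper12.SmallSimple
import Cfsg.Agent.Lib.Helper04.BurnsidePQ
import Cfsg.Agent.Lib.Helper23.ExceptionalSimple
import Cfsg.Agent.Lib.Helper17.Small1092Keystones

/-!
# Decidable tests for the non-existence of simple groups of a given order (driver of S0496)
-/

set_option autoImplicit false

namespace Cfsg.Agent.Lib.Helper17.Small1092

open Subgroup Cfsg.Agent.Lib.Helper17.Small1092K

variable {G : Type*} [Group G] [Finite G] [IsSimpleGroup G]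

/-- A non-commutative simple group is not solvable. -/
theorem false_of_isSolvable (hG : ¬ IsMulCommutative G) (hs : Group.IsSolvable G) : False := by
  apply hG
  exact ⟨⟨IsSimpleGroup.comm_iff_isSolvable.mpr hs⟩⟩

/-- Orders `p^a q^b`. -/
theorem false_of_two_primes (hG : ¬ IsMulCommutative G) (n p q a b : ℕ) (hn : Nat.card G = n)
    (hp : p.Prime) (hq : q.Prime) (h : n = p ^ a * q ^ b) : False :=
  false_of_isSolvable hG (Cfsg.Agent.Lib.Helper04.burnside_paqb p q a b hp hq (hn.trans h))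

/-- The decidable kill condition for a Sylow count `d` at a prime `p` with `p ∥ n = p * m`. -/
def RefinedKill (p m d : ℕ) : Prop :=
  Nat.gcd (m / d) (p - 1) = 1 ∨
  (d = p + 1 ∧ p ≠ 2 ∧ ¬ (m / (p + 1)) ∣ (p - 1) / 2) ∨
  (d = 2 * p + 1 ∧ p ≠ 2 ∧
    ∀ k ∈ Finset.range p, k ∣ p - 1 → k ∣ m / d → k ≠ 1 → ((p * (m / d)) / k) % 2 = 0) ∨
  (p ≠ 2 ∧ (∀ k ∈ Finset.range p, k ∣ p - 1 → k ∣ m / d → k ≠ 1 → (p * (m / d)) / k = 2 * p) ∧
    ∀ f ∈ Finset.range d, f % p = 1 → f % 4 = d % 4 → ¬ (p * (f - 1) ≤ d - 1 ∨ f ∣ d))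

instance (p m d : ℕ) : Decidable (RefinedKill p m d) := by
  unfold RefinedKill; infer_instance

/-- Refined Sylow test at a prime `p` exactly dividing the order. -/
theorem false_of_refined_test (hG : ¬ IsMulCommutative G) (n p m : ℕ) (hn : Nat.card G = n)
    (hp : p.Prime) (h : n = p * m) (hm : ¬ p ∣ m)
    (hcheck : ∀ d ∈ Finset.range (m + 1), d ∣ m → d % p = 1 → d ≠ 1 → n ∣ d.factorial →
      RefinedKill p m d) : False := by
  have : Fact p.Prime := ⟨hp⟩
  have hcard : Nat.card G = p * m := hn.trans h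
  have hcard' : Nat.card G = p ^ 1 * m := by rw [pow_one]; exact hcard
  obtain ⟨hd, hdp, hd1, hdf⟩ :=
    Cfsg.Agent.Lib.Helper12.sylow_count_spec hG p 1 m Nat.one_pos hcard' hm
  have hm0 : 0 < m := Nat.pos_of_ne_zero (by rintro rfl; exact hm (dvd_zero p))
  set d := Nat.card (Sylow p G) with hdd
  have hdle : d ∈ Finset.range (m + 1) :=
    Finset.mem_range.mpr (Nat.lt_succ_of_le (Nat.le_of_dvd hm0 hd))
  rw [hn] at hdf
  have hkill := hcheck d hdle hd hdp hd1 hdf
  obtain ⟨P⟩ : Nonempty (Sylow p G) := inferInstance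
  obtain ⟨-, hN, hk1, hk2, hk3, hk4⟩ := sylow_prime_data hG p m hcard hm P
  rw [← hdd] at hN hk2 hk4
  set k := (centralizer ((P : Subgroup G) : Set G)).relIndex (normalizer ((P : Subgroup G) : Set G))
    with hkk
  have hp1 : 0 < p - 1 := by have := hp.two_le; omega
  have hkr : k ∈ Finset.range p := by
    have := Nat.le_of_dvd hp1 hk1
    exact Finset.mem_range.mpr (by omega)
  have hk0 : 0 < k := Nat.pos_of_ne_zero (by
    intro h0; rw [h0] at hk1; have := Nat.eq_zero_of_zero_dvd hk1; omega)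
  have hCcard : Nat.card (centralizer ((P : Subgroup G) : Set G)) = (p * (m / d)) / k := by
    rw [← hk4, Nat.mul_div_cancel _ hk0]
  rcases hkill with h1 | ⟨hdp1, hp2, hnd⟩ | ⟨hd2, hp2, hev⟩ | ⟨hp2, hC, hf⟩
  · apply hk3
    have := Nat.dvd_gcd hk2 hk1
    rw [h1] at this
    exact Nat.dvd_one.mp this
  · apply hnd
    exact dvd_of_card_sylow_eq_succ hG p m hp2 hcard hm (hdd ▸ hdp1)
  · apply false_of_card_sylow_eq_two_mul_add_one hG p m hp2 hcard hm (hdd ▸ hd2) P
    rw [hCcard]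
    exact Nat.even_iff.mpr (hev k hkr hk1 hk2 hk3)
  · have hC2 : Nat.card (centralizer ((P : Subgroup G) : Set G)) = 2 * p := by
      rw [hCcard]; exact hC k hkr hk1 hk2 hk3
    obtain ⟨f, hf1, hf2, hf3, hf4⟩ :=
      exists_fixed_of_card_centralizer_eq_two_mul hG p m hp2 hcard hm P hC2
    rw [← hdd] at hf2 hf3 hf4
    exact hf f (Finset.mem_range.mpr hf3) hf1 hf2 hf4

/-- Test at a prime `p` with `p² ∣ n`, using Sylow intersections. -/
theorem false_of_sq_test (hG : ¬ IsMulCommutative G) (n p k m : ℕ) (hn : Nat.card G = n)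
    (hp : p.Prime) (hk : 2 ≤ k) (h : n = p ^ k * m) (hm : ¬ p ∣ m)
    (hcheck : ∀ d ∈ Finset.range (m + 1), d ∣ m → d % p = 1 → d ≠ 1 → n ∣ d.factorial →
      d % p ^ 2 ≠ 1 ∧ ∀ i ∈ Finset.range (m + 1), i ∣ m → i ≠ 1 → p + 1 ≤ m / i →
        ¬ n ∣ i.factorial) : False := by
  have : Fact p.Prime := ⟨hp⟩
  have hcard : Nat.card G = p ^ k * m := hn.trans h
  obtain ⟨hd, hdp, hd1, hdf⟩ :=
    Cfsg.Agent.Lib.Helper12.sylow_count_spec hG p k m (by omega) hcard hm
  have hm0 : 0 < m := Nat.pos_of_ne_zero (by rintro rfl; exact hm (dvd_zero p))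
  set d := Nat.card (Sylow p G) with hdd
  have hdle : d ∈ Finset.range (m + 1) :=
    Finset.mem_range.mpr (Nat.lt_succ_of_le (Nat.le_of_dvd hm0 hd))
  rw [hn] at hdf
  obtain ⟨hmod, hidx⟩ := hcheck d hdle hd hdp hd1 hdf
  apply false_of_sylow_not_modEq_sq hG p k m hk hcard hm hmod
  intro i hi hi1 hle
  rw [hn]
  have him : i ∈ Finset.range (m + 1) :=
    Finset.mem_range.mpr (Nat.lt_succ_of_le (Nat.le_of_dvd hm0 hi))
  exact hidx i him hi hi1 hle

/-- Test via exceptional characters (`e = 2`). -/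
theorem false_of_exceptional_two_test (hG : ¬ IsMulCommutative G) (n p m : ℕ)
    (hn : Nat.card G = n) (hp : p.Prime) (h9 : 9 ≤ p) (h : n = p * m) (hm : ¬ p ∣ m)
    (hcheck : ∀ d ∈ Finset.range (m + 1), d ∣ m → d % p = 1 → d ≠ 1 → n ∣ d.factorial →
      m / d = 2)
    (hdeg : ∀ e ∈ Finset.range (n + 1), e ∣ n → 1 < e →
      (e % p = 1 → ¬ (e + 1) ∣ n) ∧ ((e + 1) % p = 0 → ¬ (e - 1) ∣ n)) : False := by
  have : Fact p.Prime := ⟨hp⟩
  have hcard : Nat.card G = p * m := hn.trans h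
  have hcard' : Nat.card G = p ^ 1 * m := by rw [pow_one]; exact hcard
  obtain ⟨hd, hdp, hd1, hdf⟩ :=
    Cfsg.Agent.Lib.Helper12.sylow_count_spec hG p 1 m Nat.one_pos hcard' hm
  have hm0 : 0 < m := Nat.pos_of_ne_zero (by rintro rfl; exact hm (dvd_zero p))
  set d := Nat.card (Sylow p G) with hdd
  have hdle : d ∈ Finset.range (m + 1) :=
    Finset.mem_range.mpr (Nat.lt_succ_of_le (Nat.le_of_dvd hm0 hd))
  rw [hn] at hdf
  have hmd := hcheck d hdle hd hdp hd1 hdf
  obtain ⟨P⟩ : Nonempty (Sylow p G) := inferInstance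
  obtain ⟨-, hN, hk1, hk2, hk3, hk4⟩ := sylow_prime_data hG p m hcard hm P
  rw [← hdd, hmd] at hN hk2 hk4
  set k := (centralizer ((P : Subgroup G) : Set G)).relIndex (normalizer ((P : Subgroup G) : Set G))
    with hkk
  have hk : k = 2 := by
    have hle := Nat.le_of_dvd (by norm_num) hk2
    have hk0 : k ≠ 0 := by
      intro h0; rw [h0] at hk2; have := Nat.eq_zero_of_zero_dvd hk2; omega
    omega
  rw [hk] at hk4
  have hCP : Nat.card (centralizer ((P : Subgroup G) : Set G)) = p := by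
    have := hk4; omega
  have hP : Nat.card (P : Subgroup G) = p := by
    have := Cfsg.Agent.Lib.Helper23.sylow_card_of_card_eq p 1 m hcard' hm P
    rwa [pow_one] at this
  obtain ⟨δ, ε', e, eΛ, hδ, hε, he1, hedvd, hecong, hΛ0, hΛdvd, heq⟩ :=
    Cfsg.Agent.Lib.Helper23.Exceptional.exceptional_two hG p P hP hCP hN h9
  rw [hn] at hedvd hΛdvd
  have hn0 : 0 < n := by rw [← hn]; exact Nat.card_pos
  have hele : e ∈ Finset.range (n + 1) :=
    Finset.mem_range.mpr (Nat.lt_succ_of_le (Nat.le_of_dvd hn0 hedvd))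
  obtain ⟨hA, hB⟩ := hdeg e hele hedvd he1
  have hp2 : 2 ≤ p := hp.two_le
  rcases hδ with rfl | rfl
  · -- δ = 1
    have hmod : e % p = 1 := by
      have h1 : ((e : ℤ)) % (p : ℤ) = 1 % (p : ℤ) := hecong
      have h2 : (1 : ℤ) % (p : ℤ) = 1 := Int.emod_eq_of_lt (by norm_num) (by exact_mod_cast hp.one_lt)
      rw [h2] at h1
      exact_mod_cast h1
    apply hA hmod
    rcases hε with rfl | rfl
    · have : (eΛ : ℤ) = (e : ℤ) + 1 := by linarith
      have : eΛ = e + 1 := by exact_mod_cast this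
      rw [← this]; exact hΛdvd
    · exfalso
      have h1 : (0 : ℤ) < eΛ := by exact_mod_cast hΛ0
      have h2 : (0 : ℤ) ≤ e := by positivity
      linarith
  · -- δ = -1
    have hmod : (e + 1) % p = 0 := by
      have h1 : (p : ℤ) ∣ (e : ℤ) - (-1) := (Int.modEq_iff_dvd.mp hecong.symm)
      have h2 : (p : ℤ) ∣ ((e + 1 : ℕ) : ℤ) := by
        have : ((e + 1 : ℕ) : ℤ) = (e : ℤ) - (-1) := by push_cast; ring
        rw [this]; exact h1
      exact Nat.mod_eq_zero_of_dvd (by exact_mod_cast h2)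
    apply hB hmod
    rcases hε with rfl | rfl
    · exfalso
      have h1 : (0 : ℤ) < eΛ := by exact_mod_cast hΛ0
      have h2 : (1 : ℤ) < e := by exact_mod_cast he1
      linarith
    · have h3 : (eΛ : ℤ) = (e : ℤ) - 1 := by linarith
      have h4 : eΛ = e - 1 := by
        have h5 : 1 ≤ e := by omega
        zify [h5]; exact h3
      rw [← h4]; exact hΛdvd

end Cfsg.Agent.Lib.Helper17.Small1092
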