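import Mathlib
import Cfsg.Agent.Lib.Helper69.StNDefs

/-!
# K-StN-E4 (keystone 240115, pack S2401, architect helper69): `φ` is injective on `Upos X`

For a finset `Φ` of positive roots that is CLOSED (`(i,j), (j,l) ∈ Φ → (i,l) ∈ Φ`) let
`e4U X Φ = closure {X i j t | (i,j) ∈ Φ}`.  Strong induction on `|Φ|`: pick `(a,b) ∈ Φ` of minimal height
`b - a`; `Φ' = Φ.erase (a,b)` is again closed, `X a b t` normalizes `e4U X Φ'`, so every `g ∈ e4U X Φ` is
`X a b t * g'` with `g' ∈ e4U X Φ'`; `φ (e4U X Φ')` consists of matrices equal to `1` off `Φ'`, so the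
`(a,b)` entry of `φ g` is `t`.
-/

set_option autoImplicit false

namespace Cfsg.Agent.Lib.Helper17.StN

open Cfsg.Agent.Lib.Helper69.StN Matrix

variable {n : ℕ} {K : Type*} [Field K] {S : Type*} [Group S] {X : Fin n → Fin n → K → S}

/-- the subgroup generated by the root elements of a set of roots -/
def e4U (X : Fin n → Fin n → K → S) (Φ : Finset (Fin n × Fin n)) : Subgroup S :=
  Subgroup.closure {g | ∃ i j, ∃ t : K, (i, j) ∈ Φ ∧ g = X i j t}

/-- closed sets of positive roots -/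
def E4Closed (Φ : Finset (Fin n × Fin n)) : Prop :=
  (∀ i j, (i, j) ∈ Φ → i < j) ∧ ∀ i j l, (i, j) ∈ Φ → (j, l) ∈ Φ → (i, l) ∈ Φ

/-- matrices equal to `1` off `Φ` -/
def E4Supp (Φ : Finset (Fin n × Fin n)) (M : Matrix (Fin n) (Fin n) K) : Prop :=
  ∀ i j, (i, j) ∉ Φ → M i j = (1 : Matrix (Fin n) (Fin n) K) i j

theorem e4Supp_one (Φ : Finset (Fin n × Fin n)) : E4Supp Φ (1 : Matrix (Fin n) (Fin n) K) :=
  fun _ _ _ => rfl

theorem e4Supp_mul {Φ : Finset (Fin n × Fin n)} (hΦ : E4Closed Φ) {M N : Matrix (Fin n) (Fin n) K}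
    (hM : E4Supp Φ M) (hN : E4Supp Φ N) : E4Supp Φ (M * N) := by
  intro i l hil
  have key : ∀ j, M i j * N j l =
      (1 : Matrix (Fin n) (Fin n) K) i j * (1 : Matrix (Fin n) (Fin n) K) j l := by
    intro j
    by_cases h1 : (i, j) ∈ Φ
    · have h2 : (j, l) ∉ Φ := fun h2 => hil (hΦ.2 i j l h1 h2)
      rw [hN j l h2]
      by_cases hjl : j = l
      · subst hjl
        rw [hM i j hil]
      · rw [Matrix.one_apply_ne hjl, mul_zero, mul_zero]
    · rw [hM i j h1]
      by_cases hij : i = j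
      · subst hij
        rw [hN i l hil]
      · rw [Matrix.one_apply_ne hij, zero_mul, zero_mul]
  calc (M * N) i l = ∑ j, M i j * N j l := Matrix.mul_apply
    _ = ∑ j, (1 : Matrix (Fin n) (Fin n) K) i j * (1 : Matrix (Fin n) (Fin n) K) j l :=
        Finset.sum_congr rfl (fun j _ => key j)
    _ = (((1 : Matrix (Fin n) (Fin n) K) * (1 : Matrix (Fin n) (Fin n) K)) :
          Matrix (Fin n) (Fin n) K) i l := Matrix.mul_apply.symm
    _ = (1 : Matrix (Fin n) (Fin n) K) i l := by rw [Matrix.one_mul]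

theorem e4Supp_transvection {Φ : Finset (Fin n × Fin n)} {i j : Fin n} (hij : (i, j) ∈ Φ) (t : K) :
    E4Supp Φ (Matrix.transvection i j t) := by
  intro k l hkl
  unfold Matrix.transvection
  rw [Matrix.add_apply, Matrix.single_apply]
  have : ¬ (i = k ∧ j = l) := by
    rintro ⟨rfl, rfl⟩
    exact hkl hij
  rw [if_neg this, add_zero]

/-- the matrix of `φ g` -/
def e4M (φ : S →* SpecialLinearGroup (Fin n) K) (g : S) : Matrix (Fin n) (Fin n) K := (φ g).1

theorem e4M_mul (φ : S →* SpecialLinearGroup (Fin n) K) (x y : S) :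
    e4M φ (x * y) = e4M φ x * e4M φ y := by
  unfold e4M
  rw [map_mul]
  rfl

theorem e4M_one (φ : S →* SpecialLinearGroup (Fin n) K) : e4M φ 1 = 1 := by
  unfold e4M
  rw [map_one]
  rfl

theorem e4M_X {φ : S →* SpecialLinearGroup (Fin n) K} (hφ : IsPhi X φ) {i j : Fin n} (hij : i ≠ j)
    (t : K) : e4M φ (X i j t) = Matrix.transvection i j t := by
  unfold e4M
  rw [hφ i j hij t]
  rfl

/-- the subgroup of elements whose image (and the image of the inverse) is `1` off `Φ` -/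
def e4T (φ : S →* SpecialLinearGroup (Fin n) K) (Φ : Finset (Fin n × Fin n)) (hΦ : E4Closed Φ) :
    Subgroup S where
  carrier := {g | E4Supp Φ (e4M φ g) ∧ E4Supp Φ (e4M φ g⁻¹)}
  mul_mem' := by
    rintro x y ⟨hx, hx'⟩ ⟨hy, hy'⟩
    refine ⟨?_, ?_⟩
    · rw [e4M_mul]
      exact e4Supp_mul hΦ hx hy
    · rw [_root_.mul_inv_rev, e4M_mul]
      exact e4Supp_mul hΦ hy' hx'
  one_mem' := by
    refine ⟨?_, ?_⟩
    · rw [e4M_one]
      exact e4Supp_one Φ
    · rw [inv_one, e4M_one]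
      exact e4Supp_one Φ
  inv_mem' := by
    rintro x ⟨hx, hx'⟩
    refine ⟨hx', ?_⟩
    rw [inv_inv]
    exact hx

theorem e4_phi_supp (hX : IsSt X) {φ : S →* SpecialLinearGroup (Fin n) K} (hφ : IsPhi X φ)
    {Φ : Finset (Fin n × Fin n)} (hΦ : E4Closed Φ) :
    ∀ g ∈ e4U X Φ, E4Supp Φ (e4M φ g) := by
  have hle : e4U X Φ ≤ e4T φ Φ hΦ := by
    unfold e4U
    rw [Subgroup.closure_le]
    rintro g ⟨i, j, t, hij, rfl⟩
    have hne : i ≠ j := (hΦ.1 i j hij).ne
    refine ⟨?_, ?_⟩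
    · rw [e4M_X hφ hne t]
      exact e4Supp_transvection hij t
    · rw [hX.inv hne, e4M_X hφ hne (-t)]
      exact e4Supp_transvection hij (-t)
  intro g hg
  exact (hle hg).1

theorem e4_closed_erase {Φ : Finset (Fin n × Fin n)} (hΦ : E4Closed Φ) {a b : Fin n}
    (hmin : ∀ i j, (i, j) ∈ Φ → b.val - a.val ≤ j.val - i.val) : E4Closed (Φ.erase (a, b)) := by
  refine ⟨fun i j hij => hΦ.1 i j (Finset.mem_of_mem_erase hij), ?_⟩
  intro i j l hij hjl
  have hij' := Finset.mem_of_mem_erase hij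
  have hjl' := Finset.mem_of_mem_erase hjl
  rw [Finset.mem_erase]
  refine ⟨?_, hΦ.2 i j l hij' hjl'⟩
  intro h
  rw [Prod.mk.injEq] at h
  obtain ⟨rfl, rfl⟩ := h
  have h1 := hΦ.1 i j hij'
  have h2 := hΦ.1 j l hjl'
  have h3 := hmin i j hij'
  have h4 : i.val < j.val := h1
  have h5 : j.val < l.val := h2
  omega

theorem e4_conj_mem (hX : IsSt X) {Φ : Finset (Fin n × Fin n)} (hΦ : E4Closed Φ) {a b : Fin n}
    (hab : (a, b) ∈ Φ) (t : K) :
    ∀ g ∈ e4U X (Φ.erase (a, b)), X a b t * g * (X a b t)⁻¹ ∈ e4U X (Φ.erase (a, b)) := by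
  have hab' : a < b := hΦ.1 a b hab
  intro g hg
  unfold e4U at hg
  induction hg using Subgroup.closure_induction with
  | mem g hg =>
    obtain ⟨i, j, s, hij, rfl⟩ := hg
    have hijΦ := Finset.mem_of_mem_erase hij
    have hij' : i < j := hΦ.1 i j hijΦ
    have hgen : ∀ (i' j' : Fin n) (s' : K), (i', j') ∈ Φ.erase (a, b) →
        X i' j' s' ∈ e4U X (Φ.erase (a, b)) :=
      fun i' j' s' h => Subgroup.subset_closure ⟨i', j', s', h, rfl⟩
    by_cases hib : i = b
    · subst hib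
      have haj : (a, j) ∈ Φ.erase (a, i) := by
        rw [Finset.mem_erase]
        refine ⟨?_, hΦ.2 a i j hab hijΦ⟩
        intro h
        rw [Prod.mk.injEq] at h
        exact hij'.ne' h.2
      have h := hX.comm3 a i j hab'.ne hij'.ne (hab'.trans hij').ne t s
      have e : X a i t * X i j s * (X a i t)⁻¹ = X a j (t * s) * X i j s := by
        rw [← h]; group
      rw [e]
      exact (e4U X _).mul_mem (hgen a j _ haj) (hgen i j s hij)
    · by_cases hja : j = a
      · subst hja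
        have hib' : (i, b) ∈ Φ.erase (j, b) := by
          rw [Finset.mem_erase]
          refine ⟨?_, hΦ.2 i j b hijΦ hab⟩
          intro h
          rw [Prod.mk.injEq] at h
          exact hij'.ne h.1
        have h := hX.comm3 i j b hij'.ne hab'.ne (hij'.trans hab').ne s t
        have e : X j b t * X i j s * (X j b t)⁻¹ = (X i b (s * t))⁻¹ * X i j s := by
          rw [← h]; group
        rw [e]
        exact (e4U X _).mul_mem ((e4U X _).inv_mem (hgen i b _ hib')) (hgen i j s hij)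
      · have h := hX.comm a b i j hab'.ne hij'.ne (fun h => hja h.symm) (fun h => hib h.symm) t s
        have e : X a b t * X i j s * (X a b t)⁻¹ = X i j s := by
          rw [h]; group
        rw [e]
        exact hgen i j s hij
  | one =>
    have e : X a b t * 1 * (X a b t)⁻¹ = 1 := by group
    rw [e]
    exact (e4U X _).one_mem
  | mul x y _ _ ihx ihy =>
    have e : X a b t * (x * y) * (X a b t)⁻¹ =
        (X a b t * x * (X a b t)⁻¹) * (X a b t * y * (X a b t)⁻¹) := by group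
    rw [e]
    exact (e4U X _).mul_mem ihx ihy
  | inv x _ ihx =>
    have e : X a b t * x⁻¹ * (X a b t)⁻¹ = (X a b t * x * (X a b t)⁻¹)⁻¹ := by group
    rw [e]
    exact (e4U X _).inv_mem ihx

theorem e4_decomp (hX : IsSt X) {Φ : Finset (Fin n × Fin n)} (hΦ : E4Closed Φ) {a b : Fin n}
    (hab : (a, b) ∈ Φ) :
    ∀ g ∈ e4U X Φ, ∃ t : K, ∃ g' ∈ e4U X (Φ.erase (a, b)), g = X a b t * g' := by
  have hab' : a ≠ b := (hΦ.1 a b hab).ne
  have hnorm := fun t => e4_conj_mem hX hΦ hab t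
  intro g hg
  unfold e4U at hg
  induction hg using Subgroup.closure_induction with
  | mem g hg =>
    obtain ⟨i, j, s, hij, rfl⟩ := hg
    by_cases h : (i, j) = (a, b)
    · rw [Prod.mk.injEq] at h
      obtain ⟨rfl, rfl⟩ := h
      exact ⟨s, 1, (e4U X _).one_mem, by rw [mul_one]⟩
    · refine ⟨0, X i j s, Subgroup.subset_closure ⟨i, j, s, ?_, rfl⟩, ?_⟩
      · rw [Finset.mem_erase]
        exact ⟨h, hij⟩
      · rw [hX.zero hab', one_mul]
  | one =>
    exact ⟨0, 1, (e4U X _).one_mem, by rw [hX.zero hab', one_mul]⟩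
  | mul x y _ _ ihx ihy =>
    obtain ⟨t₁, g₁, hg₁, rfl⟩ := ihx
    obtain ⟨t₂, g₂, hg₂, rfl⟩ := ihy
    refine ⟨t₁ + t₂, X a b (-t₂) * g₁ * (X a b (-t₂))⁻¹ * g₂,
      (e4U X _).mul_mem (hnorm (-t₂) g₁ hg₁) hg₂, ?_⟩
    rw [← hX.add a b hab', ← hX.inv hab']
    group
  | inv x _ ihx =>
    obtain ⟨t, g', hg', rfl⟩ := ihx
    refine ⟨-t, X a b t * g'⁻¹ * (X a b t)⁻¹, hnorm t g'⁻¹ ((e4U X _).inv_mem hg'), ?_⟩
    rw [← hX.inv hab']
    group

theorem e4_entry {Φ : Finset (Fin n × Fin n)} {a b : Fin n} (hab : a ≠ b)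
    {M : Matrix (Fin n) (Fin n) K} (hM : E4Supp Φ M) (h1 : (a, b) ∉ Φ) (h2 : (b, b) ∉ Φ) (t : K) :
    (Matrix.transvection a b t * M) a b = t := by
  unfold Matrix.transvection
  rw [Matrix.add_mul, Matrix.one_mul, Matrix.add_apply, Matrix.single_mul_apply_same, hM a b h1,
    hM b b h2, Matrix.one_apply_ne hab, Matrix.one_apply_eq, zero_add, mul_one]

theorem e4_main (hX : IsSt X) {φ : S →* SpecialLinearGroup (Fin n) K} (hφ : IsPhi X φ) :
    ∀ (k : ℕ) (Φ : Finset (Fin n × Fin n)), Φ.card = k → E4Closed Φ →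
      ∀ g ∈ e4U X Φ, φ g = 1 → g = 1 := by
  intro k
  induction k with
  | zero =>
    intro Φ hcard _ g hg _
    rw [Finset.card_eq_zero] at hcard
    subst hcard
    have hle : e4U X (∅ : Finset (Fin n × Fin n)) ≤ ⊥ := by
      unfold e4U
      rw [Subgroup.closure_le]
      rintro x ⟨i, j, t, hij, -⟩
      exact absurd hij (Finset.notMem_empty _)
    exact Subgroup.mem_bot.mp (hle hg)
  | succ k ih =>
    intro Φ hcard hΦ g hg h1
    have hne : Φ.Nonempty := by
      rw [← Finset.card_pos, hcard]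
      exact Nat.succ_pos k
    obtain ⟨p, hp, hpmin⟩ := Finset.exists_min_image Φ (fun p => p.2.val - p.1.val) hne
    obtain ⟨a, b⟩ := p
    have hmin : ∀ i j, (i, j) ∈ Φ → b.val - a.val ≤ j.val - i.val := fun i j hij => hpmin (i, j) hij
    have hab : a < b := hΦ.1 a b hp
    have hΦ' := e4_closed_erase hΦ hmin
    have hcard' : (Φ.erase (a, b)).card = k := by
      rw [Finset.card_erase_of_mem hp, hcard]
      rfl
    obtain ⟨t, g', hg', rfl⟩ := e4_decomp hX hΦ hp g hg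
    have hS := e4_phi_supp hX hφ hΦ' g' hg'
    have hentry : e4M φ (X a b t * g') a b = t := by
      rw [e4M_mul, e4M_X hφ hab.ne t]
      refine e4_entry hab.ne hS (Finset.notMem_erase _ _) ?_ t
      intro h
      exact lt_irrefl b (hΦ.1 b b (Finset.mem_of_mem_erase h))
    have h1' : e4M φ (X a b t * g') = 1 := by
      unfold e4M
      rw [h1]
      rfl
    rw [h1', Matrix.one_apply_ne hab.ne] at hentry
    subst hentry
    rw [hX.zero hab.ne, one_mul] at h1 ⊢
    exact ih (Φ.erase (a, b)) hcard' hΦ' g' hg' h1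

-- LEAF E4
theorem Upos_inj (hX : IsSt X) {φ : S →* SpecialLinearGroup (Fin n) K} (hφ : IsPhi X φ) :
    ∀ g ∈ Upos X, φ g = 1 → g = 1 := by
  intro g hg h1
  let Φ₀ : Finset (Fin n × Fin n) := Finset.univ.filter (fun p => p.1 < p.2)
  have hmem : ∀ i j : Fin n, (i, j) ∈ Φ₀ ↔ i < j := by
    intro i j
    simp [Φ₀]
  have hΦ₀ : E4Closed Φ₀ := by
    refine ⟨fun i j h => (hmem i j).1 h, fun i j l h1 h2 => ?_⟩
    exact (hmem i l).2 (((hmem i j).1 h1).trans ((hmem j l).1 h2))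
  have hg' : g ∈ e4U X Φ₀ := by
    unfold Upos at hg
    unfold e4U
    refine Subgroup.closure_mono ?_ hg
    rintro x ⟨i, j, t, hij, rfl⟩
    exact ⟨i, j, t, (hmem i j).2 hij, rfl⟩
  exact e4_main hX hφ Φ₀.card Φ₀ rfl hΦ₀ g hg' h1

end Cfsg.Agent.Lib.Helper17.StN
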