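import Mathlib
import Cfsg.Agent.Lib.Helper69.StNDefs

/-!
# K-StN-H2a (keystone 240120, pack S2401, architect helper69): `Nmon` normalizes `Htor`
-/

set_option autoImplicit false

namespace Cfsg.Agent.Lib.Helper17.StN

open Cfsg.Agent.Lib.Helper69.StN Matrix

variable {n : ℕ} {K : Type*} [Field K] {S : Type*} [Group S] {X : Fin n → Fin n → K → S}

-- LEAF H2a (easy: `conj_hh_of_acts`)
theorem Htor_conj_mem (hX : IsSt X) (hN : HasActsN X) {m h : S} (hm : m ∈ Nmon X) (hh' : h ∈ Htor X) :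
    m * h * m⁻¹ ∈ Htor X := by
  obtain ⟨σ, d, hA⟩ := hN m hm
  unfold Htor at hh'
  induction hh' using Subgroup.closure_induction with
  | mem g hg =>
    obtain ⟨i, j, u, hij, hu, rfl⟩ := hg
    have hσ : σ i ≠ σ j := fun e => hij (σ.injective e)
    have hdi := hA.1 i
    have hdj := hA.1 j
    have hc : d i * (d j)⁻¹ ≠ 0 := mul_ne_zero hdi (inv_ne_zero hdj)
    rw [hX.conj_hh_of_acts hA hij hu]
    exact (Htor X).mul_mem (hh_mem_Htor X hσ (mul_ne_zero hc hu))
      ((Htor X).inv_mem (hh_mem_Htor X hσ hc))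
  | one =>
    rw [mul_one, mul_inv_cancel]
    exact (Htor X).one_mem
  | mul a b _ _ iha ihb =>
    have e : m * (a * b) * m⁻¹ = (m * a * m⁻¹) * (m * b * m⁻¹) := by group
    rw [e]
    exact (Htor X).mul_mem iha ihb
  | inv a _ iha =>
    have e : m * a⁻¹ * m⁻¹ = (m * a * m⁻¹)⁻¹ := by group
    rw [e]
    exact (Htor X).inv_mem iha

end Cfsg.Agent.Lib.Helper17.StN
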