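import Cfsg.Agent.Lib.Helper49.StOpDefs
import Cfsg.Agent.Lib.Helper59.StOpR0a

/-!
# K-StOp-C3a (keystone 254816, pack S2548, architect helper49): squares of the simple reflections are `1`
-/

set_option autoImplicit false
set_option linter.unusedSectionVars false

namespace Cfsg.Agent.Lib.Helper17.StOp

open Cfsg Cfsg.Agent.Lib.Helper49.StOp Matrix

variable {m : ℕ} {F : Type*} [Field F]

theorem c3a_swapE_sq (i j : Fin m) : swapE m i j * swapE m i j = 1 := by
  ext a
  rcases a with a | a <;> simp [swapE]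

theorem c3a_crossE_sq (i j : Fin m) (hij : i ≠ j) : crossE m i j * crossE m i j = 1 := by
  unfold crossE
  have hd : Equiv.Perm.Disjoint (Equiv.swap (eI i : OI m) (fI j)) (Equiv.swap (eI j : OI m) (fI i)) := by
    intro a
    by_cases h1 : a = eI i
    · right
      subst h1
      exact Equiv.swap_apply_of_ne_of_ne (fun e => hij (Sum.inl.inj e)) (by simp)
    · by_cases h2 : a = fI j
      · right
        subst h2
        exact Equiv.swap_apply_of_ne_of_ne (by simp) (fun e => hij (Sum.inr.inj e).symm)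
      · left
        exact Equiv.swap_apply_of_ne_of_ne h1 h2
  have hc := hd.commute.eq
  calc Equiv.swap (eI i : OI m) (fI j) * Equiv.swap (eI j) (fI i) *
        (Equiv.swap (eI i) (fI j) * Equiv.swap (eI j) (fI i))
      = Equiv.swap (eI i : OI m) (fI j) * (Equiv.swap (eI j) (fI i) *
        Equiv.swap (eI i) (fI j)) * Equiv.swap (eI j) (fI i) := by group
    _ = Equiv.swap (eI i : OI m) (fI j) * (Equiv.swap (eI i) (fI j) *
        Equiv.swap (eI j) (fI i)) * Equiv.swap (eI j) (fI i) := by rw [hc]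
    _ = (Equiv.swap (eI i : OI m) (fI j) * Equiv.swap (eI i) (fI j)) *
        (Equiv.swap (eI j) (fI i) * Equiv.swap (eI j) (fI i)) := by group
    _ = 1 := by rw [Equiv.swap_mul_self, Equiv.swap_mul_self, one_mul]

theorem c3a_sShort_sq (i j : Fin m) : sShort m F i j * sShort m F i j = 1 := by
  apply mat_injective
  rw [mat_mul, Cfsg.Agent.Lib.Helper59.StOp.mat_sShort, mat_one]
  unfold sShortMat
  rw [← Matrix.permMatrix_mul, c3a_swapE_sq, Matrix.permMatrix_one]

theorem c3a_sCross_sq (i j : Fin m) (hij : i ≠ j) : sCross m F i j * sCross m F i j = 1 := by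
  apply mat_injective
  rw [mat_mul, Cfsg.Agent.Lib.Helper59.StOp.mat_sCross, mat_one]
  unfold sCrossMat
  rw [← Matrix.permMatrix_mul, c3a_crossE_sq i j hij, Matrix.permMatrix_one]

/-- LEAF C3a -/
theorem sq_mem_B (s : OG m F) (hs : s ∈ Sset m F) : s * s ∈ Bsub m F := by
  rcases hs with ⟨i, hi, rfl⟩ | ⟨hm, rfl⟩
  · rw [c3a_sShort_sq]
    exact (Bsub m F).one_mem
  · rw [c3a_sCross_sq _ _ (prevF_ne_lastF hm)]
    exact (Bsub m F).one_mem

end Cfsg.Agent.Lib.Helper17.StOp
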