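import Cfsg.Agent.Lib.Helper49.StOpDefs
import Cfsg.Agent.Lib.Helper59.StOpR0a
import Cfsg.Agent.Lib.Helper08.StSpF3S

/-!
# K-StOp leaf F3S (keystone 254811, S2548 pack of helper49): the rank one identity for the simple
roots `ε_i - ε_{i+1}` of `O⁺_{2m}(F)`

All matrices involved are block diagonal `A ⊕ D` for `OI m = Fin m ⊕ Fin m`; such a matrix is an
isometry of `Σ x_i y_i` as soon as `Aᵀ * D = 1`.  The identity is then the `GL_m` identity
`Helper08.StSp.perm_mul_transvection` on both blocks.  (Self-contained: `f3s_mat_xS` reproves R0b.)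
-/

set_option autoImplicit false
set_option linter.unusedSectionVars false
set_option linter.unusedVariables false
set_option linter.unusedSimpArgs false

namespace Cfsg.Agent.Lib.Helper17.StOp

open Cfsg Cfsg.Agent.Lib.Helper49.StOp Matrix

variable {m : ℕ} {F : Type*} [Field F]

/-- the block diagonal matrix `A ⊕ D` -/
def f3sBlk (A D : Matrix (Fin m) (Fin m) F) : Matrix (OI m) (OI m) F :=
  Matrix.fromBlocks A 0 0 D

theorem f3sBlk_mul (A D A' D' : Matrix (Fin m) (Fin m) F) :
    f3sBlk A D * f3sBlk A' D' = f3sBlk (A * A') (D * D') := by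
  unfold f3sBlk
  simp only [Matrix.fromBlocks_multiply, Matrix.mul_zero, Matrix.zero_mul, add_zero, zero_add]

theorem f3sBlk_one : f3sBlk (1 : Matrix (Fin m) (Fin m) F) 1 = 1 := by
  unfold f3sBlk
  exact Matrix.fromBlocks_one

theorem f3sBlk_mulVec (A D : Matrix (Fin m) (Fin m) F) (u : OI m → F) :
    f3sBlk A D *ᵥ u = Sum.elim (A *ᵥ (u ∘ Sum.inl)) (D *ᵥ (u ∘ Sum.inr)) := by
  unfold f3sBlk
  rw [Matrix.fromBlocks_mulVec]
  simp

/-- `A ⊕ D` preserves `Σ x_i y_i` when `Aᵀ * D = 1` -/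
theorem f3s_quad_blk (A D : Matrix (Fin m) (Fin m) F) (h : Aᵀ * D = 1) (u : OI m → F) :
    Cfsg.quadFormPlus m F (f3sBlk A D *ᵥ u) = Cfsg.quadFormPlus m F u := by
  rw [f3sBlk_mulVec]
  unfold Cfsg.quadFormPlus
  show (A *ᵥ (u ∘ Sum.inl)) ⬝ᵥ (D *ᵥ (u ∘ Sum.inr)) = (u ∘ Sum.inl) ⬝ᵥ (u ∘ Sum.inr)
  rw [Matrix.dotProduct_mulVec, ← Matrix.vecMul_transpose, Matrix.vecMul_vecMul, h,
    Matrix.vecMul_one]

theorem f3s_exists_blk (A D A' D' : Matrix (Fin m) (Fin m) F) (hA : A * A' = 1) (hA' : A' * A = 1)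
    (hD : D * D' = 1) (hD' : D' * D = 1) (h : Aᵀ * D = 1) :
    ∃ g : OG m F, mat g = f3sBlk A D := by
  refine exists_of_isometry (f3sBlk A D) (f3sBlk A' D') ?_ ?_ (f3s_quad_blk A D h)
  · rw [f3sBlk_mul, hA, hD, f3sBlk_one]
  · rw [f3sBlk_mul, hA', hD', f3sBlk_one]

/-- the permutation matrix `sShortMat i j` in block form -/
theorem sShortMat_eq_blk (i j : Fin m) :
    sShortMat m F i j = f3sBlk ((Equiv.swap i j).permMatrix F) ((Equiv.swap i j).permMatrix F) := by
  ext a b
  unfold sShortMat swapE f3sBlk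
  rcases a with a | a <;> rcases b with b | b <;>
    simp [Equiv.Perm.permMatrix, PEquiv.toMatrix_apply]

/-- the root matrix `xSMat i j t` in block form -/
theorem xSMat_eq_blk (i j : Fin m) (t : F) :
    xSMat m F i j t = f3sBlk (Matrix.transvection i j t) (Matrix.transvection j i (-t)) := by
  ext a b
  unfold xSMat Matrix.transvection f3sBlk
  rcases a with a | a <;> rcases b with b | b
  · simp [Matrix.one_apply, Matrix.single_apply]
  · simp [Matrix.one_apply, Matrix.single_apply]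
  · simp [Matrix.one_apply, Matrix.single_apply]
  · simp [Matrix.one_apply, Matrix.single_apply, sub_eq_add_neg]
    split_ifs <;> simp

theorem f3s_transvection_transpose (i j : Fin m) (t : F) :
    (Matrix.transvection i j t)ᵀ = Matrix.transvection j i t := by
  ext a b
  simp [Matrix.transvection, Matrix.transpose_apply, Matrix.one_apply, Matrix.single_apply,
    eq_comm, and_comm]

theorem f3s_transvection_mul_neg (i j : Fin m) (hij : i ≠ j) (t : F) :
    Matrix.transvection i j t * Matrix.transvection i j (-t) = 1 := by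
  rw [Matrix.transvection_mul_transvection_same i j hij t (-t), add_neg_cancel, Matrix.transvection_zero]

/-- R0b reproved: the matrix of `xS i j t` -/
theorem f3s_mat_xS (i j : Fin m) (hij : i ≠ j) (t : F) : mat (xS m F i j t) = xSMat m F i j t := by
  refine mat_ofMat _ ?_
  rw [xSMat_eq_blk]
  refine f3s_exists_blk _ _ (Matrix.transvection i j (-t)) (Matrix.transvection j i t) ?_ ?_ ?_ ?_ ?_
  · exact f3s_transvection_mul_neg i j hij t
  · have := f3s_transvection_mul_neg i j hij (-t)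
    rwa [neg_neg] at this
  · have := f3s_transvection_mul_neg j i hij.symm (-t)
    rwa [neg_neg] at this
  · exact f3s_transvection_mul_neg j i hij.symm t
  · rw [f3s_transvection_transpose]
    exact f3s_transvection_mul_neg j i hij.symm t

open Cfsg.Agent.Lib.Helper08.StSp in
/-- the matrix of the torus element -/
def f3sHMat (i j : Fin m) (t : F) : Matrix (OI m) (OI m) F :=
  f3sBlk (Matrix.diagonal (dShort i j t)) (Matrix.diagonal (dShort j i (-t)))

open Cfsg.Agent.Lib.Helper08.StSp in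
theorem f3s_diag_mul (i j : Fin m) (hij : i ≠ j) (t : F) (ht : t ≠ 0) :
    (Matrix.diagonal (dShort i j t) : Matrix (Fin m) (Fin m) F) * Matrix.diagonal (dShort j i (-t))
      = 1 := by
  rw [Matrix.diagonal_mul_diagonal, ← Matrix.diagonal_one]
  exact congrArg _ (funext fun a => dShort_mul i j hij t ht a)

open Cfsg.Agent.Lib.Helper08.StSp in
theorem f3s_diag_mul' (i j : Fin m) (hij : i ≠ j) (t : F) (ht : t ≠ 0) :
    (Matrix.diagonal (dShort j i (-t)) : Matrix (Fin m) (Fin m) F) * Matrix.diagonal (dShort i j t)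
      = 1 := by
  rw [Matrix.diagonal_mul_diagonal, ← Matrix.diagonal_one]
  exact congrArg _ (funext fun a => by rw [mul_comm]; exact dShort_mul i j hij t ht a)

theorem f3s_exists_h (i j : Fin m) (hij : i ≠ j) (t : F) (ht : t ≠ 0) :
    ∃ g : OG m F, mat g = f3sHMat i j t := by
  unfold f3sHMat
  refine f3s_exists_blk _ _ _ _ (f3s_diag_mul i j hij t ht) (f3s_diag_mul' i j hij t ht)
    (f3s_diag_mul' i j hij t ht) (f3s_diag_mul i j hij t ht) ?_
  rw [Matrix.diagonal_transpose]
  exact f3s_diag_mul i j hij t ht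

/-- the torus element -/
noncomputable def f3sH (i j : Fin m) (t : F) : OG m F := ofMat (f3sHMat i j t)

theorem mat_f3sH (i j : Fin m) (hij : i ≠ j) (t : F) (ht : t ≠ 0) :
    mat (f3sH i j t) = f3sHMat i j t :=
  mat_ofMat _ (f3s_exists_h i j hij t ht)

theorem f3sH_mem_T (i j : Fin m) (hij : i ≠ j) (t : F) (ht : t ≠ 0) :
    f3sH i j t ∈ Tsub m F := by
  rw [mem_Tsub_iff]
  intro a b hab
  rw [mat_f3sH i j hij t ht]
  unfold f3sHMat f3sBlk
  rcases a with a | a <;> rcases b with b | b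
  · have : a ≠ b := fun h => hab (by rw [h])
    simp [Matrix.fromBlocks_apply₁₁, Matrix.diagonal_apply_ne _ this]
  · simp
  · simp
  · have : a ≠ b := fun h => hab (by rw [h])
    simp [Matrix.fromBlocks_apply₂₂, Matrix.diagonal_apply_ne _ this]

open Cfsg.Agent.Lib.Helper08.StSp in
/-- the matrix identity -/
theorem sShortMat_mul_xSMat (i j : Fin m) (hij : i ≠ j) (t : F) (ht : t ≠ 0) :
    sShortMat m F i j * xSMat m F i j t =
      xSMat m F i j t⁻¹ * f3sHMat i j t * xSMat m F j i t⁻¹ := by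
  rw [sShortMat_eq_blk, xSMat_eq_blk, xSMat_eq_blk, xSMat_eq_blk]
  unfold f3sHMat
  rw [f3sBlk_mul, f3sBlk_mul, f3sBlk_mul]
  have h1 := perm_mul_transvection i j hij t ht
  have h2 := perm_mul_transvection j i hij.symm (-t) (neg_ne_zero.mpr ht)
  rw [Equiv.swap_comm j i, inv_neg] at h2
  rw [h1, h2]

theorem rank_one_short_aux (i j : Fin m) (hij : i ≠ j) (t : F) (ht : t ≠ 0) :
    sShort m F i j * xS m F i j t = xS m F i j t⁻¹ * f3sH i j t * xS m F j i t⁻¹ := by
  apply mat_injective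
  rw [mat_mul, mat_mul, mat_mul, Cfsg.Agent.Lib.Helper59.StOp.mat_sShort, f3s_mat_xS i j hij,
    f3s_mat_xS i j hij, f3s_mat_xS j i hij.symm, mat_f3sH i j hij t ht]
  exact sShortMat_mul_xSMat i j hij t ht

/-- LEAF F3S: the rank one identity, simple root `ε_i - ε_{i+1}`. -/
theorem rank_one_short (i : Fin m) (hi : i.val + 1 < m) (t : F) (ht : t ≠ 0) :
    ∃ t' t'' : F, ∃ h ∈ Tsub m F,
      sShort m F i (nxt i hi) * xS m F i (nxt i hi) t =
        xS m F i (nxt i hi) t' * h * xS m F (nxt i hi) i t'' :=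
  ⟨t⁻¹, t⁻¹, f3sH i (nxt i hi) t, f3sH_mem_T _ _ (ne_nxt i hi) t ht,
    rank_one_short_aux i (nxt i hi) (ne_nxt i hi) t ht⟩

end Cfsg.Agent.Lib.Helper17.StOp
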