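import Mathlib

set_option autoImplicit false

namespace Cfsg.Agent.Lib.Helper17

open Subgroup
open scoped Pointwise

variable {G : Type*} [Group G] [Finite G] {p : ℕ} [hp : Fact p.Prime]

/-- If `g₀` normalises `K` and `P` is a Sylow `p`-subgroup of `K`, some `h * g₀` with `h ∈ K`
normalises (the image of) `P`. -/
theorem exists_mul_mem_normalizer_sylow (K : Subgroup G) (P : Sylow p K) (g₀ : G)
    (hg₀ : ∀ h ∈ K, g₀ * h * g₀⁻¹ ∈ K) :
    ∃ h ∈ K, h * g₀ ∈ normalizer (((P : Subgroup K).map K.subtype : Subgroup G) : Set G) := by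
  set P' : Subgroup G := (P : Subgroup K).map K.subtype with hP'
  have hP'K : P' ≤ K := by
    rintro _ ⟨q, _, rfl⟩
    exact q.2
  let Q : Subgroup G := P'.map (MulAut.conj g₀).toMonoidHom
  have hQK : Q ≤ K := by
    rintro _ ⟨q, hq, rfl⟩
    exact hg₀ q (hP'K hq)
  have hcard : Nat.card (Q.subgroupOf K) = p ^ (Nat.card K).factorization p := by
    rw [Nat.card_congr (Subgroup.subgroupOfEquivOfLe hQK).toEquiv,
      Subgroup.card_map_of_injective (MulAut.conj g₀).injective, hP',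
      Subgroup.card_map_of_injective K.subtype_injective]
    exact P.card_eq_multiplicity
  let SQ : Sylow p K := Sylow.ofCard (Q.subgroupOf K) hcard
  obtain ⟨h, hh⟩ := MulAction.exists_smul_eq K SQ P
  refine ⟨h, h.2, ?_⟩
  apply mem_normalizer_fintype
  rintro _ ⟨q, hq, rfl⟩
  have h1 : g₀ * (q : G) * g₀⁻¹ ∈ Q := ⟨(q : G), ⟨q, hq, rfl⟩, by simp [MulAut.conj_apply]⟩
  have h2 : (⟨g₀ * (q : G) * g₀⁻¹, hQK h1⟩ : K) ∈ (SQ : Subgroup K) := by
    change _ ∈ Q.subgroupOf K
    rw [mem_subgroupOf]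
    exact h1
  have h3 : MulAut.conj h • (⟨g₀ * (q : G) * g₀⁻¹, hQK h1⟩ : K) ∈
      MulAut.conj h • (SQ : Subgroup K) := Subgroup.smul_mem_pointwise_smul _ _ _ h2
  rw [← Sylow.coe_subgroup_smul, hh] at h3
  refine ⟨_, h3, ?_⟩
  simp [MulAut.smul_def, MulAut.conj_apply, mul_assoc]

/-- A `p`-element of `K''` normalising a subgroup `P'` whose order is the full `p`-part of
`|K''|` lies in `P'`. -/
theorem mem_of_mem_normalizer_of_card (K'' : Subgroup G) (P' : Subgroup G) (hP'K : P' ≤ K'')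
    (hcard : Nat.card P' = p ^ (Nat.card K'').factorization p) (x : G) (hxK : x ∈ K'')
    {a : ℕ} (hxp : x ^ p ^ a = 1) (hxn : x ∈ normalizer (P' : Set G)) : x ∈ P' := by
  have hcard' : Nat.card (P'.subgroupOf K'') = p ^ (Nat.card K'').factorization p := by
    rw [Nat.card_congr (Subgroup.subgroupOfEquivOfLe hP'K).toEquiv, hcard]
  let S : Sylow p K'' := Sylow.ofCard (P'.subgroupOf K'') hcard'
  let x' : K'' := ⟨x, hxK⟩
  have hpg : IsPGroup p (zpowers x') := by
    rintro ⟨g, hg⟩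
    obtain ⟨j, rfl⟩ := mem_zpowers_iff.mp hg
    refine ⟨a, ?_⟩
    apply Subtype.ext
    apply Subtype.ext
    simp only [SubgroupClass.coe_pow, SubgroupClass.coe_zpow, OneMemClass.coe_one]
    change (x ^ j) ^ p ^ a = 1
    rw [← zpow_natCast, ← zpow_mul, mul_comm, zpow_mul, zpow_natCast, hxp, one_zpow]
  have hnorm : x' ∈ normalizer ((S : Subgroup K'') : Set K'') := by
    rw [mem_normalizer_iff]
    intro y
    change y ∈ P'.subgroupOf K'' ↔ x' * y * x'⁻¹ ∈ P'.subgroupOf K''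
    rw [mem_subgroupOf, mem_subgroupOf]
    exact mem_normalizer_iff.mp hxn y
  have hmem : x' ∈ zpowers x' ⊓ normalizer ((S : Subgroup K'') : Set K'') :=
    ⟨mem_zpowers x', hnorm⟩
  have hmem' : x' ∈ zpowers x' ⊓ (S : Subgroup K'') := by
    rw [← hpg.inf_normalizer_sylow S]
    exact hmem
  have : x' ∈ P'.subgroupOf K'' := hmem'.2
  rw [mem_subgroupOf] at this
  exact this

end Cfsg.Agent.Lib.Helper17
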