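import Mathlib

set_option autoImplicit false

namespace Cfsg.Agent.Lib.Helper17

open Subgroup

variable {P : Type*} [Group P]

/-- Abstract form of Witt's lemma: if `K = K₀ ∪ K₀ g K₀`, `h² ∈ K₀`, `h` normalises `K₀` and
`(g h)³ ∈ K`, then `⟨K, h⟩ = K ∪ K h K`. -/
theorem closure_eq_union_doubleCoset (K K₀ : Subgroup P) (hK₀ : K₀ ≤ K) (g h : P) (hg : g ∈ K)
    (hdec : ∀ x ∈ K, x ∈ K₀ ∨ ∃ a ∈ K₀, ∃ b ∈ K₀, x = a * g * b)
    (hh2 : h ^ 2 ∈ K₀) (hnorm : ∀ x ∈ K₀, h * x * h⁻¹ ∈ K₀) (hbraid : (g * h) ^ 3 ∈ K) :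
    ∀ x ∈ closure ((K : Set P) ∪ {h}), x ∈ K ∨ ∃ a ∈ K, ∃ b ∈ K, x = a * h * b := by
  have hh2K : h ^ 2 ∈ K := hK₀ hh2
  have hhinv : h⁻¹ = (h ^ 2)⁻¹ * h := by group
  have hnorm' : ∀ x ∈ K₀, h⁻¹ * x * h ∈ K₀ := by
    intro x hx
    have h1 : h⁻¹ * x * h = (h ^ 2)⁻¹ * (h * x * h⁻¹) * h ^ 2 := by group
    rw [h1]
    exact K₀.mul_mem (K₀.mul_mem (K₀.inv_mem hh2) (hnorm x hx)) hh2
  -- key: h y h ∈ D for y ∈ K
  have key : ∀ y ∈ K, h * y * h ∈ K ∨ ∃ a ∈ K, ∃ b ∈ K, h * y * h = a * h * b := by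
    intro y hy
    rcases hdec y hy with hy0 | ⟨u, hu, v, hv, rfl⟩
    · left
      have h1 : h * y * h = (h * y * h⁻¹) * h ^ 2 := by group
      rw [h1]
      exact K.mul_mem (hK₀ (hnorm y hy0)) hh2K
    · right
      -- h u g v h = (h u h⁻¹) (h g h) (h⁻¹ v h)
      -- h g h = g⁻¹ c h⁻¹ g⁻¹ = (g⁻¹ c (h^2)⁻¹) h g⁻¹
      refine ⟨(h * u * h⁻¹) * (g⁻¹ * (g * h) ^ 3 * (h ^ 2)⁻¹), ?_, g⁻¹ * (h⁻¹ * v * h), ?_, ?_⟩
      · exact K.mul_mem (hK₀ (hnorm u hu))
          (K.mul_mem (K.mul_mem (K.inv_mem hg) hbraid) (K.inv_mem hh2K))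
      · exact K.mul_mem (K.inv_mem hg) (hK₀ (hnorm' v hv))
      · rw [show (g * h) ^ 3 = g * h * (g * h) * (g * h) from by rw [pow_succ, pow_two]]
        group
  -- the subgroup with carrier D
  let D : Subgroup P :=
    { carrier := {x | x ∈ K ∨ ∃ a ∈ K, ∃ b ∈ K, x = a * h * b}
      one_mem' := Or.inl K.one_mem
      inv_mem' := by
        rintro x (hx | ⟨a, ha, b, hb, rfl⟩)
        · exact Or.inl (K.inv_mem hx)
        · right
          refine ⟨b⁻¹ * (h ^ 2)⁻¹, K.mul_mem (K.inv_mem hb) (K.inv_mem hh2K), a⁻¹, K.inv_mem ha, ?_⟩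
          group
      mul_mem' := by
        rintro x y (hx | ⟨a, ha, b, hb, rfl⟩) (hy | ⟨a', ha', b', hb', rfl⟩)
        · exact Or.inl (K.mul_mem hx hy)
        · right
          exact ⟨x * a', K.mul_mem hx ha', b', hb', by group⟩
        · right
          exact ⟨a, ha, b * y, K.mul_mem hb hy, by group⟩
        · rcases key (b * a') (K.mul_mem hb ha') with h1 | ⟨c, hc, d, hd, h1⟩
          · left
            have h2 : a * h * b * (a' * h * b') = a * (h * (b * a') * h) * b' := by group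
            rw [h2]
            exact K.mul_mem (K.mul_mem ha h1) hb'
          · right
            refine ⟨a * c, K.mul_mem ha hc, d * b', K.mul_mem hd hb', ?_⟩
            have h2 : a * h * b * (a' * h * b') = a * (h * (b * a') * h) * b' := by group
            rw [h2, h1]
            group }
  have hle : closure ((K : Set P) ∪ {h}) ≤ D := by
    rw [closure_le]
    rintro x (hx | hx)
    · exact Or.inl hx
    · right
      rw [Set.mem_singleton_iff] at hx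
      exact ⟨1, K.one_mem, 1, K.one_mem, by rw [hx]; group⟩
  intro x hx
  exact hle hx

end Cfsg.Agent.Lib.Helper17
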