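import Mathlib
import Cfsg.Agent.Lib.Helper17.S3Bridge
import Cfsg.Agent.Lib.Helper26.MinConf
import Cfsg.Agent.S0731

/-!
# Zassenhaus groups with even two point stabilizer (helper17)
-/

set_option autoImplicit false
set_option linter.style.haveILetI false

namespace Cfsg.Agent.Lib.Helper17.ZassEven

open MulAction Cfsg Cfsg.Agent.Lib Cfsg.Agent.Lib.Helper28

variable {G Ω : Type*} [Group G] [MulAction G Ω]

/-- the order of the two point stabilizer divides the number of remaining points -/
theorem card_H_dvd [Finite G] [Fintype Ω] (hpre : ZPre G Ω) {a b : Ω} (hab : a ≠ b)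
    {F : Subgroup G} (hF : IsKer G a F) :
    Nat.card ↥(stabilizer G a ⊓ stabilizer G b) ∣ Fintype.card Ω - 2 := by
  have hFcard := (hpre.card_of_regular_kernel hab F hF.le hF.reg).1
  have hEmem : ∀ g : G, g ∈ (stabilizer G a ⊓ stabilizer G b : Subgroup G) ↔
      g • a = a ∧ g • b = b := by
    intro g
    rw [Subgroup.mem_inf, mem_stabilizer_iff, mem_stabilizer_iff]
  have hnorm : ∀ g ∈ (stabilizer G a ⊓ stabilizer G b : Subgroup G), ∀ t ∈ F, g * t * g⁻¹ ∈ F := by
    intro g hg t ht
    exact hF.conj_mem ((hEmem g).mp hg).1 ht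
  have hfree : ∀ g ∈ (stabilizer G a ⊓ stabilizer G b : Subgroup G), g ≠ 1 → ∀ y ∈ F,
      g * y = y * g → y = 1 := by
    intro g hg hg1 y hy hcomm
    by_contra hy1
    apply hg1
    obtain ⟨hgx, hgb⟩ := (hEmem g).mp hg
    have hyb : y • b ≠ b := hF.fpf y hy hy1 b hab.symm
    have hybx : y • b ≠ a := by
      intro hh
      have h1 := hF.smul_a hy
      rw [← h1] at hh
      exact hab (MulAction.injective y hh).symm
    have hgy : g • (y • b) = y • b := by rw [← mul_smul, hcomm, mul_smul, hgb]
    exact hpre.three g a b (y • b) hab (Ne.symm hyb) (Ne.symm hybx) hgx hgb hgy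
  have h1 : Nat.card ↥(stabilizer G a ⊓ stabilizer G b : Subgroup G) ∣
      Nat.card F - Nat.card (⊥ : Subgroup G) := by
    apply Cfsg.Agent.Lib.Helper26.card_dvd_card_sub_of_free _ F ⊥ bot_le
    · intro g hg
      rw [Subgroup.mem_normalizer_iff]
      intro m
      constructor
      · intro hm
        exact hnorm g hg m hm
      · intro hm
        have := hnorm g⁻¹ (Subgroup.inv_mem _ hg) _ hm
        have h2 : g⁻¹ * (g * m * g⁻¹) * g⁻¹⁻¹ = m := by group
        rwa [h2] at this
    · intro g _
      rw [Subgroup.mem_normalizer_iff]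
      intro m
      rw [Subgroup.mem_bot, Subgroup.mem_bot]
      constructor
      · rintro rfl; group
      · intro hm
        have : m = g⁻¹ * (g * m * g⁻¹) * g := by group
        rw [this, hm]; group
    · intro g hg hg1 y hy hcomm
      rw [Subgroup.mem_bot]
      exact hfree g hg hg1 y hy hcomm
  rw [Subgroup.card_bot, hFcard] at h1
  have : Fintype.card Ω - 1 - 1 = Fintype.card Ω - 2 := by omega
  rwa [this] at h1

/-- a Zassenhaus-type group whose two point stabilizer has even order `|Ω| - 2` has a nontrivial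
linear character (which is nontrivial on the two point stabilizer) -/
theorem exists_hom_of_card_eq [Finite G] [Fintype Ω] (hpre : ZPre G Ω) {a b : Ω} (hab : a ≠ b)
    (hcard : Nat.card ↥(stabilizer G a ⊓ stabilizer G b) = Fintype.card Ω - 2)
    (heven : Even (Nat.card ↥(stabilizer G a ⊓ stabilizer G b))) :
    ∃ φ : G →* ℂˣ, ∃ x : G, x • a = a ∧ x • b = b ∧ φ x ≠ 1 := by
  obtain ⟨h3, hsharp⟩ := Cfsg.Agent.S0731.sharp3 hpre hab hcard
  have hS3 : Sharp3 G Ω := by
    apply sharp3_of_pretransitive h3
    intro g x y w hxy hxw hyw hgx hgy hgw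
    exact hpre.three g x y w hxy hyw hxw hgx hgy hgw
  obtain ⟨c, hca, hcb⟩ := hpre.exists_third hab
  obtain ⟨s, hsa, hsb, hsc⟩ := hS3.trans a b c b a c hab (Ne.symm hca) (Ne.symm hcb)
    (Ne.symm hab) (Ne.symm hcb) (Ne.symm hca)
  have hpos : 0 < Nat.card ↥(stabilizer G a ⊓ stabilizer G b) := Nat.card_pos
  have h4 : 4 ≤ Nat.card Ω := by
    rw [Nat.card_eq_fintype_card]
    obtain ⟨k, hk⟩ := heven
    omega
  have hev : Even (Nat.card Ω) := by
    rw [Nat.card_eq_fintype_card]
    rw [hcard] at heven
    rw [Nat.card_eq_fintype_card] at h4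
    obtain ⟨k, hk⟩ := heven
    exact ⟨k + 1, by omega⟩
  have hsetup := S3B.setup_of_sharp3 hS3 hpre.faithful h4 hab hca hcb hsa hsb hsc
  exact (S3B.exists_index_two hsetup hev).1

/-- a nonabelian-type contradiction: a simple group acting faithfully and transitively has no linear
character which is nontrivial on a point stabilizer -/
theorem false_of_simple [IsSimpleGroup G] (hfaith : ∀ g : G, (∀ x : Ω, g • x = x) → g = 1)
    (htrans : ∀ x y : Ω, ∃ g : G, g • x = y) {a : Ω} (φ : G →* ℂˣ) {x : G} (hxa : x • a = a)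
    (hφ : φ x ≠ 1) : False := by
  rcases (MonoidHom.normal_ker φ).eq_bot_or_eq_top with hk | hk
  · -- `φ` injective, so `G` is commutative
    have hinj : Function.Injective φ := (MonoidHom.ker_eq_bot_iff φ).mp hk
    have hcomm : ∀ u w : G, u * w = w * u := by
      intro u w
      apply hinj
      rw [map_mul, map_mul, mul_comm]
    have hx1 : x = 1 := by
      apply hfaith
      intro y
      obtain ⟨g, hg⟩ := htrans a y
      rw [← hg, ← mul_smul, hcomm, mul_smul, hxa]
    rw [hx1, map_one] at hφ
    exact hφ rfl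
  · have : x ∈ φ.ker := by rw [hk]; exact Subgroup.mem_top x
    exact hφ (MonoidHom.mem_ker.mp this)

end Cfsg.Agent.Lib.Helper17.ZassEven
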